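import Cfsg.Agent.H3.Mu.F42.L0C0
import Cfsg.Agent.H3.Mu.F42.L0C1
import Cfsg.Agent.H3.Mu.F42.L0C2
import Cfsg.Agent.H3.Mu.F42.L0C3
import Cfsg.Agent.H3.Mu.F42.L0C4
import Cfsg.Agent.H3.Mu.F42.L0C5
import Cfsg.Agent.H3.Mu.F42.L0C6
import Cfsg.Agent.H3.Mu.F42.L0C7
import Cfsg.Agent.H3.Mu.F42.L0C8
import Cfsg.Agent.H3.Mu.F42.L0C9
import Cfsg.Agent.H3.Mu.F42.L0C10
import Cfsg.Agent.H3.Mu.F42.L0C11
import Cfsg.Agent.H3.Mu.F42.L0C12
import Cfsg.Agent.H3.Mu.F42.L0C13
import Cfsg.Agent.H3.Mu.F42.L0C14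
import Cfsg.Agent.H3.Mu.F42.L0C15

/-! Generated labelled table of a central extension. -/

set_option autoImplicit false
set_option maxRecDepth 100000

open Cfsg.Agent.L0

namespace Cfsg.Agent.H3.F42

theorem L0chka50 : ∀ j < 50, allR L0chkf 8 j = true := (forall_lt_succ' (forall_lt_succ' (forall_lt_succ' (forall_lt_succ' (forall_lt_succ' (forall_lt_succ' (forall_lt_succ' (forall_lt_succ' (forall_lt_succ' (forall_lt_succ' (forall_lt_succ' (forall_lt_succ' (forall_lt_succ' (forall_lt_succ' (forall_lt_succ' (forall_lt_succ' (forall_lt_succ' (forall_lt_succ' (forall_lt_succ' (forall_lt_succ' (forall_lt_succ' (forall_lt_succ' (forall_lt_succ' (forall_lt_succ' (forall_lt_succ' (forall_lt_succ' (forall_lt_succ' (forall_lt_succ' (forall_lt_succ' (forall_lt_succ' (forall_lt_succ' (forall_lt_succ' (forall_lt_succ' (forall_lt_succ' (forall_lt_succ' (forall_lt_succ' (forall_lt_succ' (forall_lt_succ' (forall_lt_succ' (forall_lt_succ' (forall_lt_succ' (forall_lt_succ'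 (forall_lt_succ' (forall_lt_succ' (forall_lt_succ' (forall_lt_succ' (forall_lt_succ' (forall_lt_succ' (forall_lt_succ' (forall_lt_succ' forall_lt_zero' L0chkb0) L0chkb1) L0chkb2) L0chkb3) L0chkb4) L0chkb5) L0chkb6) L0chkb7) L0chkb8) L0chkb9) L0chkb10) L0chkb11) L0chkb12) L0chkb13) L0chkb14) L0chkb15) L0chkb16) L0chkb17) L0chkb18) L0chkb19) L0chkb20) L0chkb21) L0chkb22) L0chkb23) L0chkb24) L0chkb25) L0chkb26) L0chkb27) L0chkb28) L0chkb29) L0chkb30) L0chkb31) L0chkb32) L0chkb33) L0chkb34) L0chkb35) L0chkb36) L0chkb37) L0chkb38) L0chkb39) L0chkb40) L0chkb41) L0chkb42) L0chkb43) L0chkb44) L0chkb45) L0chkb46) L0chkb47) L0chkb48) L0chkb49)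
theorem L0chka100 : ∀ j < 100, allR L0chkf 8 j = true := (forall_lt_succ' (forall_lt_succ' (forall_lt_succ' (forall_lt_succ' (forall_lt_succ' (forall_lt_succ' (forall_lt_succ' (forall_lt_succ' (forall_lt_succ' (forall_lt_succ' (forall_lt_succ' (forall_lt_succ' (forall_lt_succ' (forall_lt_succ' (forall_lt_succ' (forall_lt_succ' (forall_lt_succ' (forall_lt_succ' (forall_lt_succ' (forall_lt_succ' (forall_lt_succ' (forall_lt_succ' (forall_lt_succ' (forall_lt_succ' (forall_lt_succ' (forall_lt_succ' (forall_lt_succ' (forall_lt_succ' (forall_lt_succ' (forall_lt_succ' (forall_lt_succ' (forall_lt_succ' (forall_lt_succ' (forall_lt_succ' (forall_lt_succ' (forall_lt_succ' (forall_lt_succ' (forall_lt_succ' (forall_lt_succ' (forall_lt_succ' (forall_lt_succ' (forall_lt_succ' (forall_lt_succ' (forall_lt_succ' (forall_lt_succ' (forall_lt_succ' (forall_lt_succ' (forall_lt_succ' (forall_lt_succ' (forall_lt_succ' L0chka50 L0chkb50) L0chkb51) L0chkb52) L0chkb53) L0chkb54) L0chkb55)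 L0chkb56) L0chkb57) L0chkb58) L0chkb59) L0chkb60) L0chkb61) L0chkb62) L0chkb63) L0chkb64) L0chkb65) L0chkb66) L0chkb67) L0chkb68) L0chkb69) L0chkb70) L0chkb71) L0chkb72) L0chkb73) L0chkb74) L0chkb75) L0chkb76) L0chkb77) L0chkb78) L0chkb79) L0chkb80) L0chkb81) L0chkb82) L0chkb83) L0chkb84) L0chkb85) L0chkb86) L0chkb87) L0chkb88) L0chkb89) L0chkb90) L0chkb91) L0chkb92) L0chkb93) L0chkb94) L0chkb95) L0chkb96) L0chkb97) L0chkb98) L0chkb99)
theorem L0chka150 : ∀ j < 150, allR L0chkf 8 j = true := (forall_lt_succ' (forall_lt_succ' (forall_lt_succ' (forall_lt_succ' (forall_lt_succ' (forall_lt_succ' (forall_lt_succ' (forall_lt_succ' (forall_lt_succ' (forall_lt_succ' (forall_lt_succ' (forall_lt_succ' (forall_lt_succ' (forall_lt_succ' (forall_lt_succ' (forall_lt_succ' (forall_lt_succ' (forall_lt_succ' (forall_lt_succ' (forall_lt_succ' (forall_lt_succ' (forall_lt_succ' (forall_lt_succ' (forall_lt_succ' (forall_lt_succ' (forall_lt_succ' (forall_lt_succ' (forall_lt_succ'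 (forall_lt_succ' (forall_lt_succ' (forall_lt_succ' (forall_lt_succ' (forall_lt_succ' (forall_lt_succ' (forall_lt_succ' (forall_lt_succ' (forall_lt_succ' (forall_lt_succ' (forall_lt_succ' (forall_lt_succ' (forall_lt_succ' (forall_lt_succ' (forall_lt_succ' (forall_lt_succ' (forall_lt_succ' (forall_lt_succ' (forall_lt_succ' (forall_lt_succ' (forall_lt_succ' (forall_lt_succ' L0chka100 L0chkb100) L0chkb101) L0chkb102) L0chkb103) L0chkb104) L0chkb105) L0chkb106) L0chkb107) L0chkb108) L0chkb109) L0chkb110) L0chkb111) L0chkb112) L0chkb113) L0chkb114) L0chkb115) L0chkb116) L0chkb117) L0chkb118) L0chkb119) L0chkb120) L0chkb121) L0chkb122) L0chkb123) L0chkb124) L0chkb125) L0chkb126) L0chkb127) L0chkb128) L0chkb129) L0chkb130) L0chkb131) L0chkb132) L0chkb133) L0chkb134) L0chkb135) L0chkb136) L0chkb137) L0chkb138) L0chkb139) L0chkb140) L0chkb141) L0chkb142) L0chkb143) L0chkb144) L0chkb145) L0chkb146) L0chkb147) L0chkb148) L0chkb149)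
theorem L0chka200 : ∀ j < 200, allR L0chkf 8 j = true := (forall_lt_succ' (forall_lt_succ' (forall_lt_succ' (forall_lt_succ' (forall_lt_succ' (forall_lt_succ' (forall_lt_succ' (forall_lt_succ' (forall_lt_succ' (forall_lt_succ' (forall_lt_succ' (forall_lt_succ' (forall_lt_succ' (forall_lt_succ' (forall_lt_succ' (forall_lt_succ' (forall_lt_succ' (forall_lt_succ' (forall_lt_succ' (forall_lt_succ' (forall_lt_succ' (forall_lt_succ' (forall_lt_succ' (forall_lt_succ' (forall_lt_succ' (forall_lt_succ' (forall_lt_succ' (forall_lt_succ' (forall_lt_succ' (forall_lt_succ' (forall_lt_succ' (forall_lt_succ' (forall_lt_succ' (forall_lt_succ' (forall_lt_succ' (forall_lt_succ' (forall_lt_succ' (forall_lt_succ' (forall_lt_succ' (forall_lt_succ' (forall_lt_succ' (forall_lt_succ' (forall_lt_succ' (forall_lt_succ' (forall_lt_succ' (forall_lt_succ' (forall_lt_succ' (forall_lt_succ' (forall_lt_succ' (forall_lt_succ' L0chka150 L0chkb150) L0chkb151) L0chkb152) L0chkb153) L0chkb154)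 L0chkb155) L0chkb156) L0chkb157) L0chkb158) L0chkb159) L0chkb160) L0chkb161) L0chkb162) L0chkb163) L0chkb164) L0chkb165) L0chkb166) L0chkb167) L0chkb168) L0chkb169) L0chkb170) L0chkb171) L0chkb172) L0chkb173) L0chkb174) L0chkb175) L0chkb176) L0chkb177) L0chkb178) L0chkb179) L0chkb180) L0chkb181) L0chkb182) L0chkb183) L0chkb184) L0chkb185) L0chkb186) L0chkb187) L0chkb188) L0chkb189) L0chkb190) L0chkb191) L0chkb192) L0chkb193) L0chkb194) L0chkb195) L0chkb196) L0chkb197) L0chkb198) L0chkb199)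
theorem L0chka250 : ∀ j < 250, allR L0chkf 8 j = true := (forall_lt_succ' (forall_lt_succ' (forall_lt_succ' (forall_lt_succ' (forall_lt_succ' (forall_lt_succ' (forall_lt_succ' (forall_lt_succ' (forall_lt_succ' (forall_lt_succ' (forall_lt_succ' (forall_lt_succ' (forall_lt_succ' (forall_lt_succ' (forall_lt_succ' (forall_lt_succ' (forall_lt_succ' (forall_lt_succ' (forall_lt_succ' (forall_lt_succ' (forall_lt_succ' (forall_lt_succ' (forall_lt_succ' (forall_lt_succ' (forall_lt_succ' (forall_lt_succ' (forall_lt_succ' (forall_lt_succ' (forall_lt_succ' (forall_lt_succ' (forall_lt_succ' (forall_lt_succ' (forall_lt_succ' (forall_lt_succ' (forall_lt_succ' (forall_lt_succ' (forall_lt_succ' (forall_lt_succ' (forall_lt_succ' (forall_lt_succ' (forall_lt_succ' (forall_lt_succ' (forall_lt_succ' (forall_lt_succ' (forall_lt_succ' (forall_lt_succ' (forall_lt_succ' (forall_lt_succ' (forall_lt_succ' (forall_lt_succ' L0chka200 L0chkb200) L0chkb201) L0chkb202) L0chkb203) L0chkb204)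 L0chkb205) L0chkb206) L0chkb207) L0chkb208) L0chkb209) L0chkb210) L0chkb211) L0chkb212) L0chkb213) L0chkb214) L0chkb215) L0chkb216) L0chkb217) L0chkb218) L0chkb219) L0chkb220) L0chkb221) L0chkb222) L0chkb223) L0chkb224) L0chkb225) L0chkb226) L0chkb227) L0chkb228) L0chkb229) L0chkb230) L0chkb231) L0chkb232) L0chkb233) L0chkb234) L0chkb235) L0chkb236) L0chkb237) L0chkb238) L0chkb239) L0chkb240) L0chkb241) L0chkb242) L0chkb243) L0chkb244) L0chkb245) L0chkb246) L0chkb247) L0chkb248) L0chkb249)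
theorem L0chk : ∀ c < 69888, L0chkf c = true := fun c hc =>
  allR_glue (d := 8) (n := 273) (forall_lt_succ' (forall_lt_succ' (forall_lt_succ' (forall_lt_succ' (forall_lt_succ' (forall_lt_succ' (forall_lt_succ' (forall_lt_succ' (forall_lt_succ' (forall_lt_succ' (forall_lt_succ' (forall_lt_succ' (forall_lt_succ' (forall_lt_succ' (forall_lt_succ' (forall_lt_succ' (forall_lt_succ' (forall_lt_succ' (forall_lt_succ' (forall_lt_succ' (forall_lt_succ' (forall_lt_succ' (forall_lt_succ' L0chka250 L0chkb250) L0chkb251) L0chkb252) L0chkb253) L0chkb254) L0chkb255) L0chkb256) L0chkb257) L0chkb258) L0chkb259) L0chkb260) L0chkb261) L0chkb262) L0chkb263) L0chkb264) L0chkb265) L0chkb266) L0chkb267) L0chkb268) L0chkb269) L0chkb270) L0chkb271) L0chkb272) c (lt_of_lt_of_le hc (by norm_num))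

theorem L0rep : Rep 24 R (ZMod 2) 1 (valL L0RL 2) :=
  rep_of_chk (by decide +kernel) (by decide) (by decide) (by decide +kernel) (by decide +kernel)
    (by decide +kernel) le_rfl L0chk

end Cfsg.Agent.H3.F42
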