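import Cfsg.Agent.H3.Mu.F42.Tab
import Cfsg.Agent.H3.Mu.F42.L0D0
import Cfsg.Agent.H3.Mu.F42.L0D1
import Cfsg.Agent.H3.Mu.F42.L0D2
import Cfsg.Agent.H3.Mu.F42.L0D3
import Cfsg.Agent.H3.Mu.F42.L0D4

/-! Generated labelled table of a central extension. -/

set_option autoImplicit false
set_option maxRecDepth 100000

open Cfsg.Agent.L0

namespace Cfsg.Agent.H3.F42

noncomputable def L0Erowtree : BT := (.node (.node (.node (.node (.node (.node (.node L0Erowt0 L0Erowt64) (.node L0Erowt32 L0Erowt96)) (.node (.node L0Erowt16 L0Erowt80) (.node L0Erowt48 L0Erowt112))) (.node (.node (.node L0Erowt8 L0Erowt72) (.node L0Erowt40 L0Erowt104)) (.node (.node L0Erowt24 L0Erowt88) (.node L0Erowt56 L0Erowt120)))) (.node (.node (.node (.node L0Erowt4 L0Erowt68) (.node L0Erowt36 L0Erowt100)) (.node (.node L0Erowt20 L0Erowt84) (.node L0Erowt52 L0Erowt116))) (.node (.node (.node L0Erowt12 L0Erowt76)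 (.node L0Erowt44 L0Erowt108)) (.node (.node L0Erowt28 L0Erowt92) (.node L0Erowt60 L0Erowt124))))) (.node (.node (.node (.node (.node L0Erowt2 L0Erowt66) (.node L0Erowt34 L0Erowt98)) (.node (.node L0Erowt18 L0Erowt82) (.node L0Erowt50 L0Erowt114))) (.node (.node (.node L0Erowt10 L0Erowt74) (.node L0Erowt42 L0Erowt106)) (.node (.node L0Erowt26 L0Erowt90) (.node L0Erowt58 L0Erowt122)))) (.node (.node (.node (.node L0Erowt6 L0Erowt70) (.node L0Erowt38 L0Erowt102)) (.node (.node L0Erowt22 L0Erowt86) (.node L0Erowt54 L0Erowt118))) (.node (.node (.node L0Erowt14 L0Erowt78) (.node L0Erowt46 L0Erowt110)) (.node (.node L0Erowt30 L0Erowt94) (.node L0Erowt62 L0Erowt126)))))) (.node (.node (.node (.node (.node (.node L0Erowt1 L0Erowt65) (.node L0Erowt33 L0Erowt97)) (.node (.node L0Erowt17 L0Erowt81) (.node L0Erowt49 L0Erowt113))) (.node (.node (.node L0Erowt9 L0Erowt73) (.node L0Erowt41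 L0Erowt105)) (.node (.node L0Erowt25 L0Erowt89) (.node L0Erowt57 L0Erowt121)))) (.node (.node (.node (.node L0Erowt5 L0Erowt69) (.node L0Erowt37 L0Erowt101)) (.node (.node L0Erowt21 L0Erowt85) (.node L0Erowt53 L0Erowt117))) (.node (.node (.node L0Erowt13 L0Erowt77) (.node L0Erowt45 L0Erowt109)) (.node (.node L0Erowt29 L0Erowt93) (.node L0Erowt61 L0Erowt125))))) (.node (.node (.node (.node (.node L0Erowt3 L0Erowt67) (.node L0Erowt35 L0Erowt99)) (.node (.node L0Erowt19 L0Erowt83) (.node L0Erowt51 L0Erowt115))) (.node (.node (.node L0Erowt11 L0Erowt75) (.node L0Erowt43 L0Erowt107)) (.node (.node L0Erowt27 L0Erowt91) (.node L0Erowt59 L0Erowt123)))) (.node (.node (.node (.node L0Erowt7 L0Erowt71) (.node L0Erowt39 L0Erowt103)) (.node (.node L0Erowt23 L0Erowt87) (.node L0Erowt55 L0Erowt119))) (.node (.node (.node L0Erowt15 L0Erowt79) (.node L0Erowt47 L0Erowt111)) (.node (.node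 L0Erowt31 L0Erowt95) (.node L0Erowt63 L0Erowt127)))))))

noncomputable def L0Erow : ℕ → ℕ := rowOf L0Erowtree (nat_lit 4) (nat_lit 15) (nat_lit 432) (nat_lit 0xffffffffffffffffffffffffffffffffffffffffffffffffffffffffffffffffffffffffffffffffffffffffffffffffffffffffffff)

noncomputable def L0E : ℕ → ℕ → ℕ := pT L0Erow (nat_lit 18) (nat_lit 262143)

def L0RL : List (List ℕ × ℕ) := [([nat_lit 0, nat_lit 0], nat_lit 0),
  ([nat_lit 1, nat_lit 1], nat_lit 0),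
  ([nat_lit 2, nat_lit 2], nat_lit 0),
  ([nat_lit 3, nat_lit 3], nat_lit 0),
  ([nat_lit 4, nat_lit 4], nat_lit 0),
  ([nat_lit 5, nat_lit 5], nat_lit 0),
  ([nat_lit 6, nat_lit 6], nat_lit 0),
  ([nat_lit 7, nat_lit 7], nat_lit 0),
  ([nat_lit 8, nat_lit 8], nat_lit 0),
  ([nat_lit 9, nat_lit 9], nat_lit 0),
  ([nat_lit 10, nat_lit 10], nat_lit 0),
  ([nat_lit 11, nat_lit 11], nat_lit 0),
  ([nat_lit 12, nat_lit 12], nat_lit 0),
  ([nat_lit 13, nat_lit 13], nat_lit 0),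
  ([nat_lit 14, nat_lit 14], nat_lit 0),
  ([nat_lit 15, nat_lit 15], nat_lit 0),
  ([nat_lit 16, nat_lit 16], nat_lit 0),
  ([nat_lit 17, nat_lit 17], nat_lit 0),
  ([nat_lit 18, nat_lit 18], nat_lit 0),
  ([nat_lit 19, nat_lit 19], nat_lit 0),
  ([nat_lit 20, nat_lit 20], nat_lit 0),
  ([nat_lit 21, nat_lit 21], nat_lit 0),
  ([nat_lit 22, nat_lit 22], nat_lit 0),
  ([nat_lit 23, nat_lit 23], nat_lit 0),
  ([nat_lit 2, nat_lit 1, nat_lit 2, nat_lit 3, nat_lit 2, nat_lit 1, nat_lit 2, nat_lit 8], nat_lit 0),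
  ([nat_lit 8, nat_lit 0, nat_lit 8, nat_lit 9], nat_lit 1),
  ([nat_lit 8, nat_lit 6, nat_lit 8, nat_lit 10], nat_lit 0),
  ([nat_lit 4, nat_lit 0, nat_lit 8, nat_lit 0, nat_lit 4, nat_lit 11], nat_lit 0),
  ([nat_lit 4, nat_lit 5, nat_lit 1, nat_lit 6, nat_lit 5, nat_lit 6, nat_lit 1, nat_lit 5, nat_lit 4, nat_lit 12], nat_lit 1),
  ([nat_lit 0, nat_lit 1, nat_lit 0, nat_lit 13], nat_lit 0),
  ([nat_lit 0, nat_lit 12, nat_lit 0, nat_lit 14], nat_lit 0),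
  ([nat_lit 0, nat_lit 10, nat_lit 0, nat_lit 15], nat_lit 1),
  ([nat_lit 11, nat_lit 1, nat_lit 11, nat_lit 16], nat_lit 0),
  ([nat_lit 9, nat_lit 1, nat_lit 9, nat_lit 17], nat_lit 0),
  ([nat_lit 9, nat_lit 6, nat_lit 9, nat_lit 18], nat_lit 0),
  ([nat_lit 9, nat_lit 12, nat_lit 9, nat_lit 19], nat_lit 1),
  ([nat_lit 9, nat_lit 13, nat_lit 9, nat_lit 20], nat_lit 1),
  ([nat_lit 9, nat_lit 14, nat_lit 9, nat_lit 21], nat_lit 0),
  ([nat_lit 13, nat_lit 16, nat_lit 22], nat_lit 1),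
  ([nat_lit 13, nat_lit 21, nat_lit 13, nat_lit 23], nat_lit 0),
  ([nat_lit 18, nat_lit 17, nat_lit 18, nat_lit 17], nat_lit 0),
  ([nat_lit 20, nat_lit 17, nat_lit 20, nat_lit 17], nat_lit 0),
  ([nat_lit 20, nat_lit 18, nat_lit 20, nat_lit 18], nat_lit 0),
  ([nat_lit 21, nat_lit 17, nat_lit 21, nat_lit 17], nat_lit 0),
  ([nat_lit 21, nat_lit 18, nat_lit 21, nat_lit 18], nat_lit 0),
  ([nat_lit 21, nat_lit 20, nat_lit 21, nat_lit 20], nat_lit 0),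
  ([nat_lit 22, nat_lit 17, nat_lit 22, nat_lit 17], nat_lit 0),
  ([nat_lit 22, nat_lit 18, nat_lit 22, nat_lit 18], nat_lit 0),
  ([nat_lit 22, nat_lit 20, nat_lit 22, nat_lit 20], nat_lit 0),
  ([nat_lit 22, nat_lit 21, nat_lit 22, nat_lit 21], nat_lit 0),
  ([nat_lit 23, nat_lit 17, nat_lit 23, nat_lit 17], nat_lit 0),
  ([nat_lit 23, nat_lit 18, nat_lit 23, nat_lit 18], nat_lit 0),
  ([nat_lit 23, nat_lit 20, nat_lit 23, nat_lit 20], nat_lit 0),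
  ([nat_lit 23, nat_lit 21, nat_lit 23, nat_lit 21], nat_lit 0),
  ([nat_lit 23, nat_lit 22, nat_lit 23, nat_lit 22], nat_lit 0),
  ([nat_lit 1, nat_lit 17, nat_lit 1, nat_lit 17], nat_lit 0),
  ([nat_lit 1, nat_lit 18, nat_lit 1, nat_lit 18], nat_lit 0),
  ([nat_lit 1, nat_lit 20, nat_lit 1, nat_lit 20], nat_lit 0),
  ([nat_lit 1, nat_lit 21, nat_lit 1, nat_lit 21], nat_lit 0),
  ([nat_lit 1, nat_lit 22, nat_lit 1, nat_lit 22], nat_lit 0),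
  ([nat_lit 1, nat_lit 23, nat_lit 1, nat_lit 23], nat_lit 0),
  ([nat_lit 10, nat_lit 1, nat_lit 10, nat_lit 1], nat_lit 0),
  ([nat_lit 10, nat_lit 17, nat_lit 10, nat_lit 17], nat_lit 0),
  ([nat_lit 10, nat_lit 18, nat_lit 10, nat_lit 18], nat_lit 0),
  ([nat_lit 10, nat_lit 20, nat_lit 10, nat_lit 20], nat_lit 0),
  ([nat_lit 10, nat_lit 21, nat_lit 10, nat_lit 21], nat_lit 0),
  ([nat_lit 10, nat_lit 22, nat_lit 10, nat_lit 22], nat_lit 0),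
  ([nat_lit 10, nat_lit 23, nat_lit 10, nat_lit 23], nat_lit 0),
  ([nat_lit 13, nat_lit 1, nat_lit 13, nat_lit 1], nat_lit 0),
  ([nat_lit 13, nat_lit 10, nat_lit 13, nat_lit 10], nat_lit 0),
  ([nat_lit 13, nat_lit 17, nat_lit 13, nat_lit 17], nat_lit 0),
  ([nat_lit 13, nat_lit 18, nat_lit 13, nat_lit 18], nat_lit 0),
  ([nat_lit 13, nat_lit 20, nat_lit 13, nat_lit 20], nat_lit 0),
  ([nat_lit 15, nat_lit 1, nat_lit 15, nat_lit 1], nat_lit 0),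
  ([nat_lit 15, nat_lit 10, nat_lit 15, nat_lit 10], nat_lit 0),
  ([nat_lit 15, nat_lit 13, nat_lit 15, nat_lit 13], nat_lit 0),
  ([nat_lit 15, nat_lit 17, nat_lit 15, nat_lit 17], nat_lit 0),
  ([nat_lit 15, nat_lit 18, nat_lit 15, nat_lit 18], nat_lit 0),
  ([nat_lit 15, nat_lit 20, nat_lit 15, nat_lit 20], nat_lit 0),
  ([nat_lit 15, nat_lit 21, nat_lit 15, nat_lit 21], nat_lit 0),
  ([nat_lit 15, nat_lit 22, nat_lit 15, nat_lit 22], nat_lit 0),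
  ([nat_lit 19, nat_lit 10, nat_lit 19, nat_lit 10], nat_lit 0),
  ([nat_lit 19, nat_lit 13, nat_lit 19, nat_lit 13], nat_lit 0),
  ([nat_lit 19, nat_lit 15, nat_lit 19, nat_lit 15], nat_lit 0),
  ([nat_lit 19, nat_lit 17, nat_lit 19, nat_lit 17], nat_lit 0),
  ([nat_lit 19, nat_lit 18, nat_lit 19, nat_lit 18], nat_lit 0),
  ([nat_lit 19, nat_lit 20, nat_lit 19, nat_lit 20], nat_lit 0),
  ([nat_lit 19, nat_lit 21, nat_lit 19, nat_lit 21], nat_lit 0),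
  ([nat_lit 19, nat_lit 22, nat_lit 19, nat_lit 22], nat_lit 0),
  ([nat_lit 19, nat_lit 1, nat_lit 19, nat_lit 1, nat_lit 23, nat_lit 21], nat_lit 0),
  ([nat_lit 3, nat_lit 1, nat_lit 3, nat_lit 1], nat_lit 0),
  ([nat_lit 3, nat_lit 10, nat_lit 3, nat_lit 10], nat_lit 0),
  ([nat_lit 3, nat_lit 13, nat_lit 3, nat_lit 13], nat_lit 0),
  ([nat_lit 3, nat_lit 15, nat_lit 3, nat_lit 15], nat_lit 0),
  ([nat_lit 3, nat_lit 17, nat_lit 3, nat_lit 17], nat_lit 0),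
  ([nat_lit 3, nat_lit 18, nat_lit 3, nat_lit 18], nat_lit 0),
  ([nat_lit 3, nat_lit 19, nat_lit 3, nat_lit 19], nat_lit 0),
  ([nat_lit 3, nat_lit 20, nat_lit 3, nat_lit 20], nat_lit 0),
  ([nat_lit 3, nat_lit 21, nat_lit 3, nat_lit 21], nat_lit 0),
  ([nat_lit 3, nat_lit 22, nat_lit 3, nat_lit 22], nat_lit 0),
  ([nat_lit 6, nat_lit 1, nat_lit 6, nat_lit 1], nat_lit 0),
  ([nat_lit 6, nat_lit 3, nat_lit 6, nat_lit 3], nat_lit 0),
  ([nat_lit 6, nat_lit 10, nat_lit 6, nat_lit 10], nat_lit 0),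
  ([nat_lit 6, nat_lit 13, nat_lit 6, nat_lit 13], nat_lit 0),
  ([nat_lit 6, nat_lit 15, nat_lit 6, nat_lit 15], nat_lit 0),
  ([nat_lit 6, nat_lit 17, nat_lit 6, nat_lit 17], nat_lit 0),
  ([nat_lit 6, nat_lit 18, nat_lit 6, nat_lit 18], nat_lit 0),
  ([nat_lit 6, nat_lit 19, nat_lit 6, nat_lit 19], nat_lit 0),
  ([nat_lit 6, nat_lit 20, nat_lit 6, nat_lit 20], nat_lit 0),
  ([nat_lit 6, nat_lit 21, nat_lit 6, nat_lit 21], nat_lit 0),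
  ([nat_lit 6, nat_lit 22, nat_lit 6, nat_lit 22], nat_lit 0),
  ([nat_lit 12, nat_lit 1, nat_lit 12, nat_lit 1], nat_lit 0),
  ([nat_lit 12, nat_lit 3, nat_lit 12, nat_lit 3], nat_lit 0),
  ([nat_lit 12, nat_lit 6, nat_lit 12, nat_lit 6], nat_lit 0),
  ([nat_lit 12, nat_lit 10, nat_lit 12, nat_lit 10], nat_lit 0),
  ([nat_lit 12, nat_lit 13, nat_lit 12, nat_lit 13], nat_lit 0),
  ([nat_lit 12, nat_lit 15, nat_lit 12, nat_lit 15], nat_lit 0),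
  ([nat_lit 12, nat_lit 18, nat_lit 12, nat_lit 18], nat_lit 0),
  ([nat_lit 12, nat_lit 19, nat_lit 12, nat_lit 19], nat_lit 0),
  ([nat_lit 12, nat_lit 20, nat_lit 12, nat_lit 20], nat_lit 0),
  ([nat_lit 12, nat_lit 21, nat_lit 12, nat_lit 21], nat_lit 0),
  ([nat_lit 14, nat_lit 1, nat_lit 14, nat_lit 1], nat_lit 0),
  ([nat_lit 14, nat_lit 3, nat_lit 14, nat_lit 3], nat_lit 0),
  ([nat_lit 14, nat_lit 6, nat_lit 14, nat_lit 6], nat_lit 0),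
  ([nat_lit 14, nat_lit 10, nat_lit 14, nat_lit 10], nat_lit 0),
  ([nat_lit 14, nat_lit 12, nat_lit 14, nat_lit 12], nat_lit 0),
  ([nat_lit 14, nat_lit 13, nat_lit 14, nat_lit 13], nat_lit 0),
  ([nat_lit 14, nat_lit 15, nat_lit 14, nat_lit 15], nat_lit 0),
  ([nat_lit 14, nat_lit 17, nat_lit 14, nat_lit 17], nat_lit 0),
  ([nat_lit 14, nat_lit 18, nat_lit 14, nat_lit 18], nat_lit 0),
  ([nat_lit 14, nat_lit 19, nat_lit 14, nat_lit 19], nat_lit 0),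
  ([nat_lit 14, nat_lit 21, nat_lit 14, nat_lit 21], nat_lit 0),
  ([nat_lit 12, nat_lit 17, nat_lit 12, nat_lit 23, nat_lit 21, nat_lit 17], nat_lit 0),
  ([nat_lit 12, nat_lit 22, nat_lit 12, nat_lit 23, nat_lit 22, nat_lit 21], nat_lit 0),
  ([nat_lit 14, nat_lit 20, nat_lit 14, nat_lit 23, nat_lit 21, nat_lit 20], nat_lit 0),
  ([nat_lit 14, nat_lit 22, nat_lit 14, nat_lit 23, nat_lit 22, nat_lit 21], nat_lit 0),
  ([nat_lit 9, nat_lit 3, nat_lit 9, nat_lit 3], nat_lit 0),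
  ([nat_lit 9, nat_lit 10, nat_lit 9, nat_lit 10], nat_lit 0),
  ([nat_lit 9, nat_lit 15, nat_lit 9, nat_lit 15], nat_lit 0),
  ([nat_lit 1, nat_lit 9, nat_lit 1, nat_lit 16, nat_lit 9, nat_lit 16], nat_lit 0),
  ([nat_lit 0, nat_lit 3, nat_lit 0, nat_lit 3], nat_lit 0),
  ([nat_lit 0, nat_lit 6, nat_lit 0, nat_lit 6], nat_lit 0),
  ([nat_lit 0, nat_lit 9, nat_lit 0, nat_lit 9], nat_lit 0),
  ([nat_lit 0, nat_lit 22, nat_lit 0, nat_lit 22], nat_lit 0),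
  ([nat_lit 11, nat_lit 0, nat_lit 11, nat_lit 0], nat_lit 0),
  ([nat_lit 11, nat_lit 9, nat_lit 11, nat_lit 9], nat_lit 0),
  ([nat_lit 11, nat_lit 6, nat_lit 11, nat_lit 6, nat_lit 15, nat_lit 10, nat_lit 23, nat_lit 21], nat_lit 0),
  ([nat_lit 6, nat_lit 10, nat_lit 11, nat_lit 15, nat_lit 18, nat_lit 11], nat_lit 1),
  ([nat_lit 11, nat_lit 12, nat_lit 11, nat_lit 14, nat_lit 3, nat_lit 19, nat_lit 15, nat_lit 10, nat_lit 22, nat_lit 21, nat_lit 20, nat_lit 17], nat_lit 0),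
  ([nat_lit 5, nat_lit 1, nat_lit 5, nat_lit 1, nat_lit 5, nat_lit 1], nat_lit 1),
  ([nat_lit 5, nat_lit 12, nat_lit 5, nat_lit 12, nat_lit 5, nat_lit 12], nat_lit 1),
  ([nat_lit 5, nat_lit 13, nat_lit 1, nat_lit 5, nat_lit 0, nat_lit 13, nat_lit 1], nat_lit 1),
  ([nat_lit 5, nat_lit 6, nat_lit 9, nat_lit 6, nat_lit 5, nat_lit 9, nat_lit 6, nat_lit 18], nat_lit 0),
  ([nat_lit 5, nat_lit 17, nat_lit 1, nat_lit 5, nat_lit 9, nat_lit 6, nat_lit 1, nat_lit 18, nat_lit 17], nat_lit 0),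
  ([nat_lit 5, nat_lit 6, nat_lit 5, nat_lit 10, nat_lit 5, nat_lit 6, nat_lit 5, nat_lit 3, nat_lit 10], nat_lit 0),
  ([nat_lit 1, nat_lit 5, nat_lit 12, nat_lit 11, nat_lit 14, nat_lit 19, nat_lit 23, nat_lit 5, nat_lit 16], nat_lit 0),
  ([nat_lit 5, nat_lit 1, nat_lit 12, nat_lit 5, nat_lit 6, nat_lit 5, nat_lit 12, nat_lit 1, nat_lit 5, nat_lit 6], nat_lit 0),
  ([nat_lit 5, nat_lit 1, nat_lit 6, nat_lit 5, nat_lit 6, nat_lit 1, nat_lit 5, nat_lit 14, nat_lit 12, nat_lit 6, nat_lit 13], nat_lit 0),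
  ([nat_lit 5, nat_lit 1, nat_lit 12, nat_lit 5, nat_lit 10, nat_lit 5, nat_lit 12, nat_lit 1, nat_lit 5, nat_lit 3, nat_lit 10], nat_lit 0),
  ([nat_lit 5, nat_lit 10, nat_lit 5, nat_lit 16, nat_lit 5, nat_lit 10, nat_lit 5, nat_lit 14, nat_lit 10, nat_lit 22, nat_lit 21, nat_lit 20], nat_lit 0),
  ([nat_lit 4, nat_lit 6, nat_lit 4, nat_lit 6], nat_lit 0),
  ([nat_lit 8, nat_lit 4, nat_lit 8, nat_lit 4], nat_lit 0),
  ([nat_lit 4, nat_lit 13, nat_lit 4, nat_lit 13, nat_lit 1], nat_lit 1),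
  ([nat_lit 4, nat_lit 14, nat_lit 4, nat_lit 14, nat_lit 1], nat_lit 1),
  ([nat_lit 8, nat_lit 5, nat_lit 8, nat_lit 10, nat_lit 6, nat_lit 5, nat_lit 6, nat_lit 10], nat_lit 0),
  ([nat_lit 4, nat_lit 5, nat_lit 8, nat_lit 5, nat_lit 4, nat_lit 5, nat_lit 8, nat_lit 5], nat_lit 0),
  ([nat_lit 1, nat_lit 8, nat_lit 6, nat_lit 15, nat_lit 12, nat_lit 8, nat_lit 21, nat_lit 20], nat_lit 0),
  ([nat_lit 4, nat_lit 5, nat_lit 4, nat_lit 1, nat_lit 5, nat_lit 4, nat_lit 1, nat_lit 5, nat_lit 1], nat_lit 0),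
  ([nat_lit 0, nat_lit 5, nat_lit 14, nat_lit 8, nat_lit 5, nat_lit 12, nat_lit 5, nat_lit 8, nat_lit 14], nat_lit 0),
  ([nat_lit 2, nat_lit 0, nat_lit 2, nat_lit 0], nat_lit 0),
  ([nat_lit 2, nat_lit 4, nat_lit 2, nat_lit 4], nat_lit 0),
  ([nat_lit 2, nat_lit 5, nat_lit 2, nat_lit 5], nat_lit 0),
  ([nat_lit 2, nat_lit 6, nat_lit 2, nat_lit 6, nat_lit 2, nat_lit 6], nat_lit 0),
  ([nat_lit 2, nat_lit 8, nat_lit 2, nat_lit 5, nat_lit 10, nat_lit 6, nat_lit 5, nat_lit 3], nat_lit 0),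
  ([nat_lit 1, nat_lit 2, nat_lit 1, nat_lit 2, nat_lit 1, nat_lit 2, nat_lit 1, nat_lit 2], nat_lit 0),
  ([nat_lit 2, nat_lit 6, nat_lit 5, nat_lit 6, nat_lit 2, nat_lit 14, nat_lit 12, nat_lit 13, nat_lit 1], nat_lit 0),
  ([nat_lit 7, nat_lit 0, nat_lit 7, nat_lit 0], nat_lit 0),
  ([nat_lit 7, nat_lit 1, nat_lit 7, nat_lit 1], nat_lit 0),
  ([nat_lit 7, nat_lit 4, nat_lit 7, nat_lit 4], nat_lit 0),
  ([nat_lit 7, nat_lit 5, nat_lit 7, nat_lit 5], nat_lit 0),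
  ([nat_lit 7, nat_lit 3, nat_lit 7, nat_lit 3, nat_lit 7, nat_lit 3], nat_lit 0),
  ([nat_lit 6, nat_lit 7, nat_lit 12, nat_lit 7, nat_lit 6, nat_lit 7, nat_lit 12, nat_lit 7], nat_lit 0),
  ([nat_lit 2, nat_lit 3, nat_lit 2, nat_lit 3, nat_lit 7, nat_lit 3, nat_lit 2, nat_lit 3, nat_lit 7], nat_lit 0)]

noncomputable def L0chkf : ℕ → Bool := relChkL L0E (nat_lit 1) (nat_lit 1) (nat_lit 1) (nat_lit 2) (nat_lit 69888) [nat_lit 0, nat_lit 1, nat_lit 2, nat_lit 3, nat_lit 4, nat_lit 5, nat_lit 6, nat_lit 7, nat_lit 8, nat_lit 9, nat_lit 10, nat_lit 11, nat_lit 12, nat_lit 13, nat_lit 14, nat_lit 15, nat_lit 16, nat_lit 17, nat_lit 18, nat_lit 19, nat_lit 20, nat_lit 21, nat_lit 22, nat_lit 23] L0RL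

end Cfsg.Agent.H3.F42
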