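import Cfsg.Agent.H3.Mu.F42.P2c6
import Cfsg.Agent.H3.Mu.F42.P2c7
import Cfsg.Agent.H3.Mu.F42.P2c8
import Cfsg.Agent.H3.Mu.F42.P2c9
import Cfsg.Agent.H3.Mu.F42.P2c10
import Cfsg.Agent.H3.Mu.F42.P2c11
import Cfsg.Agent.H3.Mu.F42.P2c12
import Cfsg.Agent.H3.Mu.F42.P2c13
import Cfsg.Agent.H3.Mu.F42.P2c14
import Cfsg.Agent.H3.Mu.F42.P2c15
import Cfsg.Agent.H3.Mu.F42.P2c16
import Cfsg.Agent.H3.Mu.F42.P2c17
import Cfsg.Agent.H3.Mu.F42.P2a0
import Cfsg.Agent.H3.Mu.F42.P2a1
import Cfsg.Agent.H3.Mu.F42.P2r0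
import Cfsg.Agent.H3.Mu.F42.P2r1
import Cfsg.Agent.H3.Mu.F42.P2f0
import Cfsg.Agent.H3.Mu.F42.P2f1
import Cfsg.Agent.H3.Mu.F42.P2f2
import Cfsg.Agent.H3.Mu.F42.P2g0
import Cfsg.Agent.H3.Mu.F42.P2g1

/-! Checks for the Sylow `2`-subgroup. -/

set_option autoImplicit false
set_option maxRecDepth 100000

open Cfsg.Agent.L0

namespace Cfsg.Agent.H3.F42.P2

theorem pm {G : Type*} [Group G] [Finite G] {A : RAct G 69615} {g : ℕ → G} (hb : A.IsBase B)
    (h : A.Tab g 24 T) (ho : Nat.card G = 3311126603366400) : PMult G 2 1 1 :=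
  pmult_of_tab hb h ho P (show Nat.Prime 2 by norm_num) W fu 1 lam bs mo [cc0, cc1, cc2, cc3, cc4, cc5, cc6, cc7, cc8, cc9, cc10, cc11, cc12, cc13, cc14, cc15, cc16, cc17] CV MU lv 85
    (by decide +kernel) (forall_lt_succ' (forall_lt_succ' (forall_lt_succ' (forall_lt_succ' (forall_lt_succ' (forall_lt_succ' (forall_lt_succ' (forall_lt_succ' (forall_lt_succ' (forall_lt_succ' (forall_lt_succ' (forall_lt_succ' (forall_lt_succ' (forall_lt_succ' (forall_lt_succ' (forall_lt_succ' (forall_lt_succ' (forall_lt_succ' (forall_lt_succ' (forall_lt_succ' (forall_lt_succ' (forall_lt_succ' (forall_lt_succ' (forall_lt_succ' forall_lt_zero' rel0) rel1) rel2) rel3) rel4) rel5) rel6) rel7) rel8) rel9) rel10) rel11) rel12) rel13) rel14) rel15) rel16) rel17) rel18) rel19) rel20) rel21) rel22) rel23) (by decide +kernel)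
    (forall_lt_succ' (forall_lt_succ' (forall_lt_succ' (forall_lt_succ' (forall_lt_succ' (forall_lt_succ' (forall_lt_succ' (forall_lt_succ' (forall_lt_succ' (forall_lt_succ' (forall_lt_succ' (forall_lt_succ' (forall_lt_succ' (forall_lt_succ' (forall_lt_succ' (forall_lt_succ' (forall_lt_succ' (forall_lt_succ' (forall_lt_succ' (forall_lt_succ' (forall_lt_succ' (forall_lt_succ' (forall_lt_succ' (forall_lt_succ' (forall_lt_succ' (forall_lt_succ' (forall_lt_succ' (forall_lt_succ' (forall_lt_succ' (forall_lt_succ' (forall_lt_succ' (forall_lt_succ' (forall_lt_succ' (forall_lt_succ' (forall_lt_succ' (forall_lt_succ' (forall_lt_succ' (forall_lt_succ' (forall_lt_succ' (forall_lt_succ' (forall_lt_succ' (forall_lt_succ' (forall_lt_succ' (forall_lt_succ' (forall_lt_succ' (forall_lt_succ' (forall_lt_succ' (forall_lt_succ' (forall_lt_succ' (forall_lt_succ' (forall_lt_succ' (forall_lt_succ' (forall_lt_succ' (forall_lt_succ' (forall_lt_succ' (forall_lt_succ'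 (forall_lt_succ' (forall_lt_succ' (forall_lt_succ' (forall_lt_succ' (forall_lt_succ' (forall_lt_succ' (forall_lt_succ' (forall_lt_succ' (forall_lt_succ' (forall_lt_succ' (forall_lt_succ' (forall_lt_succ' (forall_lt_succ' (forall_lt_succ' (forall_lt_succ' (forall_lt_succ' (forall_lt_succ' (forall_lt_succ' (forall_lt_succ' (forall_lt_succ' (forall_lt_succ' (forall_lt_succ' (forall_lt_succ' (forall_lt_succ' (forall_lt_succ' (forall_lt_succ' (forall_lt_succ' (forall_lt_succ' (forall_lt_succ' forall_lt_zero' fus0) fus1) fus2) fus3) fus4) fus5) fus6) fus7) fus8) fus9) fus10) fus11) fus12) fus13) fus14) fus15) fus16) fus17) fus18) fus19) fus20) fus21) fus22) fus23) fus24) fus25) fus26) fus27) fus28) fus29) fus30) fus31) fus32) fus33) fus34) fus35) fus36) fus37) fus38) fus39) fus40) fus41) fus42) fus43) fus44) fus45) fus46) fus47) fus48) fus49) fus50) fus51) fus52) fus53) fus54) fus55) fus56) fus57) fus58) fus59) fus60) fus61) fus62) fus63) fus64)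 fus65) fus66) fus67) fus68) fus69) fus70) fus71) fus72) fus73) fus74) fus75) fus76) fus77) fus78) fus79) fus80) fus81) fus82) fus83) fus84)
    (by decide +kernel) (by decide +kernel) (by decide +kernel) (by decide +kernel)
    (List.forall_mem_cons.mpr ⟨con0, (List.forall_mem_cons.mpr ⟨con1, (List.forall_mem_cons.mpr ⟨con2, (List.forall_mem_cons.mpr ⟨con3, (List.forall_mem_cons.mpr ⟨con4, (List.forall_mem_cons.mpr ⟨con5, (List.forall_mem_cons.mpr ⟨con6, (List.forall_mem_cons.mpr ⟨con7, (List.forall_mem_cons.mpr ⟨con8, (List.forall_mem_cons.mpr ⟨con9, (List.forall_mem_cons.mpr ⟨con10, (List.forall_mem_cons.mpr ⟨con11, (List.forall_mem_cons.mpr ⟨con12, (List.forall_mem_cons.mpr ⟨con13, (List.forall_mem_cons.mpr ⟨con14, (List.forall_mem_cons.mpr ⟨con15, (List.forall_mem_cons.mpr ⟨con16, (List.forall_mem_cons.mpr ⟨con17, (by simp)⟩)⟩)⟩)⟩)⟩)⟩)⟩)⟩)⟩)⟩)⟩)⟩)⟩)⟩)⟩)⟩)⟩)⟩)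
    (forall_lt_succ' (forall_lt_succ' (forall_lt_succ' (forall_lt_succ' (forall_lt_succ' (forall_lt_succ' (forall_lt_succ' (forall_lt_succ' (forall_lt_succ' (forall_lt_succ' (forall_lt_succ' (forall_lt_succ' (forall_lt_succ' (forall_lt_succ' (forall_lt_succ' (forall_lt_succ' (forall_lt_succ' (forall_lt_succ' (forall_lt_succ' (forall_lt_succ' (forall_lt_succ' (forall_lt_succ' (forall_lt_succ' (forall_lt_succ' forall_lt_zero' fin0) fin1) fin2) fin3) fin4) fin5) fin6) fin7) fin8) fin9) fin10) fin11) fin12) fin13) fin14) fin15) fin16) fin17) fin18) fin19) fin20) fin21) fin22) fin23) (by decide +kernel)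

end Cfsg.Agent.H3.F42.P2
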