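import Cfsg.Agent.L0.PcCert
import Cfsg.Agent.L0.Dw
import Cfsg.Agent.H3.Mu.F42.Tab

/-! Generated certificate: the `3`-part of a Schur multiplier. -/

set_option autoImplicit false
set_option maxRecDepth 100000

open Cfsg.Agent.L0

namespace Cfsg.Agent.H3.F42.P3

noncomputable def W : List (List ℕ) := [
  dw (nat_lit 5) (nat_lit 31) (nat_lit 29) (nat_lit 0x173c8ac3cca638a22608a6291812812e32832),
  dw (nat_lit 5) (nat_lit 31) (nat_lit 29) (nat_lit 0x93b8af3b84c390a2888c5214c5025cc30c35),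
  dw (nat_lit 5) (nat_lit 31) (nat_lit 34) (nat_lit 0x10771d872898760822b0a6523146281cc33541bd651),
  dw (nat_lit 5) (nat_lit 31) (nat_lit 26) (nat_lit 0x952a8ee130f61404e124a42bdaa0d651),
  dw (nat_lit 5) (nat_lit 31) (nat_lit 28) (nat_lit 0xa48ae3b0a63944e110a6290c55b98f0de92),
  dw (nat_lit 5) (nat_lit 31) (nat_lit 27) (nat_lit 0x48ee3d5072cce2888b50948c2ad8db5691),
  dw (nat_lit 5) (nat_lit 31) (nat_lit 31) (nat_lit 0x40c751667994c7709a510440228255b0c37b6b1),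
  dw (nat_lit 5) (nat_lit 31) (nat_lit 22) (nat_lit 0x1721587994c7089c2618ab499f4),
  dw (nat_lit 5) (nat_lit 31) (nat_lit 35) (nat_lit 0x1d87095c761c50289a22d42521546281861cd41bd251)]

noncomputable def P : PcP := ⟨nat_lit 3, nat_lit 2, nat_lit 5, nat_lit 0x100100100100100000600400400500001001a011000040042000189000, nat_lit 12, nat_lit 4095, nat_lit 12, nat_lit 4095, nat_lit 3, nat_lit 39, nat_lit 7, nat_lit 7⟩

noncomputable def fu : Fus := ⟨[nat_lit 1024, nat_lit 256, nat_lit 64, nat_lit 16, nat_lit 4, nat_lit 1, nat_lit 1024, nat_lit 256, nat_lit 64, nat_lit 16, nat_lit 4, nat_lit 1, nat_lit 1024, nat_lit 256, nat_lit 64, nat_lit 16, nat_lit 4, nat_lit 1],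
  [nat_lit 2074, nat_lit 326, nat_lit 129, nat_lit 18, nat_lit 6, nat_lit 1, nat_lit 1062, nat_lit 393, nat_lit 66, nat_lit 34, nat_lit 10, nat_lit 1, nat_lit 1120, nat_lit 518, nat_lit 128, nat_lit 33, nat_lit 5, nat_lit 2],
  [nat_lit 6, nat_lit 6, nat_lit 6, nat_lit 6, nat_lit 6, nat_lit 6, nat_lit 7, nat_lit 7, nat_lit 7, nat_lit 7, nat_lit 7, nat_lit 7, nat_lit 8, nat_lit 8, nat_lit 8, nat_lit 8, nat_lit 8, nat_lit 8]⟩

noncomputable def lam : List ℕ := [nat_lit 0x0,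
  nat_lit 0x0,
  nat_lit 0x1000000000001000002000,
  nat_lit 0x0,
  nat_lit 0x2000000000001000000000,
  nat_lit 0x2000000000]

noncomputable def bs : List ℕ := []

noncomputable def mo : List ℕ := []

noncomputable def cv0 : List ℕ := [nat_lit 0x1000000000000000000000000000000000000000000000000000000000000,
  nat_lit 0x2000000000000000000000000000000000000000000000000000,
  nat_lit 0x2002000000000000000000000000000000000000000000000000000,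
  nat_lit 0x2000002000000000000000000000000000000000000000000000000000,
  nat_lit 0x1000000000000001000000000000000000000000000000000000,
  nat_lit 0x1002000000002000000000000000000000000000000000000000000000,
  nat_lit 0x2000001002000000000001000000000000000000000000000000000000,
  nat_lit 0x2000000000000000002000000000000000000000000000000000000000000,
  nat_lit 0x2000001000002002000002002000002000001000000000000000000000000,
  nat_lit 0x1002000002000000002000000000000000000000000002000000000000000,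
  nat_lit 0x2001000000000000000000000000001000000000000000000000000,
  nat_lit 0x1000000000000000000001002000000000000000000000000000000000000000000000000000000,
  nat_lit 0x1000000001000000000001000000000000000000000001000000000000,
  nat_lit 0x2000000000000000002000002000000002000001000000000000000000001000000000000000000,
  nat_lit 0x1001000000000000001002001001002000000002002000000000001000000000000000000000000,
  nat_lit 0x2002000000000002002000000000000001000000000000000000000000001,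
  nat_lit 0x2000000000000000000000000000000001000000000000000000000000000,
  nat_lit 0x1000000000000000000000000000000000000001002001000002000000002000000000001000000000000000000000000,
  nat_lit 0x2000001002000000000001001000000000000000000000000000000000,
  nat_lit 0x1000000000000000000000000000000000000000000000000000000002001000000000000001000000000000000000000000000000000000000,
  nat_lit 0x2000000000000000001000000000000000000000000000000000001000000,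
  nat_lit 0x1000000000000000000000000000000000000000000000000000000000002000000000000000000000000000002000000000000001000000000]

noncomputable def cc0 : List Con := [
  ⟨nat_lit 1, nat_lit 0, nat_lit 0, [nat_lit 16], [], nthN cv0 (nat_lit 0)⟩,
  ⟨nat_lit 0, nat_lit 2, nat_lit 3, [nat_lit 4], [], nthN cv0 (nat_lit 1)⟩,
  ⟨nat_lit 0, nat_lit 0, nat_lit 2, [nat_lit 16], [], nthN cv0 (nat_lit 2)⟩,
  ⟨nat_lit 0, nat_lit 0, nat_lit 2, [nat_lit 4], [], nthN cv0 (nat_lit 3)⟩,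
  ⟨nat_lit 0, nat_lit 1, nat_lit 2, [nat_lit 16], [], nthN cv0 (nat_lit 4)⟩,
  ⟨nat_lit 0, nat_lit 0, nat_lit 3, [nat_lit 4], [], nthN cv0 (nat_lit 5)⟩,
  ⟨nat_lit 0, nat_lit 0, nat_lit 1, [nat_lit 4], [], nthN cv0 (nat_lit 6)⟩,
  ⟨nat_lit 1, nat_lit 1, nat_lit 1, [nat_lit 16], [], nthN cv0 (nat_lit 7)⟩,
  ⟨nat_lit 0, nat_lit 0, nat_lit 1, [nat_lit 16], [], nthN cv0 (nat_lit 8)⟩,
  ⟨nat_lit 1, nat_lit 0, nat_lit 0, [nat_lit 256], [], nthN cv0 (nat_lit 9)⟩,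
  ⟨nat_lit 2, nat_lit 6, nat_lit 0, [nat_lit 3, nat_lit 2], [nat_lit 2, nat_lit 3], nthN cv0 (nat_lit 10)⟩,
  ⟨nat_lit 2, nat_lit 6, nat_lit 0, [nat_lit 4, nat_lit 3], [nat_lit 3, nat_lit 4, nat_lit 5, nat_lit 5], nthN cv0 (nat_lit 11)⟩,
  ⟨nat_lit 2, nat_lit 6, nat_lit 0, [nat_lit 2, nat_lit 1], [nat_lit 1, nat_lit 2], nthN cv0 (nat_lit 12)⟩,
  ⟨nat_lit 2, nat_lit 6, nat_lit 0, [nat_lit 3, nat_lit 0], [nat_lit 0, nat_lit 3, nat_lit 5], nthN cv0 (nat_lit 13)⟩,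
  ⟨nat_lit 2, nat_lit 6, nat_lit 0, [nat_lit 3, nat_lit 1], [nat_lit 1, nat_lit 3, nat_lit 4, nat_lit 4, nat_lit 5, nat_lit 5], nthN cv0 (nat_lit 14)⟩,
  ⟨nat_lit 2, nat_lit 6, nat_lit 0, [nat_lit 0, nat_lit 0, nat_lit 0], [], nthN cv0 (nat_lit 15)⟩,
  ⟨nat_lit 2, nat_lit 7, nat_lit 0, [nat_lit 9, nat_lit 9, nat_lit 9], [], nthN cv0 (nat_lit 16)⟩,
  ⟨nat_lit 2, nat_lit 7, nat_lit 0, [nat_lit 8, nat_lit 6], [nat_lit 6, nat_lit 8, nat_lit 11, nat_lit 11], nthN cv0 (nat_lit 17)⟩,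
  ⟨nat_lit 2, nat_lit 7, nat_lit 0, [nat_lit 10, nat_lit 7], [nat_lit 7, nat_lit 10], nthN cv0 (nat_lit 18)⟩,
  ⟨nat_lit 2, nat_lit 8, nat_lit 0, [nat_lit 16, nat_lit 15], [nat_lit 15, nat_lit 16, nat_lit 17, nat_lit 17], nthN cv0 (nat_lit 19)⟩,
  ⟨nat_lit 2, nat_lit 8, nat_lit 0, [nat_lit 13, nat_lit 13, nat_lit 13], [], nthN cv0 (nat_lit 20)⟩,
  ⟨nat_lit 2, nat_lit 8, nat_lit 0, [nat_lit 14, nat_lit 12], [nat_lit 12, nat_lit 14, nat_lit 17, nat_lit 17], nthN cv0 (nat_lit 21)⟩]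

theorem con0 : allL cc0 (P.conOk fu) = true := by decide +kernel

noncomputable def CV : List (List ℕ) := [cv0]

noncomputable def MU : List (List ℕ) := [[nat_lit 0x446c5e4],
  [nat_lit 0,
  nat_lit 0x19fa84839],
  [nat_lit 0,
  nat_lit 0x103e39,
  nat_lit 0x5e30],
  [nat_lit 0x524773769,
  nat_lit 0,
  nat_lit 0x1cd5e,
  nat_lit 0x521ae84],
  [nat_lit 0x5244061fc,
  nat_lit 0x2e2f256b,
  nat_lit 0xa8,
  nat_lit 0x2fa0aa12d,
  nat_lit 0x88c],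
  [nat_lit 0x120,
  nat_lit 0x3b4,
  nat_lit 0x3,
  nat_lit 0xf,
  nat_lit 0x21,
  nat_lit 0x2]]

noncomputable def lv : List (List (List ℕ) × ℕ × List (ℕ × List ℕ)) := [
  ([[nat_lit 0], [nat_lit 1], [nat_lit 2], [nat_lit 3], [nat_lit 4], [nat_lit 5]], nat_lit 0, [(nat_lit 0, []), (nat_lit 28, [nat_lit 1, nat_lit 0, nat_lit 1, nat_lit 0, nat_lit 3]), (nat_lit 39, [nat_lit 3, nat_lit 3, nat_lit 1, nat_lit 0]), (nat_lit 50, [nat_lit 5, nat_lit 4, nat_lit 0, nat_lit 1]), (nat_lit 168, [nat_lit 2, nat_lit 0, nat_lit 1, nat_lit 0, nat_lit 0]), (nat_lit 383, [nat_lit 3, nat_lit 4, nat_lit 2]), (nat_lit 470, [nat_lit 4, nat_lit 3, nat_lit 4, nat_lit 1]), (nat_lit 569, [nat_lit 4, nat_lit 1, nat_lit 1]), (nat_lit 807, [nat_lit 1, nat_lit 3, nat_lit 2, nat_lit 1]), (nat_lit 995, [nat_lit 3, nat_lit 2, nat_lit 2, nat_lit 0, nat_lit 0]), (nat_lit 1087, [nat_lit 0, nat_lit 3,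 nat_lit 3, nat_lit 1, nat_lit 1, nat_lit 0]), (nat_lit 1334, [nat_lit 5, nat_lit 1, nat_lit 0, nat_lit 1]), (nat_lit 1417, [nat_lit 2, nat_lit 1, nat_lit 0, nat_lit 2]), (nat_lit 1446, [nat_lit 2, nat_lit 0, nat_lit 1, nat_lit 1, nat_lit 0]), (nat_lit 1494, [nat_lit 1, nat_lit 0, nat_lit 3, nat_lit 3, nat_lit 1]), (nat_lit 1571, [nat_lit 3, nat_lit 1, nat_lit 1, nat_lit 3, nat_lit 2, nat_lit 2]), (nat_lit 1603, [nat_lit 5, nat_lit 5, nat_lit 4, nat_lit 4, nat_lit 2, nat_lit 2]), (nat_lit 1646, [nat_lit 0, nat_lit 1, nat_lit 3, nat_lit 1, nat_lit 0]), (nat_lit 1695, [nat_lit 2, nat_lit 1, nat_lit 0, nat_lit 1]), (nat_lit 1719, [nat_lit 3, nat_lit 2, nat_lit 0, nat_lit 0]), (nat_lit 1889, [nat_lit 1, nat_lit 3, nat_lit 1, nat_lit 0, nat_lit 3, nat_lit 0]), (nat_lit 1896, [nat_lit 4, nat_lit 3, nat_lit 4, nat_lit 3, nat_lit 0]), (nat_lit 1943, [nat_lit 2, nat_lit 0,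 nat_lit 3]), (nat_lit 2101, [nat_lit 5, nat_lit 5, nat_lit 3, nat_lit 2]), (nat_lit 2143, [nat_lit 4, nat_lit 4, nat_lit 3, nat_lit 2]), (nat_lit 2574, [nat_lit 0, nat_lit 4, nat_lit 1, nat_lit 3, nat_lit 0]), (nat_lit 2611, [nat_lit 5, nat_lit 5, nat_lit 0, nat_lit 1]), (nat_lit 2704, [nat_lit 3, nat_lit 2, nat_lit 2, nat_lit 1, nat_lit 0]), (nat_lit 2756, [nat_lit 3, nat_lit 4, nat_lit 2, nat_lit 1, nat_lit 1]), (nat_lit 2925, [nat_lit 3, nat_lit 0, nat_lit 1, nat_lit 1, nat_lit 3, nat_lit 0]), (nat_lit 2974, [nat_lit 4, nat_lit 3, nat_lit 1]), (nat_lit 3372, [nat_lit 1, nat_lit 3, nat_lit 0, nat_lit 3, nat_lit 0]), (nat_lit 3386, [nat_lit 4, nat_lit 1, nat_lit 3, nat_lit 1, nat_lit 0]), (nat_lit 3476, [nat_lit 0, nat_lit 0, nat_lit 1, nat_lit 3, nat_lit 3]), (nat_lit 3805, [nat_lit 3, nat_lit 0, nat_lit 3, nat_lit 1, nat_lit 1, nat_lit 0]), (nat_lit 3806, [nat_lit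 5, nat_lit 3, nat_lit 0]), (nat_lit 3871, [nat_lit 3, nat_lit 1, nat_lit 3, nat_lit 1, nat_lit 0, nat_lit 0]), (nat_lit 4056, [nat_lit 2, nat_lit 0, nat_lit 2, nat_lit 0]), (nat_lit 4076, [nat_lit 0, nat_lit 0, nat_lit 4]), (nat_lit 4173, [nat_lit 1, nat_lit 3, nat_lit 2]), (nat_lit 4252, [nat_lit 2, nat_lit 0]), (nat_lit 4311, [nat_lit 4, nat_lit 2, nat_lit 0, nat_lit 0]), (nat_lit 4406, [nat_lit 5, nat_lit 5, nat_lit 3, nat_lit 2, nat_lit 2]), (nat_lit 4512, [nat_lit 1, nat_lit 1, nat_lit 3, nat_lit 4, nat_lit 0]), (nat_lit 4612, [nat_lit 2, nat_lit 0, nat_lit 3, nat_lit 1, nat_lit 0]), (nat_lit 4657, [nat_lit 3, nat_lit 1, nat_lit 0, nat_lit 2, nat_lit 0]), (nat_lit 4664, [nat_lit 1, nat_lit 0, nat_lit 1, nat_lit 3]), (nat_lit 4672, [nat_lit 4]), (nat_lit 4934, [nat_lit 4, nat_lit 3, nat_lit 2, nat_lit 1]), (nat_lit 4944, [nat_lit 1, nat_lit 3, nat_lit 4]), (nat_lit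 4985, [nat_lit 3, nat_lit 0, nat_lit 3, nat_lit 0]), (nat_lit 5002, [nat_lit 3, nat_lit 0, nat_lit 1, nat_lit 3]), (nat_lit 5119, [nat_lit 3, nat_lit 3, nat_lit 0, nat_lit 2, nat_lit 2, nat_lit 0]), (nat_lit 5143, [nat_lit 3, nat_lit 4, nat_lit 2, nat_lit 2, nat_lit 0]), (nat_lit 5172, [nat_lit 1, nat_lit 1, nat_lit 0, nat_lit 3, nat_lit 0]), (nat_lit 5438, [nat_lit 5, nat_lit 5, nat_lit 1, nat_lit 1, nat_lit 0]), (nat_lit 5456, [nat_lit 4, nat_lit 0, nat_lit 1, nat_lit 0, nat_lit 0]), (nat_lit 5724, [nat_lit 5, nat_lit 5, nat_lit 3, nat_lit 1]), (nat_lit 5772, [nat_lit 4, nat_lit 4, nat_lit 3, nat_lit 3, nat_lit 2, nat_lit 2]), (nat_lit 5826, [nat_lit 3, nat_lit 3, nat_lit 2, nat_lit 0, nat_lit 1, nat_lit 0]), (nat_lit 5935, [nat_lit 4, nat_lit 2, nat_lit 2, nat_lit 0]), (nat_lit 6058, [nat_lit 5, nat_lit 1, nat_lit 0, nat_lit 0]), (nat_lit 6167, [nat_lit 4, nat_lit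 4, nat_lit 3, nat_lit 0, nat_lit 0]), (nat_lit 6364, [nat_lit 1, nat_lit 1, nat_lit 3, nat_lit 2, nat_lit 2]), (nat_lit 6468, [nat_lit 4, nat_lit 3, nat_lit 1, nat_lit 1, nat_lit 0]), (nat_lit 6609, [nat_lit 0, nat_lit 4, nat_lit 0]), (nat_lit 6799, [nat_lit 3, nat_lit 2, nat_lit 1, nat_lit 1]), (nat_lit 6937, [nat_lit 4, nat_lit 4, nat_lit 2, nat_lit 1]), (nat_lit 6955, [nat_lit 3, nat_lit 0, nat_lit 2, nat_lit 2]), (nat_lit 6982, [nat_lit 5, nat_lit 5, nat_lit 0, nat_lit 1, nat_lit 0]), (nat_lit 7026, [nat_lit 4, nat_lit 0, nat_lit 0, nat_lit 1]), (nat_lit 7095, [nat_lit 5, nat_lit 3, nat_lit 3, nat_lit 1, nat_lit 0, nat_lit 1]), (nat_lit 7150, [nat_lit 1, nat_lit 3, nat_lit 3, nat_lit 1, nat_lit 0, nat_lit 0]), (nat_lit 7238, [nat_lit 3, nat_lit 2, nat_lit 2, nat_lit 0]), (nat_lit 7253, [nat_lit 4, nat_lit 1, nat_lit 0, nat_lit 0]), (nat_lit 7275, [nat_lit 5, nat_lit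 4, nat_lit 1, nat_lit 0]), (nat_lit 7382, [nat_lit 0, nat_lit 0, nat_lit 3, nat_lit 1, nat_lit 0]), (nat_lit 7451, [nat_lit 1, nat_lit 3, nat_lit 4, nat_lit 0]), (nat_lit 7851, [nat_lit 3, nat_lit 1, nat_lit 0, nat_lit 3, nat_lit 0, nat_lit 1]), (nat_lit 7922, [nat_lit 4, nat_lit 3, nat_lit 0]), (nat_lit 7927, [nat_lit 3, nat_lit 3, nat_lit 1, nat_lit 1, nat_lit 3]), (nat_lit 8014, [nat_lit 4, nat_lit 3, nat_lit 2, nat_lit 1, nat_lit 1]), (nat_lit 8034, [nat_lit 3, nat_lit 4, nat_lit 4, nat_lit 3, nat_lit 0, nat_lit 0]), (nat_lit 8087, [nat_lit 3, nat_lit 4, nat_lit 4, nat_lit 3, nat_lit 2, nat_lit 0, nat_lit 0]), (nat_lit 8137, [nat_lit 4, nat_lit 3, nat_lit 4]), (nat_lit 8232, [nat_lit 3, nat_lit 1, nat_lit 3]), (nat_lit 8283, [nat_lit 5, nat_lit 5, nat_lit 4, nat_lit 4, nat_lit 2]), (nat_lit 8297, [nat_lit 0, nat_lit 4, nat_lit 1, nat_lit 0]), (nat_lit 8412, [nat_lit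 0, nat_lit 3, nat_lit 1, nat_lit 3, nat_lit 2]), (nat_lit 8494, [nat_lit 4, nat_lit 3, nat_lit 4, nat_lit 3]), (nat_lit 8622, [nat_lit 5, nat_lit 5, nat_lit 1, nat_lit 1]), (nat_lit 8666, [nat_lit 4, nat_lit 4, nat_lit 1]), (nat_lit 8863, [nat_lit 0, nat_lit 3, nat_lit 1, nat_lit 0, nat_lit 1]), (nat_lit 8918, [nat_lit 4, nat_lit 1, nat_lit 3, nat_lit 3, nat_lit 0]), (nat_lit 9180, [nat_lit 2, nat_lit 0, nat_lit 1, nat_lit 3]), (nat_lit 9185, [nat_lit 5, nat_lit 4, nat_lit 4, nat_lit 2, nat_lit 2]), (nat_lit 9193, [nat_lit 1, nat_lit 0, nat_lit 0, nat_lit 4, nat_lit 1, nat_lit 0]), (nat_lit 9430, [nat_lit 2, nat_lit 0, nat_lit 2]), (nat_lit 9556, [nat_lit 5, nat_lit 5, nat_lit 2, nat_lit 1, nat_lit 1]), (nat_lit 9617, [nat_lit 0, nat_lit 0, nat_lit 2]), (nat_lit 9734, [nat_lit 1, nat_lit 1, nat_lit 0, nat_lit 3, nat_lit 3]), (nat_lit 9930, [nat_lit 1, nat_lit 3, nat_lit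 2, nat_lit 1, nat_lit 0]), (nat_lit 10011, [nat_lit 1]), (nat_lit 10039, [nat_lit 4, nat_lit 3, nat_lit 2]), (nat_lit 10098, [nat_lit 0, nat_lit 3]), (nat_lit 10185, [nat_lit 3, nat_lit 3, nat_lit 4, nat_lit 2, nat_lit 2]), (nat_lit 10341, [nat_lit 5, nat_lit 4, nat_lit 0, nat_lit 1, nat_lit 1]), (nat_lit 10423, [nat_lit 5, nat_lit 4]), (nat_lit 10597, [nat_lit 0, nat_lit 4]), (nat_lit 10673, [nat_lit 0, nat_lit 1, nat_lit 0, nat_lit 2, nat_lit 0]), (nat_lit 10717, [nat_lit 0, nat_lit 1, nat_lit 0, nat_lit 0]), (nat_lit 10721, [nat_lit 1, nat_lit 3, nat_lit 3, nat_lit 2]), (nat_lit 10822, [nat_lit 1, nat_lit 0, nat_lit 1]), (nat_lit 10858, [nat_lit 3, nat_lit 4, nat_lit 1, nat_lit 1, nat_lit 0]), (nat_lit 10959, [nat_lit 3, nat_lit 4, nat_lit 3, nat_lit 0]), (nat_lit 11119, [nat_lit 5, nat_lit 5, nat_lit 4, nat_lit 4]), (nat_lit 11177, [nat_lit 4, nat_lit 0, nat_lit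 3, nat_lit 0]), (nat_lit 11221, [nat_lit 4, nat_lit 4, nat_lit 1, nat_lit 1]), (nat_lit 11275, [nat_lit 3, nat_lit 4, nat_lit 0, nat_lit 1, nat_lit 0]), (nat_lit 11289, [nat_lit 5, nat_lit 4, nat_lit 1, nat_lit 1, nat_lit 0]), (nat_lit 11292, [nat_lit 3, nat_lit 2, nat_lit 1, nat_lit 0, nat_lit 0]), (nat_lit 11302, [nat_lit 3, nat_lit 4, nat_lit 4, nat_lit 2, nat_lit 0]), (nat_lit 11362, [nat_lit 4, nat_lit 3, nat_lit 3, nat_lit 2, nat_lit 0]), (nat_lit 11429, [nat_lit 3, nat_lit 4, nat_lit 2, nat_lit 2]), (nat_lit 11479, [nat_lit 0, nat_lit 1, nat_lit 1, nat_lit 0, nat_lit 3, nat_lit 0]), (nat_lit 11575, [nat_lit 0, nat_lit 2, nat_lit 1, nat_lit 0]), (nat_lit 11642, [nat_lit 2, nat_lit 2, nat_lit 0, nat_lit 0]), (nat_lit 11659, [nat_lit 5, nat_lit 1]), (nat_lit 11697, [nat_lit 3, nat_lit 0, nat_lit 2, nat_lit 1, nat_lit 0]), (nat_lit 11699, [nat_lit 5, nat_lit 3,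 nat_lit 3, nat_lit 1, nat_lit 0, nat_lit 0]), (nat_lit 11833, [nat_lit 1, nat_lit 3, nat_lit 1, nat_lit 3, nat_lit 2]), (nat_lit 11889, [nat_lit 0, nat_lit 2, nat_lit 0, nat_lit 1, nat_lit 3]), (nat_lit 11892, [nat_lit 4, nat_lit 3, nat_lit 4, nat_lit 2, nat_lit 1]), (nat_lit 12224, [nat_lit 3, nat_lit 4, nat_lit 2, nat_lit 2, nat_lit 1]), (nat_lit 12319, [nat_lit 3, nat_lit 4, nat_lit 3, nat_lit 2, nat_lit 2]), (nat_lit 12325, [nat_lit 3, nat_lit 0, nat_lit 3, nat_lit 0, nat_lit 1]), (nat_lit 12358, [nat_lit 5, nat_lit 5, nat_lit 4, nat_lit 1]), (nat_lit 12372, [nat_lit 3, nat_lit 4, nat_lit 1, nat_lit 3, nat_lit 1]), (nat_lit 12524, [nat_lit 3, nat_lit 4, nat_lit 3, nat_lit 2, nat_lit 2, nat_lit 0, nat_lit 0]), (nat_lit 12566, [nat_lit 1, nat_lit 0, nat_lit 0, nat_lit 3]), (nat_lit 12710, [nat_lit 3, nat_lit 3, nat_lit 1, nat_lit 0, nat_lit 1]), (nat_lit 12721,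 [nat_lit 5, nat_lit 3, nat_lit 2, nat_lit 1, nat_lit 1]), (nat_lit 12728, [nat_lit 1, nat_lit 1, nat_lit 3, nat_lit 0, nat_lit 0]), (nat_lit 12861, [nat_lit 1, nat_lit 1, nat_lit 3, nat_lit 2]), (nat_lit 12894, [nat_lit 4, nat_lit 3, nat_lit 4, nat_lit 2, nat_lit 2, nat_lit 0, nat_lit 0]), (nat_lit 12956, [nat_lit 4, nat_lit 1, nat_lit 3, nat_lit 1]), (nat_lit 13013, [nat_lit 0, nat_lit 1, nat_lit 3, nat_lit 3, nat_lit 0]), (nat_lit 13168, [nat_lit 0, nat_lit 0, nat_lit 3, nat_lit 1]), (nat_lit 13183, [nat_lit 3, nat_lit 3, nat_lit 4, nat_lit 0, nat_lit 1, nat_lit 1]), (nat_lit 13199, [nat_lit 4, nat_lit 4, nat_lit 3, nat_lit 3, nat_lit 0]), (nat_lit 13373, [nat_lit 3, nat_lit 1, nat_lit 0, nat_lit 3, nat_lit 0, nat_lit 1, nat_lit 0]), (nat_lit 13443, [nat_lit 0, nat_lit 0, nat_lit 1, nat_lit 3]), (nat_lit 13483, [nat_lit 2, nat_lit 2, nat_lit 0]), (nat_lit 13608,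 [nat_lit 2, nat_lit 0, nat_lit 4]), (nat_lit 13610, [nat_lit 3, nat_lit 4, nat_lit 0, nat_lit 0]), (nat_lit 13611, [nat_lit 3, nat_lit 3, nat_lit 0, nat_lit 1, nat_lit 1, nat_lit 0]), (nat_lit 13959, [nat_lit 3, nat_lit 3, nat_lit 2, nat_lit 2, nat_lit 0, nat_lit 0]), (nat_lit 14131, [nat_lit 3, nat_lit 0, nat_lit 1, nat_lit 3, nat_lit 2]), (nat_lit 14232, [nat_lit 3, nat_lit 0, nat_lit 3, nat_lit 1]), (nat_lit 14401, [nat_lit 0, nat_lit 1, nat_lit 0, nat_lit 3]), (nat_lit 14489, [nat_lit 5, nat_lit 1, nat_lit 0, nat_lit 1, nat_lit 1, nat_lit 0]), (nat_lit 14600, [nat_lit 3, nat_lit 4, nat_lit 2, nat_lit 0, nat_lit 0]), (nat_lit 14655, [nat_lit 1, nat_lit 0, nat_lit 3, nat_lit 1, nat_lit 3, nat_lit 0]), (nat_lit 14668, [nat_lit 4, nat_lit 3, nat_lit 1, nat_lit 0, nat_lit 1, nat_lit 0]), (nat_lit 14971, [nat_lit 1, nat_lit 1, nat_lit 0, nat_lit 4]), (nat_lit 15014,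 [nat_lit 5, nat_lit 4, nat_lit 4, nat_lit 1, nat_lit 1]), (nat_lit 15429, [nat_lit 0, nat_lit 3, nat_lit 1, nat_lit 0, nat_lit 1, nat_lit 1]), (nat_lit 15512, [nat_lit 3, nat_lit 3, nat_lit 0, nat_lit 2, nat_lit 1]), (nat_lit 15552, [nat_lit 5, nat_lit 4, nat_lit 2, nat_lit 2]), (nat_lit 15660, [nat_lit 2, nat_lit 0, nat_lit 0, nat_lit 1]), (nat_lit 15898, [nat_lit 0, nat_lit 1, nat_lit 3, nat_lit 0]), (nat_lit 16027, [nat_lit 1, nat_lit 0, nat_lit 4, nat_lit 4]), (nat_lit 16064, [nat_lit 1, nat_lit 3, nat_lit 3, nat_lit 0, nat_lit 1, nat_lit 0]), (nat_lit 16067, [nat_lit 1, nat_lit 3, nat_lit 0, nat_lit 3, nat_lit 1]), (nat_lit 16212, [nat_lit 1, nat_lit 1, nat_lit 3]), (nat_lit 16213, [nat_lit 4, nat_lit 1, nat_lit 3]), (nat_lit 16355, [nat_lit 3, nat_lit 0, nat_lit 0, nat_lit 1, nat_lit 3]), (nat_lit 16454, [nat_lit 3, nat_lit 0, nat_lit 1, nat_lit 3, nat_lit 0]),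 (nat_lit 16556, [nat_lit 5, nat_lit 1, nat_lit 1, nat_lit 0, nat_lit 0]), (nat_lit 16768, [nat_lit 3, nat_lit 3, nat_lit 0]), (nat_lit 16846, [nat_lit 5, nat_lit 1, nat_lit 1, nat_lit 0]), (nat_lit 16871, [nat_lit 3, nat_lit 4, nat_lit 4, nat_lit 0, nat_lit 0]), (nat_lit 16914, [nat_lit 3, nat_lit 3, nat_lit 1, nat_lit 0, nat_lit 1, nat_lit 1, nat_lit 0]), (nat_lit 17253, [nat_lit 5, nat_lit 1, nat_lit 0, nat_lit 1, nat_lit 1]), (nat_lit 17342, [nat_lit 1, nat_lit 3, nat_lit 4, nat_lit 1]), (nat_lit 17374, [nat_lit 4, nat_lit 0, nat_lit 3, nat_lit 1, nat_lit 1]), (nat_lit 17388, [nat_lit 0, nat_lit 3, nat_lit 3, nat_lit 1, nat_lit 1]), (nat_lit 17675, [nat_lit 5, nat_lit 2, nat_lit 2, nat_lit 1]), (nat_lit 17699, [nat_lit 4, nat_lit 4, nat_lit 1, nat_lit 1, nat_lit 0]), (nat_lit 17815, [nat_lit 4, nat_lit 0, nat_lit 2, nat_lit 2]), (nat_lit 18022, [nat_lit 1, nat_lit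 3, nat_lit 3]), (nat_lit 18025, [nat_lit 3, nat_lit 0, nat_lit 2, nat_lit 2, nat_lit 0]), (nat_lit 18026, [nat_lit 0, nat_lit 3, nat_lit 3, nat_lit 1]), (nat_lit 18185, [nat_lit 5, nat_lit 3, nat_lit 1, nat_lit 0, nat_lit 1]), (nat_lit 18189, [nat_lit 0, nat_lit 3, nat_lit 3, nat_lit 2, nat_lit 0]), (nat_lit 18298, [nat_lit 5, nat_lit 3, nat_lit 3, nat_lit 1]), (nat_lit 18300, [nat_lit 4, nat_lit 1, nat_lit 0]), (nat_lit 18322, [nat_lit 4, nat_lit 2, nat_lit 1, nat_lit 1]), (nat_lit 18459, [nat_lit 4, nat_lit 3, nat_lit 1, nat_lit 3]), (nat_lit 18482, [nat_lit 3, nat_lit 0, nat_lit 1, nat_lit 1, nat_lit 3, nat_lit 0, nat_lit 0]), (nat_lit 18536, [nat_lit 1, nat_lit 3, nat_lit 1, nat_lit 3, nat_lit 0, nat_lit 0]), (nat_lit 18569, [nat_lit 0, nat_lit 1, nat_lit 3, nat_lit 3, nat_lit 0, nat_lit 1]), (nat_lit 18603, [nat_lit 3, nat_lit 1, nat_lit 0, nat_lit 1, nat_lit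 0]), (nat_lit 18654, [nat_lit 5, nat_lit 3, nat_lit 2]), (nat_lit 18744, [nat_lit 3, nat_lit 4, nat_lit 3, nat_lit 1]), (nat_lit 18907, [nat_lit 0, nat_lit 0, nat_lit 3, nat_lit 1, nat_lit 3]), (nat_lit 19034, [nat_lit 4, nat_lit 4, nat_lit 3, nat_lit 2, nat_lit 2]), (nat_lit 19113, [nat_lit 3, nat_lit 4, nat_lit 0, nat_lit 2]), (nat_lit 19246, [nat_lit 3, nat_lit 3, nat_lit 4]), (nat_lit 19396, [nat_lit 1, nat_lit 3, nat_lit 3, nat_lit 2, nat_lit 1]), (nat_lit 19460, [nat_lit 5, nat_lit 3, nat_lit 2, nat_lit 2]), (nat_lit 19555, [nat_lit 5, nat_lit 3, nat_lit 2, nat_lit 1]), (nat_lit 19654, [nat_lit 4, nat_lit 0, nat_lit 4, nat_lit 0]), (nat_lit 19726, [nat_lit 1, nat_lit 3, nat_lit 0, nat_lit 1, nat_lit 0]), (nat_lit 19792, [nat_lit 0, nat_lit 1, nat_lit 3, nat_lit 1]), (nat_lit 19810, [nat_lit 3, nat_lit 2, nat_lit 2, nat_lit 1, nat_lit 1]), (nat_lit 19859, [nat_lit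 1, nat_lit 0, nat_lit 4]), (nat_lit 19905, [nat_lit 0, nat_lit 3, nat_lit 0, nat_lit 1, nat_lit 1]), (nat_lit 20020, [nat_lit 5, nat_lit 3, nat_lit 3]), (nat_lit 20038, [nat_lit 5, nat_lit 3, nat_lit 4, nat_lit 2]), (nat_lit 20042, [nat_lit 5, nat_lit 4, nat_lit 4, nat_lit 2]), (nat_lit 20309, [nat_lit 1, nat_lit 1, nat_lit 3, nat_lit 3, nat_lit 2, nat_lit 2]), (nat_lit 20579, [nat_lit 0, nat_lit 1, nat_lit 0, nat_lit 2, nat_lit 1]), (nat_lit 20599, [nat_lit 3, nat_lit 1, nat_lit 0]), (nat_lit 20607, [nat_lit 1, nat_lit 0, nat_lit 2, nat_lit 1, nat_lit 0]), (nat_lit 20609, [nat_lit 1, nat_lit 3, nat_lit 1, nat_lit 0, nat_lit 3, nat_lit 0, nat_lit 1]), (nat_lit 20774, [nat_lit 4, nat_lit 3, nat_lit 3]), (nat_lit 20783, [nat_lit 2, nat_lit 0, nat_lit 0]), (nat_lit 20843, [nat_lit 3, nat_lit 1, nat_lit 3, nat_lit 0, nat_lit 1, nat_lit 0]), (nat_lit 20861, [nat_lit 0,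 nat_lit 3, nat_lit 1, nat_lit 1, nat_lit 0]), (nat_lit 20911, [nat_lit 3, nat_lit 3, nat_lit 1, nat_lit 0, nat_lit 2]), (nat_lit 20975, [nat_lit 1, nat_lit 0, nat_lit 0, nat_lit 4, nat_lit 1]), (nat_lit 21005, [nat_lit 4, nat_lit 3, nat_lit 4, nat_lit 3, nat_lit 2, nat_lit 0]), (nat_lit 21093, [nat_lit 2, nat_lit 0, nat_lit 3, nat_lit 0]), (nat_lit 21363, [nat_lit 4, nat_lit 4, nat_lit 2, nat_lit 2]), (nat_lit 21632, [nat_lit 5, nat_lit 5, nat_lit 3, nat_lit 3, nat_lit 2, nat_lit 2]), (nat_lit 21685, [nat_lit 5, nat_lit 3, nat_lit 1, nat_lit 0]), (nat_lit 22076, [nat_lit 4, nat_lit 4, nat_lit 3, nat_lit 3, nat_lit 2, nat_lit 0]), (nat_lit 22128, [nat_lit 5, nat_lit 5, nat_lit 4, nat_lit 1, nat_lit 1]), (nat_lit 22240, [nat_lit 3, nat_lit 0, nat_lit 2]), (nat_lit 22283, [nat_lit 5, nat_lit 1, nat_lit 0, nat_lit 1, nat_lit 0]), (nat_lit 22357, [nat_lit 0, nat_lit 0,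 nat_lit 4, nat_lit 1, nat_lit 0]), (nat_lit 22490, [nat_lit 2, nat_lit 1, nat_lit 0, nat_lit 0]), (nat_lit 22526, [nat_lit 0, nat_lit 4, nat_lit 4, nat_lit 2, nat_lit 0]), (nat_lit 22588, [nat_lit 3, nat_lit 4, nat_lit 0, nat_lit 1, nat_lit 1]), (nat_lit 22627, [nat_lit 3, nat_lit 3, nat_lit 0, nat_lit 2, nat_lit 2]), (nat_lit 22738, [nat_lit 1, nat_lit 1]), (nat_lit 22768, [nat_lit 3, nat_lit 1, nat_lit 1, nat_lit 3, nat_lit 0]), (nat_lit 22825, [nat_lit 3, nat_lit 1, nat_lit 0, nat_lit 2]), (nat_lit 22887, [nat_lit 0, nat_lit 3, nat_lit 3, nat_lit 2, nat_lit 1]), (nat_lit 23059, [nat_lit 3, nat_lit 3, nat_lit 4, nat_lit 2]), (nat_lit 23094, [nat_lit 3, nat_lit 3, nat_lit 2, nat_lit 2, nat_lit 1]), (nat_lit 23358, [nat_lit 3, nat_lit 2]), (nat_lit 23406, [nat_lit 2, nat_lit 0, nat_lit 3, nat_lit 1]), (nat_lit 23465, [nat_lit 2, nat_lit 0, nat_lit 4, nat_lit 0]),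 (nat_lit 23527, [nat_lit 5, nat_lit 5, nat_lit 2, nat_lit 1]), (nat_lit 23528, [nat_lit 0, nat_lit 1, nat_lit 3, nat_lit 3, nat_lit 1]), (nat_lit 23537, [nat_lit 3, nat_lit 2, nat_lit 0, nat_lit 2, nat_lit 0]), (nat_lit 23589, [nat_lit 5, nat_lit 3, nat_lit 3, nat_lit 1, nat_lit 0]), (nat_lit 23627, [nat_lit 3, nat_lit 0, nat_lit 1, nat_lit 1, nat_lit 0]), (nat_lit 23674, [nat_lit 3, nat_lit 3, nat_lit 2, nat_lit 2, nat_lit 0]), (nat_lit 23868, [nat_lit 3, nat_lit 2, nat_lit 0, nat_lit 1, nat_lit 0]), (nat_lit 23877, [nat_lit 4, nat_lit 4, nat_lit 2, nat_lit 0]), (nat_lit 23917, [nat_lit 4, nat_lit 3, nat_lit 3, nat_lit 2, nat_lit 0, nat_lit 0]), (nat_lit 24236, [nat_lit 1, nat_lit 0, nat_lit 0, nat_lit 4]), (nat_lit 24244, [nat_lit 4, nat_lit 1, nat_lit 3, nat_lit 3, nat_lit 2]), (nat_lit 24268, [nat_lit 1, nat_lit 3]), (nat_lit 24296, [nat_lit 4, nat_lit 0, nat_lit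 3, nat_lit 0, nat_lit 1, nat_lit 0]), (nat_lit 24339, [nat_lit 5, nat_lit 5, nat_lit 2]), (nat_lit 24391, [nat_lit 3, nat_lit 3, nat_lit 0, nat_lit 0]), (nat_lit 24526, [nat_lit 3, nat_lit 4, nat_lit 3, nat_lit 2]), (nat_lit 24540, [nat_lit 1, nat_lit 3, nat_lit 1]), (nat_lit 24564, [nat_lit 4, nat_lit 4, nat_lit 0, nat_lit 1]), (nat_lit 24571, [nat_lit 4, nat_lit 0, nat_lit 1, nat_lit 1]), (nat_lit 24617, [nat_lit 3, nat_lit 3, nat_lit 4, nat_lit 2, nat_lit 2, nat_lit 0]), (nat_lit 24812, [nat_lit 0, nat_lit 2, nat_lit 1]), (nat_lit 25065, [nat_lit 4, nat_lit 4, nat_lit 3, nat_lit 3, nat_lit 2, nat_lit 2, nat_lit 0]), (nat_lit 25142, [nat_lit 2, nat_lit 2]), (nat_lit 25146, [nat_lit 3, nat_lit 3, nat_lit 0, nat_lit 2, nat_lit 0]), (nat_lit 25202, [nat_lit 4, nat_lit 0]), (nat_lit 25352, [nat_lit 5, nat_lit 4, nat_lit 1, nat_lit 0, nat_lit 1]), (nat_lit 25486, [nat_lit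 1, nat_lit 0, nat_lit 1, nat_lit 0]), (nat_lit 25500, [nat_lit 3, nat_lit 4, nat_lit 4]), (nat_lit 25531, [nat_lit 3, nat_lit 3, nat_lit 2, nat_lit 0, nat_lit 2]), (nat_lit 25688, [nat_lit 4, nat_lit 3, nat_lit 4, nat_lit 3, nat_lit 2, nat_lit 0, nat_lit 0]), (nat_lit 25998, [nat_lit 5, nat_lit 2, nat_lit 1]), (nat_lit 26143, [nat_lit 1, nat_lit 3, nat_lit 1, nat_lit 0]), (nat_lit 26193, [nat_lit 2, nat_lit 2, nat_lit 1, nat_lit 1]), (nat_lit 26352, [nat_lit 4, nat_lit 4, nat_lit 3, nat_lit 3]), (nat_lit 26612, [nat_lit 3, nat_lit 2, nat_lit 1]), (nat_lit 26638, [nat_lit 3, nat_lit 0, nat_lit 1, nat_lit 1]), (nat_lit 26735, [nat_lit 5, nat_lit 1, nat_lit 0]), (nat_lit 26910, [nat_lit 4, nat_lit 2, nat_lit 1]), (nat_lit 26912, [nat_lit 4, nat_lit 4, nat_lit 3, nat_lit 3, nat_lit 0, nat_lit 0]), (nat_lit 27005, [nat_lit 3, nat_lit 3, nat_lit 4, nat_lit 2, nat_lit 0]),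 (nat_lit 27012, [nat_lit 2, nat_lit 1, nat_lit 1, nat_lit 0, nat_lit 0]), (nat_lit 27014, [nat_lit 5, nat_lit 5, nat_lit 3, nat_lit 1, nat_lit 0]), (nat_lit 27089, [nat_lit 2, nat_lit 0, nat_lit 1]), (nat_lit 27182, [nat_lit 3, nat_lit 0]), (nat_lit 27266, [nat_lit 4, nat_lit 2, nat_lit 2, nat_lit 0, nat_lit 0]), (nat_lit 27287, [nat_lit 3, nat_lit 4, nat_lit 0, nat_lit 2, nat_lit 1]), (nat_lit 27490, [nat_lit 4, nat_lit 4, nat_lit 2, nat_lit 2, nat_lit 1]), (nat_lit 27804, [nat_lit 1, nat_lit 3, nat_lit 2, nat_lit 2, nat_lit 1]), (nat_lit 27866, [nat_lit 0, nat_lit 1, nat_lit 0, nat_lit 3, nat_lit 3]), (nat_lit 27887, [nat_lit 4, nat_lit 0, nat_lit 2, nat_lit 1, nat_lit 0]), (nat_lit 27988, [nat_lit 0, nat_lit 1, nat_lit 1, nat_lit 3, nat_lit 0, nat_lit 0]), (nat_lit 28249, [nat_lit 5, nat_lit 2, nat_lit 2]), (nat_lit 28268, [nat_lit 0, nat_lit 1, nat_lit 3, nat_lit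 0, nat_lit 1]), (nat_lit 28354, [nat_lit 5, nat_lit 3, nat_lit 0, nat_lit 1]), (nat_lit 28459, [nat_lit 4, nat_lit 4]), (nat_lit 28513, [nat_lit 0, nat_lit 1, nat_lit 1, nat_lit 3]), (nat_lit 28543, [nat_lit 1, nat_lit 3, nat_lit 4, nat_lit 2]), (nat_lit 28676, [nat_lit 0, nat_lit 0, nat_lit 2, nat_lit 1]), (nat_lit 28805, [nat_lit 3, nat_lit 3, nat_lit 2, nat_lit 1]), (nat_lit 28865, [nat_lit 3, nat_lit 3, nat_lit 2]), (nat_lit 28866, [nat_lit 3, nat_lit 3, nat_lit 1, nat_lit 1, nat_lit 0]), (nat_lit 29094, [nat_lit 4, nat_lit 3, nat_lit 4, nat_lit 2, nat_lit 0]), (nat_lit 29151, [nat_lit 3, nat_lit 3, nat_lit 4, nat_lit 0, nat_lit 1]), (nat_lit 29247, [nat_lit 2, nat_lit 1, nat_lit 1, nat_lit 0]), (nat_lit 29267, [nat_lit 0, nat_lit 3, nat_lit 1, nat_lit 3, nat_lit 0]), (nat_lit 29552, [nat_lit 0, nat_lit 2, nat_lit 1, nat_lit 1]), (nat_lit 29616, [nat_lit 1, nat_lit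 3, nat_lit 1, nat_lit 3, nat_lit 0]), (nat_lit 29831, [nat_lit 0, nat_lit 0, nat_lit 1, nat_lit 3, nat_lit 0]), (nat_lit 29838, [nat_lit 5, nat_lit 5, nat_lit 0, nat_lit 0]), (nat_lit 29959, [nat_lit 4, nat_lit 3, nat_lit 0, nat_lit 0, nat_lit 1]), (nat_lit 30023, [nat_lit 0, nat_lit 1, nat_lit 1]), (nat_lit 30119, [nat_lit 3, nat_lit 4, nat_lit 1]), (nat_lit 30280, [nat_lit 5, nat_lit 2, nat_lit 2, nat_lit 1, nat_lit 1]), (nat_lit 30385, [nat_lit 5, nat_lit 4, nat_lit 4, nat_lit 1]), (nat_lit 30547, [nat_lit 2]), (nat_lit 30568, [nat_lit 1, nat_lit 3, nat_lit 4, nat_lit 2, nat_lit 1]), (nat_lit 30611, [nat_lit 0, nat_lit 3, nat_lit 3, nat_lit 0]), (nat_lit 30705, [nat_lit 5, nat_lit 5, nat_lit 1, nat_lit 0, nat_lit 1, nat_lit 0]), (nat_lit 30792, [nat_lit 0, nat_lit 3, nat_lit 0, nat_lit 1, nat_lit 3]), (nat_lit 30842, [nat_lit 4, nat_lit 2, nat_lit 0, nat_lit 2]),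 (nat_lit 30903, [nat_lit 4, nat_lit 0, nat_lit 2, nat_lit 2, nat_lit 0]), (nat_lit 30940, [nat_lit 2, nat_lit 2, nat_lit 1, nat_lit 0]), (nat_lit 30973, [nat_lit 5, nat_lit 0, nat_lit 2, nat_lit 1]), (nat_lit 30985, [nat_lit 5, nat_lit 5, nat_lit 1, nat_lit 0, nat_lit 1]), (nat_lit 31149, [nat_lit 1, nat_lit 0, nat_lit 4, nat_lit 1, nat_lit 0, nat_lit 0]), (nat_lit 31211, [nat_lit 4, nat_lit 1, nat_lit 0, nat_lit 3]), (nat_lit 31228, [nat_lit 1, nat_lit 0]), (nat_lit 31245, [nat_lit 3, nat_lit 3, nat_lit 0, nat_lit 0, nat_lit 1]), (nat_lit 31342, [nat_lit 3, nat_lit 4, nat_lit 4, nat_lit 3]), (nat_lit 31454, [nat_lit 3, nat_lit 0, nat_lit 3, nat_lit 1, nat_lit 1]), (nat_lit 31488, [nat_lit 4, nat_lit 3, nat_lit 1, nat_lit 3, nat_lit 2]), (nat_lit 31966, [nat_lit 4, nat_lit 0, nat_lit 3, nat_lit 0, nat_lit 1]), (nat_lit 31999, [nat_lit 3, nat_lit 3, nat_lit 0, nat_lit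 2]), (nat_lit 32078, [nat_lit 4, nat_lit 4, nat_lit 0, nat_lit 1, nat_lit 1]), (nat_lit 32132, [nat_lit 1, nat_lit 3, nat_lit 0, nat_lit 0, nat_lit 1]), (nat_lit 32277, [nat_lit 4, nat_lit 4, nat_lit 2, nat_lit 0, nat_lit 0]), (nat_lit 32305, [nat_lit 4, nat_lit 4, nat_lit 2, nat_lit 2, nat_lit 0, nat_lit 0]), (nat_lit 32564, [nat_lit 3, nat_lit 1, nat_lit 3, nat_lit 1, nat_lit 0]), (nat_lit 32601, [nat_lit 4, nat_lit 3, nat_lit 2, nat_lit 2, nat_lit 1]), (nat_lit 32690, [nat_lit 2, nat_lit 0, nat_lit 1, nat_lit 0]), (nat_lit 32735, [nat_lit 0, nat_lit 4, nat_lit 1, nat_lit 3]), (nat_lit 32761, [nat_lit 3, nat_lit 1, nat_lit 0, nat_lit 1]), (nat_lit 32935, [nat_lit 4, nat_lit 2, nat_lit 0]), (nat_lit 33027, [nat_lit 5, nat_lit 2]), (nat_lit 33169, [nat_lit 1, nat_lit 3, nat_lit 3, nat_lit 2, nat_lit 2]), (nat_lit 33182, [nat_lit 0, nat_lit 1, nat_lit 0, nat_lit 2]),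 (nat_lit 33190, [nat_lit 4, nat_lit 3, nat_lit 4, nat_lit 3, nat_lit 2]), (nat_lit 33334, [nat_lit 4, nat_lit 1]), (nat_lit 33430, [nat_lit 1, nat_lit 3, nat_lit 0, nat_lit 1]), (nat_lit 33589, [nat_lit 1, nat_lit 3, nat_lit 3, nat_lit 0]), (nat_lit 33738, [nat_lit 3, nat_lit 4, nat_lit 4, nat_lit 2, nat_lit 0, nat_lit 0]), (nat_lit 33750, [nat_lit 4, nat_lit 4, nat_lit 0, nat_lit 2, nat_lit 0]), (nat_lit 33851, [nat_lit 1, nat_lit 3, nat_lit 3, nat_lit 2, nat_lit 1, nat_lit 0]), (nat_lit 33904, [nat_lit 0, nat_lit 2, nat_lit 2]), (nat_lit 33914, [nat_lit 3, nat_lit 2, nat_lit 0, nat_lit 1]), (nat_lit 34116, [nat_lit 3, nat_lit 1, nat_lit 3, nat_lit 2, nat_lit 2]), (nat_lit 34251, [nat_lit 3, nat_lit 3, nat_lit 2, nat_lit 0]), (nat_lit 34324, [nat_lit 1, nat_lit 0, nat_lit 4, nat_lit 0]), (nat_lit 34644, [nat_lit 3, nat_lit 3, nat_lit 2, nat_lit 1, nat_lit 1]), (nat_lit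 34705, [nat_lit 0, nat_lit 3, nat_lit 1, nat_lit 1, nat_lit 0, nat_lit 0]), (nat_lit 34732, [nat_lit 3, nat_lit 2, nat_lit 2]), (nat_lit 34736, [nat_lit 0, nat_lit 0, nat_lit 3]), (nat_lit 34822, [nat_lit 5, nat_lit 3, nat_lit 3, nat_lit 1, nat_lit 1]), (nat_lit 34925, [nat_lit 1, nat_lit 3, nat_lit 0, nat_lit 3, nat_lit 1, nat_lit 0]), (nat_lit 35001, [nat_lit 0, nat_lit 1, nat_lit 3, nat_lit 3]), (nat_lit 35105, [nat_lit 3, nat_lit 1, nat_lit 3, nat_lit 2, nat_lit 2, nat_lit 1]), (nat_lit 35136, [nat_lit 5, nat_lit 3, nat_lit 1, nat_lit 1, nat_lit 0]), (nat_lit 35147, [nat_lit 4, nat_lit 0, nat_lit 2, nat_lit 0]), (nat_lit 35164, [nat_lit 4, nat_lit 1, nat_lit 0, nat_lit 1, nat_lit 0, nat_lit 0]), (nat_lit 35213, [nat_lit 5, nat_lit 5, nat_lit 0, nat_lit 1, nat_lit 1, nat_lit 0]), (nat_lit 35302, [nat_lit 5, nat_lit 3, nat_lit 4]), (nat_lit 35461, [nat_lit 4, nat_lit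 0, nat_lit 3, nat_lit 1]), (nat_lit 35525, [nat_lit 3, nat_lit 1, nat_lit 1, nat_lit 0]), (nat_lit 35533, [nat_lit 5, nat_lit 3, nat_lit 4, nat_lit 2, nat_lit 2]), (nat_lit 35684, [nat_lit 1, nat_lit 1, nat_lit 3, nat_lit 3]), (nat_lit 35691, [nat_lit 0, nat_lit 3, nat_lit 1]), (nat_lit 35757, [nat_lit 4, nat_lit 3, nat_lit 2, nat_lit 2]), (nat_lit 35761, [nat_lit 3, nat_lit 3, nat_lit 2, nat_lit 1, nat_lit 0, nat_lit 2]), (nat_lit 35798, [nat_lit 1, nat_lit 3, nat_lit 1, nat_lit 0, nat_lit 3]), (nat_lit 35961, [nat_lit 4, nat_lit 3, nat_lit 3, nat_lit 2]), (nat_lit 36015, [nat_lit 4, nat_lit 3, nat_lit 3, nat_lit 0, nat_lit 0]), (nat_lit 36028, [nat_lit 0, nat_lit 0, nat_lit 3, nat_lit 1, nat_lit 3, nat_lit 0]), (nat_lit 36264, [nat_lit 1, nat_lit 0, nat_lit 4, nat_lit 1, nat_lit 0]), (nat_lit 36500, [nat_lit 3, nat_lit 0, nat_lit 0]), (nat_lit 36513, [nat_lit 0,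 nat_lit 3, nat_lit 3, nat_lit 0, nat_lit 1, nat_lit 0]), (nat_lit 36713, [nat_lit 1, nat_lit 0, nat_lit 3, nat_lit 1, nat_lit 3]), (nat_lit 36773, [nat_lit 4, nat_lit 4, nat_lit 2]), (nat_lit 36853, [nat_lit 3, nat_lit 3, nat_lit 4, nat_lit 2, nat_lit 2, nat_lit 0, nat_lit 0]), (nat_lit 36884, [nat_lit 4, nat_lit 1, nat_lit 0, nat_lit 3, nat_lit 1]), (nat_lit 36938, [nat_lit 4, nat_lit 1, nat_lit 3, nat_lit 2, nat_lit 1]), (nat_lit 37001, [nat_lit 3, nat_lit 1, nat_lit 3, nat_lit 2, nat_lit 1]), (nat_lit 37011, [nat_lit 3, nat_lit 4, nat_lit 4, nat_lit 3, nat_lit 2, nat_lit 2]), (nat_lit 37040, [nat_lit 5, nat_lit 5]), (nat_lit 37058, [nat_lit 3, nat_lit 3]), (nat_lit 37083, [nat_lit 3, nat_lit 3, nat_lit 4, nat_lit 1]), (nat_lit 37145, [nat_lit 0, nat_lit 4, nat_lit 0, nat_lit 1]), (nat_lit 37373, [nat_lit 5, nat_lit 4, nat_lit 2, nat_lit 1]), (nat_lit 37415, [nat_lit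 1, nat_lit 0, nat_lit 2, nat_lit 2]), (nat_lit 37459, [nat_lit 0, nat_lit 2, nat_lit 0]), (nat_lit 37733, [nat_lit 3, nat_lit 4, nat_lit 4, nat_lit 3, nat_lit 0]), (nat_lit 37776, [nat_lit 1, nat_lit 1, nat_lit 0, nat_lit 3]), (nat_lit 37787, [nat_lit 0, nat_lit 1, nat_lit 3, nat_lit 3, nat_lit 1, nat_lit 0]), (nat_lit 37848, [nat_lit 1, nat_lit 0, nat_lit 1, nat_lit 1]), (nat_lit 37855, [nat_lit 5, nat_lit 5, nat_lit 4, nat_lit 2, nat_lit 2]), (nat_lit 38019, [nat_lit 3, nat_lit 4, nat_lit 4, nat_lit 0]), (nat_lit 38231, [nat_lit 5, nat_lit 5, nat_lit 2, nat_lit 2]), (nat_lit 38364, [nat_lit 0, nat_lit 4, nat_lit 4, nat_lit 2]), (nat_lit 38451, [nat_lit 3, nat_lit 4, nat_lit 2, nat_lit 2, nat_lit 0, nat_lit 0]), (nat_lit 38533, [nat_lit 5, nat_lit 0, nat_lit 1, nat_lit 0]), (nat_lit 38538, [nat_lit 3, nat_lit 4, nat_lit 3, nat_lit 0, nat_lit 0]), (nat_lit 38689,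 [nat_lit 3, nat_lit 1, nat_lit 1, nat_lit 3, nat_lit 0, nat_lit 0]), (nat_lit 38813, [nat_lit 5, nat_lit 5, nat_lit 4, nat_lit 2]), (nat_lit 39001, [nat_lit 4, nat_lit 3, nat_lit 0, nat_lit 0]), (nat_lit 39044, [nat_lit 2, nat_lit 0, nat_lit 4, nat_lit 1]), (nat_lit 39138, [nat_lit 5, nat_lit 3, nat_lit 1, nat_lit 1]), (nat_lit 39168, [nat_lit 5, nat_lit 0, nat_lit 0]), (nat_lit 39301, [nat_lit 4, nat_lit 1, nat_lit 3, nat_lit 2]), (nat_lit 39306, [nat_lit 4, nat_lit 4, nat_lit 0, nat_lit 2]), (nat_lit 39429, [nat_lit 3, nat_lit 1, nat_lit 3, nat_lit 1]), (nat_lit 39628, [nat_lit 3, nat_lit 0, nat_lit 2, nat_lit 1]), (nat_lit 39693, [nat_lit 3, nat_lit 1, nat_lit 0, nat_lit 3, nat_lit 0]), (nat_lit 39762, [nat_lit 3, nat_lit 2, nat_lit 1, nat_lit 0, nat_lit 1]), (nat_lit 40030, [nat_lit 4, nat_lit 3, nat_lit 4, nat_lit 3, nat_lit 2, nat_lit 2]), (nat_lit 40175, [nat_lit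 1, nat_lit 3, nat_lit 3, nat_lit 2, nat_lit 2, nat_lit 1]), (nat_lit 40321, [nat_lit 3, nat_lit 0, nat_lit 1, nat_lit 3, nat_lit 1, nat_lit 0]), (nat_lit 40394, [nat_lit 3, nat_lit 3, nat_lit 1, nat_lit 1, nat_lit 0, nat_lit 0]), (nat_lit 40396, [nat_lit 4, nat_lit 3, nat_lit 3, nat_lit 2, nat_lit 2]), (nat_lit 40557, [nat_lit 4, nat_lit 0, nat_lit 1, nat_lit 0]), (nat_lit 40624, [nat_lit 1, nat_lit 1, nat_lit 3, nat_lit 4, nat_lit 2]), (nat_lit 41243, [nat_lit 5, nat_lit 0, nat_lit 0, nat_lit 1]), (nat_lit 41455, [nat_lit 0, nat_lit 0]), (nat_lit 41799, [nat_lit 0, nat_lit 1, nat_lit 0, nat_lit 4, nat_lit 1]), (nat_lit 41820, [nat_lit 1, nat_lit 0, nat_lit 3, nat_lit 0]), (nat_lit 41844, [nat_lit 0, nat_lit 3, nat_lit 3]), (nat_lit 41865, [nat_lit 5, nat_lit 5, nat_lit 1]), (nat_lit 42212, [nat_lit 0, nat_lit 3, nat_lit 3, nat_lit 2]), (nat_lit 42448, [nat_lit 0,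 nat_lit 1, nat_lit 1, nat_lit 0, nat_lit 0]), (nat_lit 42452, [nat_lit 0, nat_lit 4, nat_lit 1]), (nat_lit 42486, [nat_lit 0, nat_lit 0, nat_lit 4, nat_lit 1, nat_lit 1]), (nat_lit 42767, [nat_lit 3, nat_lit 4, nat_lit 3, nat_lit 2, nat_lit 2, nat_lit 1]), (nat_lit 42867, [nat_lit 1, nat_lit 1, nat_lit 3, nat_lit 3, nat_lit 0]), (nat_lit 42954, [nat_lit 0, nat_lit 3, nat_lit 3, nat_lit 1, nat_lit 0]), (nat_lit 43137, [nat_lit 5, nat_lit 4, nat_lit 0]), (nat_lit 43193, [nat_lit 0, nat_lit 1]), (nat_lit 43389, [nat_lit 3, nat_lit 0, nat_lit 3, nat_lit 0, nat_lit 1, nat_lit 0]), (nat_lit 43412, [nat_lit 4, nat_lit 2, nat_lit 2]), (nat_lit 43597, [nat_lit 3, nat_lit 0, nat_lit 2, nat_lit 0]), (nat_lit 43616, [nat_lit 1, nat_lit 0, nat_lit 3, nat_lit 1, nat_lit 3, nat_lit 1, nat_lit 0]), (nat_lit 43815, [nat_lit 1, nat_lit 1, nat_lit 3, nat_lit 0]), (nat_lit 43908, [nat_lit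 1, nat_lit 1, nat_lit 0, nat_lit 3, nat_lit 3, nat_lit 0]), (nat_lit 43963, [nat_lit 4, nat_lit 4, nat_lit 3, nat_lit 2, nat_lit 0, nat_lit 0]), (nat_lit 44060, [nat_lit 4, nat_lit 2, nat_lit 0, nat_lit 2, nat_lit 0]), (nat_lit 44115, [nat_lit 4, nat_lit 3, nat_lit 1, nat_lit 0, nat_lit 1]), (nat_lit 44218, [nat_lit 3, nat_lit 0, nat_lit 3, nat_lit 1, nat_lit 1, nat_lit 0, nat_lit 0]), (nat_lit 44350, [nat_lit 4, nat_lit 3, nat_lit 4, nat_lit 2, nat_lit 2, nat_lit 0]), (nat_lit 44442, [nat_lit 1, nat_lit 0, nat_lit 3]), (nat_lit 44501, [nat_lit 2, nat_lit 0, nat_lit 1, nat_lit 3, nat_lit 3]), (nat_lit 44527, [nat_lit 4, nat_lit 2]), (nat_lit 44636, [nat_lit 1, nat_lit 1, nat_lit 3, nat_lit 4]), (nat_lit 44682, [nat_lit 3, nat_lit 3, nat_lit 1, nat_lit 0, nat_lit 1, nat_lit 1]), (nat_lit 44920, [nat_lit 3, nat_lit 3, nat_lit 1, nat_lit 1]), (nat_lit 44992, [nat_lit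 5, nat_lit 5, nat_lit 0]), (nat_lit 45006, [nat_lit 2, nat_lit 0, nat_lit 1, nat_lit 1]), (nat_lit 45055, [nat_lit 1, nat_lit 3, nat_lit 1, nat_lit 3, nat_lit 2, nat_lit 2]), (nat_lit 45063, [nat_lit 3, nat_lit 1, nat_lit 3, nat_lit 0, nat_lit 1]), (nat_lit 45171, [nat_lit 1, nat_lit 1, nat_lit 0, nat_lit 2]), (nat_lit 45196, [nat_lit 3, nat_lit 3, nat_lit 1, nat_lit 0, nat_lit 1, nat_lit 0]), (nat_lit 45344, [nat_lit 3, nat_lit 4, nat_lit 0]), (nat_lit 45383, [nat_lit 5, nat_lit 5, nat_lit 3]), (nat_lit 45480, [nat_lit 5, nat_lit 3, nat_lit 1]), (nat_lit 45554, [nat_lit 1, nat_lit 3, nat_lit 3, nat_lit 0, nat_lit 1]), (nat_lit 45682, [nat_lit 1, nat_lit 3, nat_lit 3, nat_lit 1]), (nat_lit 45938, [nat_lit 1, nat_lit 0, nat_lit 1, nat_lit 0, nat_lit 0]), (nat_lit 46032, [nat_lit 3, nat_lit 0, nat_lit 3]), (nat_lit 46127, [nat_lit 3, nat_lit 1, nat_lit 0, nat_lit 0,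 nat_lit 3]), (nat_lit 46172, [nat_lit 3, nat_lit 0, nat_lit 3, nat_lit 1, nat_lit 0]), (nat_lit 46229, [nat_lit 4, nat_lit 1, nat_lit 1, nat_lit 0, nat_lit 0]), (nat_lit 46238, [nat_lit 4, nat_lit 2, nat_lit 2, nat_lit 1]), (nat_lit 46257, [nat_lit 0, nat_lit 2, nat_lit 1, nat_lit 1, nat_lit 0]), (nat_lit 46260, [nat_lit 0, nat_lit 4, nat_lit 1, nat_lit 3, nat_lit 1, nat_lit 0]), (nat_lit 46302, [nat_lit 5, nat_lit 5, nat_lit 4]), (nat_lit 46311, [nat_lit 1, nat_lit 1, nat_lit 3, nat_lit 3, nat_lit 0, nat_lit 0]), (nat_lit 46370, [nat_lit 0, nat_lit 1, nat_lit 0]), (nat_lit 46635, [nat_lit 5, nat_lit 3]), (nat_lit 46889, [nat_lit 4, nat_lit 3, nat_lit 4, nat_lit 0, nat_lit 0]), (nat_lit 46906, [nat_lit 1, nat_lit 1, nat_lit 0, nat_lit 0]), (nat_lit 46924, [nat_lit 1, nat_lit 0, nat_lit 3, nat_lit 1, nat_lit 3, nat_lit 1]), (nat_lit 47129, [nat_lit 1, nat_lit 0, nat_lit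 3, nat_lit 1, nat_lit 0]), (nat_lit 47274, [nat_lit 2, nat_lit 1]), (nat_lit 47339, [nat_lit 5, nat_lit 4, nat_lit 4]), (nat_lit 47432, [nat_lit 3, nat_lit 4]), (nat_lit 47702, [nat_lit 1, nat_lit 0, nat_lit 3, nat_lit 3]), (nat_lit 47740, [nat_lit 3, nat_lit 0, nat_lit 1]), (nat_lit 47805, [nat_lit 3, nat_lit 3, nat_lit 0, nat_lit 1, nat_lit 0]), (nat_lit 47821, [nat_lit 2, nat_lit 1, nat_lit 0, nat_lit 1, nat_lit 0, nat_lit 0]), (nat_lit 47933, [nat_lit 3, nat_lit 2, nat_lit 2, nat_lit 1]), (nat_lit 47977, [nat_lit 4, nat_lit 1, nat_lit 0, nat_lit 1, nat_lit 0]), (nat_lit 48153, [nat_lit 4, nat_lit 1, nat_lit 0, nat_lit 4]), (nat_lit 48185, [nat_lit 4, nat_lit 1, nat_lit 3, nat_lit 3, nat_lit 0, nat_lit 0]), (nat_lit 48305, [nat_lit 0, nat_lit 0, nat_lit 1]), (nat_lit 48331, [nat_lit 3, nat_lit 1]), (nat_lit 48353, [nat_lit 3, nat_lit 3, nat_lit 4, nat_lit 0]),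 (nat_lit 48425, [nat_lit 5, nat_lit 5, nat_lit 3, nat_lit 2, nat_lit 1]), (nat_lit 48427, [nat_lit 3, nat_lit 3, nat_lit 1, nat_lit 0, nat_lit 0]), (nat_lit 48511, [nat_lit 3, nat_lit 3, nat_lit 0, nat_lit 1, nat_lit 1]), (nat_lit 48548, [nat_lit 4, nat_lit 1, nat_lit 0, nat_lit 3, nat_lit 0]), (nat_lit 48655, [nat_lit 0]), (nat_lit 48806, [nat_lit 3, nat_lit 1, nat_lit 3, nat_lit 2]), (nat_lit 48963, [nat_lit 3, nat_lit 4, nat_lit 1, nat_lit 3]), (nat_lit 49015, [nat_lit 3, nat_lit 3, nat_lit 2, nat_lit 1, nat_lit 0]), (nat_lit 49034, [nat_lit 0, nat_lit 2, nat_lit 0, nat_lit 1]), (nat_lit 49197, [nat_lit 4, nat_lit 3, nat_lit 3, nat_lit 2, nat_lit 2, nat_lit 0]), (nat_lit 49263, [nat_lit 4, nat_lit 0, nat_lit 3]), (nat_lit 49524, [nat_lit 4, nat_lit 0, nat_lit 0]), (nat_lit 49563, [nat_lit 2, nat_lit 1, nat_lit 0, nat_lit 1, nat_lit 0]), (nat_lit 49615, [nat_lit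 4, nat_lit 3, nat_lit 3, nat_lit 2, nat_lit 2, nat_lit 0, nat_lit 0]), (nat_lit 49733, [nat_lit 0, nat_lit 4, nat_lit 1, nat_lit 1, nat_lit 0]), (nat_lit 49791, [nat_lit 3, nat_lit 3, nat_lit 0, nat_lit 1]), (nat_lit 49899, [nat_lit 4, nat_lit 3, nat_lit 4, nat_lit 2]), (nat_lit 50064, [nat_lit 1, nat_lit 3, nat_lit 3, nat_lit 1, nat_lit 0]), (nat_lit 50136, [nat_lit 3, nat_lit 4, nat_lit 4, nat_lit 2]), (nat_lit 50170, [nat_lit 1, nat_lit 3, nat_lit 0, nat_lit 3]), (nat_lit 50356, [nat_lit 4, nat_lit 3, nat_lit 3, nat_lit 0]), (nat_lit 50370, [nat_lit 3, nat_lit 2, nat_lit 1, nat_lit 0]), (nat_lit 50744, [nat_lit 3, nat_lit 4, nat_lit 3]), (nat_lit 50774, [nat_lit 0, nat_lit 2, nat_lit 0, nat_lit 1, nat_lit 0]), (nat_lit 51088, [nat_lit 0, nat_lit 3, nat_lit 3, nat_lit 0, nat_lit 1, nat_lit 1]), (nat_lit 51096, [nat_lit 3, nat_lit 4, nat_lit 3, nat_lit 2, nat_lit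 0, nat_lit 0]), (nat_lit 51146, [nat_lit 3, nat_lit 1, nat_lit 0, nat_lit 3]), (nat_lit 51290, [nat_lit 3, nat_lit 4, nat_lit 1, nat_lit 1]), (nat_lit 51314, [nat_lit 0, nat_lit 0, nat_lit 1, nat_lit 0]), (nat_lit 51701, [nat_lit 5, nat_lit 3, nat_lit 0, nat_lit 1, nat_lit 1, nat_lit 0]), (nat_lit 51996, [nat_lit 3]), (nat_lit 52184, [nat_lit 3, nat_lit 1, nat_lit 0, nat_lit 0]), (nat_lit 52198, [nat_lit 4, nat_lit 1, nat_lit 3, nat_lit 3]), (nat_lit 52265, [nat_lit 3, nat_lit 3, nat_lit 2, nat_lit 2]), (nat_lit 52358, [nat_lit 3, nat_lit 3, nat_lit 2, nat_lit 0, nat_lit 0]), (nat_lit 52596, [nat_lit 3, nat_lit 2, nat_lit 1, nat_lit 1, nat_lit 0, nat_lit 0]), (nat_lit 52642, [nat_lit 5, nat_lit 3, nat_lit 0, nat_lit 1, nat_lit 0]), (nat_lit 52944, [nat_lit 2, nat_lit 1, nat_lit 0]), (nat_lit 52967, [nat_lit 1, nat_lit 0, nat_lit 4, nat_lit 1]), (nat_lit 53101, [nat_lit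 1, nat_lit 1, nat_lit 0, nat_lit 2, nat_lit 0]), (nat_lit 53130, [nat_lit 1, nat_lit 3, nat_lit 2, nat_lit 2]), (nat_lit 53158, [nat_lit 5, nat_lit 1, nat_lit 1]), (nat_lit 53560, [nat_lit 2, nat_lit 2, nat_lit 1]), (nat_lit 53582, [nat_lit 3, nat_lit 1, nat_lit 0, nat_lit 2, nat_lit 2]), (nat_lit 53659, [nat_lit 0, nat_lit 1, nat_lit 3, nat_lit 2]), (nat_lit 53783, [nat_lit 0, nat_lit 3, nat_lit 0, nat_lit 1, nat_lit 0]), (nat_lit 53948, [nat_lit 5, nat_lit 4, nat_lit 2, nat_lit 1, nat_lit 1]), (nat_lit 54101, [nat_lit 4, nat_lit 3, nat_lit 4, nat_lit 2, nat_lit 0, nat_lit 0]), (nat_lit 54216, [nat_lit 3, nat_lit 0, nat_lit 1, nat_lit 1, nat_lit 3]), (nat_lit 54237, [nat_lit 3, nat_lit 3, nat_lit 4, nat_lit 0, nat_lit 0]), (nat_lit 54270, [nat_lit 3, nat_lit 1, nat_lit 3, nat_lit 0, nat_lit 0]), (nat_lit 54627, [nat_lit 3, nat_lit 1, nat_lit 0, nat_lit 3, nat_lit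 1]), (nat_lit 54695, [nat_lit 4, nat_lit 0, nat_lit 2, nat_lit 1]), (nat_lit 54891, [nat_lit 0, nat_lit 1, nat_lit 3]), (nat_lit 55075, [nat_lit 3, nat_lit 3, nat_lit 2, nat_lit 0, nat_lit 1]), (nat_lit 55179, [nat_lit 4, nat_lit 3, nat_lit 2, nat_lit 2, nat_lit 0]), (nat_lit 55209, [nat_lit 5, nat_lit 3, nat_lit 3, nat_lit 2, nat_lit 2]), (nat_lit 55402, [nat_lit 3, nat_lit 0, nat_lit 0, nat_lit 1]), (nat_lit 55418, [nat_lit 1, nat_lit 0, nat_lit 3, nat_lit 1]), (nat_lit 55495, [nat_lit 4, nat_lit 3, nat_lit 4, nat_lit 3, nat_lit 0, nat_lit 0]), (nat_lit 55626, [nat_lit 3, nat_lit 1, nat_lit 1]), (nat_lit 55648, [nat_lit 5, nat_lit 0, nat_lit 1, nat_lit 1]), (nat_lit 55651, [nat_lit 0, nat_lit 3, nat_lit 0, nat_lit 1]), (nat_lit 55715, [nat_lit 3, nat_lit 4, nat_lit 0, nat_lit 1]), (nat_lit 55806, [nat_lit 5, nat_lit 2, nat_lit 1, nat_lit 1]), (nat_lit 55813, [nat_lit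 4, nat_lit 3, nat_lit 4, nat_lit 2, nat_lit 2]), (nat_lit 55976, [nat_lit 3, nat_lit 0, nat_lit 0, nat_lit 1, nat_lit 0]), (nat_lit 56164, [nat_lit 3, nat_lit 4, nat_lit 1, nat_lit 3, nat_lit 1, nat_lit 0]), (nat_lit 56194, [nat_lit 1, nat_lit 0, nat_lit 1, nat_lit 3, nat_lit 1, nat_lit 0]), (nat_lit 56349, [nat_lit 1, nat_lit 0, nat_lit 3, nat_lit 3, nat_lit 1, nat_lit 0]), (nat_lit 56451, [nat_lit 5]), (nat_lit 56656, [nat_lit 3, nat_lit 4, nat_lit 3, nat_lit 2, nat_lit 2, nat_lit 0]), (nat_lit 56775, [nat_lit 1, nat_lit 3, nat_lit 4, nat_lit 0, nat_lit 0]), (nat_lit 56881, [nat_lit 4, nat_lit 1, nat_lit 3, nat_lit 0, nat_lit 0]), (nat_lit 56901, [nat_lit 4, nat_lit 3, nat_lit 2, nat_lit 2, nat_lit 0, nat_lit 0]), (nat_lit 56927, [nat_lit 4, nat_lit 4, nat_lit 0, nat_lit 0]), (nat_lit 56935, [nat_lit 4, nat_lit 4, nat_lit 1, nat_lit 0, nat_lit 1]), (nat_lit 56975,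 [nat_lit 5, nat_lit 3, nat_lit 3, nat_lit 2, nat_lit 1]), (nat_lit 56994, [nat_lit 3, nat_lit 4, nat_lit 4, nat_lit 3, nat_lit 2]), (nat_lit 57093, [nat_lit 3, nat_lit 1, nat_lit 3, nat_lit 0]), (nat_lit 57154, [nat_lit 4, nat_lit 3, nat_lit 1, nat_lit 1]), (nat_lit 57271, [nat_lit 3, nat_lit 4, nat_lit 2, nat_lit 1]), (nat_lit 57284, [nat_lit 4, nat_lit 4, nat_lit 3, nat_lit 2, nat_lit 0]), (nat_lit 57399, [nat_lit 3, nat_lit 4, nat_lit 3, nat_lit 2, nat_lit 0]), (nat_lit 57408, [nat_lit 1, nat_lit 3, nat_lit 0]), (nat_lit 57540, [nat_lit 3, nat_lit 4, nat_lit 4, nat_lit 2, nat_lit 2, nat_lit 0]), (nat_lit 57644, [nat_lit 0, nat_lit 3, nat_lit 1, nat_lit 1, nat_lit 3]), (nat_lit 57829, [nat_lit 3, nat_lit 4, nat_lit 1, nat_lit 3, nat_lit 2, nat_lit 1]), (nat_lit 57985, [nat_lit 1, nat_lit 0, nat_lit 3, nat_lit 0, nat_lit 1]), (nat_lit 57996, [nat_lit 4, nat_lit 3,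 nat_lit 2, nat_lit 0]), (nat_lit 58237, [nat_lit 3, nat_lit 2, nat_lit 0, nat_lit 2]), (nat_lit 58314, [nat_lit 3, nat_lit 4, nat_lit 3, nat_lit 1, nat_lit 0]), (nat_lit 58649, [nat_lit 0, nat_lit 3, nat_lit 1, nat_lit 3, nat_lit 1]), (nat_lit 58664, [nat_lit 1, nat_lit 0, nat_lit 2]), (nat_lit 58746, [nat_lit 1, nat_lit 0, nat_lit 3, nat_lit 3, nat_lit 0]), (nat_lit 58792, [nat_lit 5, nat_lit 5, nat_lit 1, nat_lit 0, nat_lit 0]), (nat_lit 59113, [nat_lit 1, nat_lit 3, nat_lit 3, nat_lit 0, nat_lit 0]), (nat_lit 59124, [nat_lit 1, nat_lit 0, nat_lit 1, nat_lit 3, nat_lit 0]), (nat_lit 59135, [nat_lit 4, nat_lit 2, nat_lit 2, nat_lit 1, nat_lit 1]), (nat_lit 59360, [nat_lit 4, nat_lit 1, nat_lit 1, nat_lit 0]), (nat_lit 59380, [nat_lit 5, nat_lit 0]), (nat_lit 59690, [nat_lit 5, nat_lit 5, nat_lit 1, nat_lit 1, nat_lit 0, nat_lit 0]), (nat_lit 59723, [nat_lit 4, nat_lit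 4, nat_lit 3, nat_lit 0]), (nat_lit 59753, [nat_lit 5, nat_lit 4, nat_lit 1, nat_lit 1]), (nat_lit 59807, [nat_lit 1, nat_lit 3, nat_lit 1, nat_lit 3]), (nat_lit 59827, [nat_lit 5, nat_lit 5, nat_lit 0, nat_lit 1, nat_lit 1]), (nat_lit 59829, [nat_lit 0, nat_lit 3, nat_lit 3, nat_lit 2, nat_lit 1, nat_lit 0]), (nat_lit 59968, [nat_lit 3, nat_lit 4, nat_lit 4, nat_lit 3, nat_lit 2, nat_lit 0]), (nat_lit 60076, [nat_lit 1, nat_lit 0, nat_lit 2, nat_lit 0]), (nat_lit 60107, [nat_lit 1, nat_lit 1, nat_lit 0, nat_lit 4, nat_lit 0]), (nat_lit 60112, [nat_lit 4, nat_lit 0, nat_lit 1]), (nat_lit 60277, [nat_lit 0, nat_lit 0, nat_lit 1, nat_lit 3, nat_lit 3, nat_lit 0]), (nat_lit 60320, [nat_lit 4, nat_lit 3, nat_lit 4, nat_lit 0]), (nat_lit 60574, [nat_lit 0, nat_lit 4, nat_lit 1, nat_lit 3, nat_lit 1]), (nat_lit 60647, [nat_lit 1, nat_lit 0, nat_lit 1, nat_lit 1, nat_lit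 0]), (nat_lit 60682, [nat_lit 1, nat_lit 0, nat_lit 0, nat_lit 2, nat_lit 1]), (nat_lit 60942, [nat_lit 1, nat_lit 0, nat_lit 2, nat_lit 1]), (nat_lit 60962, [nat_lit 3, nat_lit 1, nat_lit 0, nat_lit 1, nat_lit 1]), (nat_lit 60999, [nat_lit 5, nat_lit 3, nat_lit 3, nat_lit 2, nat_lit 1, nat_lit 1]), (nat_lit 61112, [nat_lit 3, nat_lit 0, nat_lit 0, nat_lit 1, nat_lit 3, nat_lit 0]), (nat_lit 61158, [nat_lit 4, nat_lit 2, nat_lit 0, nat_lit 1]), (nat_lit 61165, [nat_lit 5, nat_lit 5, nat_lit 3, nat_lit 3, nat_lit 2]), (nat_lit 61190, [nat_lit 0, nat_lit 3, nat_lit 1, nat_lit 1, nat_lit 3, nat_lit 0]), (nat_lit 61193, [nat_lit 0, nat_lit 2, nat_lit 2, nat_lit 0]), (nat_lit 61235, [nat_lit 4, nat_lit 4, nat_lit 3, nat_lit 3, nat_lit 2, nat_lit 0, nat_lit 0]), (nat_lit 61312, [nat_lit 1, nat_lit 0, nat_lit 1, nat_lit 3, nat_lit 1]), (nat_lit 61365, [nat_lit 4, nat_lit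 3, nat_lit 2, nat_lit 0, nat_lit 0]), (nat_lit 61582, [nat_lit 1, nat_lit 1, nat_lit 0, nat_lit 0, nat_lit 3]), (nat_lit 61646, [nat_lit 3, nat_lit 3, nat_lit 4, nat_lit 1, nat_lit 1]), (nat_lit 61720, [nat_lit 5, nat_lit 4, nat_lit 1]), (nat_lit 61871, [nat_lit 3, nat_lit 1, nat_lit 0, nat_lit 1, nat_lit 1, nat_lit 0]), (nat_lit 61917, [nat_lit 0, nat_lit 4, nat_lit 4, nat_lit 0]), (nat_lit 62016, [nat_lit 0, nat_lit 3, nat_lit 0]), (nat_lit 62098, [nat_lit 3, nat_lit 4, nat_lit 1, nat_lit 3, nat_lit 2]), (nat_lit 62136, [nat_lit 0, nat_lit 3, nat_lit 1, nat_lit 3, nat_lit 1, nat_lit 0]), (nat_lit 62255, [nat_lit 4, nat_lit 4, nat_lit 2, nat_lit 1, nat_lit 1]), (nat_lit 62355, [nat_lit 0, nat_lit 4, nat_lit 1, nat_lit 1]), (nat_lit 62416, [nat_lit 1, nat_lit 3, nat_lit 1, nat_lit 0, nat_lit 0]), (nat_lit 62454, [nat_lit 0, nat_lit 3, nat_lit 1, nat_lit 1]), (nat_lit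 62562, [nat_lit 0, nat_lit 0, nat_lit 2, nat_lit 1, nat_lit 1, nat_lit 0]), (nat_lit 62577, [nat_lit 1, nat_lit 1, nat_lit 0]), (nat_lit 62578, [nat_lit 3, nat_lit 0, nat_lit 1, nat_lit 0]), (nat_lit 62728, [nat_lit 5, nat_lit 5, nat_lit 1, nat_lit 0]), (nat_lit 62952, [nat_lit 3, nat_lit 3, nat_lit 4, nat_lit 2, nat_lit 0, nat_lit 0]), (nat_lit 63033, [nat_lit 0, nat_lit 4, nat_lit 4]), (nat_lit 63143, [nat_lit 0, nat_lit 0, nat_lit 4, nat_lit 1]), (nat_lit 63238, [nat_lit 3, nat_lit 1, nat_lit 0, nat_lit 3, nat_lit 1, nat_lit 0]), (nat_lit 63455, [nat_lit 0, nat_lit 1, nat_lit 0, nat_lit 4]), (nat_lit 63475, [nat_lit 1, nat_lit 0, nat_lit 3, nat_lit 0, nat_lit 1, nat_lit 0]), (nat_lit 63526, [nat_lit 5, nat_lit 0, nat_lit 1]), (nat_lit 63549, [nat_lit 4, nat_lit 0, nat_lit 4]), (nat_lit 63660, [nat_lit 3, nat_lit 0, nat_lit 1, nat_lit 1, nat_lit 0, nat_lit 0]),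 (nat_lit 63723, [nat_lit 1, nat_lit 0, nat_lit 0, nat_lit 2]), (nat_lit 64197, [nat_lit 3, nat_lit 4, nat_lit 1, nat_lit 1, nat_lit 0, nat_lit 0]), (nat_lit 64304, [nat_lit 3, nat_lit 4, nat_lit 3, nat_lit 2, nat_lit 1]), (nat_lit 64365, [nat_lit 5, nat_lit 4, nat_lit 2]), (nat_lit 64395, [nat_lit 0, nat_lit 2]), (nat_lit 64405, [nat_lit 3, nat_lit 2, nat_lit 1, nat_lit 0, nat_lit 2]), (nat_lit 64463, [nat_lit 3, nat_lit 4, nat_lit 4, nat_lit 2, nat_lit 2]), (nat_lit 64570, [nat_lit 0, nat_lit 0, nat_lit 2, nat_lit 1, nat_lit 1]), (nat_lit 64737, [nat_lit 0, nat_lit 1, nat_lit 3, nat_lit 0, nat_lit 3]), (nat_lit 64873, [nat_lit 0, nat_lit 1, nat_lit 1, nat_lit 3, nat_lit 0]), (nat_lit 64975, [nat_lit 1, nat_lit 0, nat_lit 0]), (nat_lit 65260, [nat_lit 0, nat_lit 3, nat_lit 3, nat_lit 0, nat_lit 1]), (nat_lit 65314, [nat_lit 4, nat_lit 0, nat_lit 1, nat_lit 1, nat_lit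 0]), (nat_lit 65534, [nat_lit 1, nat_lit 1, nat_lit 3, nat_lit 3, nat_lit 2]), (nat_lit 65735, [nat_lit 0, nat_lit 4, nat_lit 1, nat_lit 0, nat_lit 0]), (nat_lit 65736, [nat_lit 4, nat_lit 4, nat_lit 2, nat_lit 2, nat_lit 1, nat_lit 1]), (nat_lit 65807, [nat_lit 1, nat_lit 3, nat_lit 0, nat_lit 0]), (nat_lit 65983, [nat_lit 5, nat_lit 0, nat_lit 1, nat_lit 1, nat_lit 0, nat_lit 0]), (nat_lit 66065, [nat_lit 3, nat_lit 4, nat_lit 2, nat_lit 0]), (nat_lit 66161, [nat_lit 4, nat_lit 4, nat_lit 0]), (nat_lit 66163, [nat_lit 5, nat_lit 0, nat_lit 2]), (nat_lit 66201, [nat_lit 4, nat_lit 4, nat_lit 3]), (nat_lit 66228, [nat_lit 0, nat_lit 3, nat_lit 1, nat_lit 0, nat_lit 3]), (nat_lit 66229, [nat_lit 0, nat_lit 3, nat_lit 1, nat_lit 0]), (nat_lit 66266, [nat_lit 3, nat_lit 1, nat_lit 1, nat_lit 0, nat_lit 0]), (nat_lit 66292, [nat_lit 5, nat_lit 3, nat_lit 0, nat_lit 1,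 nat_lit 1]), (nat_lit 66364, [nat_lit 4, nat_lit 1, nat_lit 3, nat_lit 0]), (nat_lit 66380, [nat_lit 5, nat_lit 0, nat_lit 1, nat_lit 1, nat_lit 0]), (nat_lit 66608, [nat_lit 3, nat_lit 3, nat_lit 1]), (nat_lit 66736, [nat_lit 3, nat_lit 1, nat_lit 1, nat_lit 3]), (nat_lit 66884, [nat_lit 3, nat_lit 2, nat_lit 1, nat_lit 1, nat_lit 0]), (nat_lit 66956, [nat_lit 4, nat_lit 0, nat_lit 2]), (nat_lit 66991, [nat_lit 4, nat_lit 1, nat_lit 0, nat_lit 1]), (nat_lit 67013, [nat_lit 3, nat_lit 2, nat_lit 0]), (nat_lit 67283, [nat_lit 0, nat_lit 1, nat_lit 3, nat_lit 3, nat_lit 2]), (nat_lit 67294, [nat_lit 5, nat_lit 3, nat_lit 1, nat_lit 1, nat_lit 0, nat_lit 0]), (nat_lit 67439, [nat_lit 4, nat_lit 4, nat_lit 1, nat_lit 0]), (nat_lit 67464, [nat_lit 4, nat_lit 3, nat_lit 1, nat_lit 0]), (nat_lit 67768, [nat_lit 2, nat_lit 0, nat_lit 3, nat_lit 1, nat_lit 3]), (nat_lit 68144,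 [nat_lit 0, nat_lit 3, nat_lit 0, nat_lit 1, nat_lit 3, nat_lit 1]), (nat_lit 68223, [nat_lit 3, nat_lit 3, nat_lit 2, nat_lit 0, nat_lit 2, nat_lit 0]), (nat_lit 68246, [nat_lit 3, nat_lit 3, nat_lit 2, nat_lit 2, nat_lit 1, nat_lit 1]), (nat_lit 68266, [nat_lit 2, nat_lit 1, nat_lit 1]), (nat_lit 68286, [nat_lit 4, nat_lit 3]), (nat_lit 68355, [nat_lit 5, nat_lit 0, nat_lit 0, nat_lit 1, nat_lit 0]), (nat_lit 68367, [nat_lit 0, nat_lit 0, nat_lit 3, nat_lit 1, nat_lit 1]), (nat_lit 68445, [nat_lit 5, nat_lit 3, nat_lit 3, nat_lit 2]), (nat_lit 68508, [nat_lit 3, nat_lit 0, nat_lit 1, nat_lit 3, nat_lit 1]), (nat_lit 68736, [nat_lit 0, nat_lit 3, nat_lit 1, nat_lit 3]), (nat_lit 69007, [nat_lit 1, nat_lit 3, nat_lit 0, nat_lit 0, nat_lit 1, nat_lit 0]), (nat_lit 69111, [nat_lit 3, nat_lit 4, nat_lit 0, nat_lit 2, nat_lit 0]), (nat_lit 69224, [nat_lit 0, nat_lit 1,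 nat_lit 1, nat_lit 0, nat_lit 3]), (nat_lit 69236, [nat_lit 3, nat_lit 3, nat_lit 4, nat_lit 2, nat_lit 1, nat_lit 1]), (nat_lit 69283, [nat_lit 5, nat_lit 3, nat_lit 1, nat_lit 0, nat_lit 0]), (nat_lit 69328, [nat_lit 4, nat_lit 4, nat_lit 3, nat_lit 3, nat_lit 2]), (nat_lit 69386, [nat_lit 0, nat_lit 1, nat_lit 1, nat_lit 0]), (nat_lit 69423, [nat_lit 4, nat_lit 4, nat_lit 2, nat_lit 2, nat_lit 0]), (nat_lit 69436, [nat_lit 3, nat_lit 1, nat_lit 1, nat_lit 3, nat_lit 2]), (nat_lit 69449, [nat_lit 3, nat_lit 3, nat_lit 4, nat_lit 2, nat_lit 1]), (nat_lit 69495, [nat_lit 5, nat_lit 5, nat_lit 3, nat_lit 3])])]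

theorem rel0 : P.relRow (dT T W) B 0 = true := by decide +kernel
theorem rel1 : P.relRow (dT T W) B 1 = true := by decide +kernel
theorem rel2 : P.relRow (dT T W) B 2 = true := by decide +kernel
theorem rel3 : P.relRow (dT T W) B 3 = true := by decide +kernel
theorem rel4 : P.relRow (dT T W) B 4 = true := by decide +kernel
theorem rel5 : P.relRow (dT T W) B 5 = true := by decide +kernel
theorem fus0 : P.fusOk (dT T W) B fu 0 = true := by decide +kernel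
theorem fus1 : P.fusOk (dT T W) B fu 1 = true := by decide +kernel
theorem fus2 : P.fusOk (dT T W) B fu 2 = true := by decide +kernel
theorem fus3 : P.fusOk (dT T W) B fu 3 = true := by decide +kernel
theorem fus4 : P.fusOk (dT T W) B fu 4 = true := by decide +kernel
theorem fus5 : P.fusOk (dT T W) B fu 5 = true := by decide +kernel
theorem fus6 : P.fusOk (dT T W) B fu 6 = true := by decide +kernel
theorem fus7 : P.fusOk (dT T W) B fu 7 = true := by decide +kernel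
theorem fus8 : P.fusOk (dT T W) B fu 8 = true := by decide +kernel
theorem fus9 : P.fusOk (dT T W) B fu 9 = true := by decide +kernel
theorem fus10 : P.fusOk (dT T W) B fu 10 = true := by decide +kernel
theorem fus11 : P.fusOk (dT T W) B fu 11 = true := by decide +kernel
theorem fus12 : P.fusOk (dT T W) B fu 12 = true := by decide +kernel
theorem fus13 : P.fusOk (dT T W) B fu 13 = true := by decide +kernel
theorem fus14 : P.fusOk (dT T W) B fu 14 = true := by decide +kernel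
theorem fus15 : P.fusOk (dT T W) B fu 15 = true := by decide +kernel
theorem fus16 : P.fusOk (dT T W) B fu 16 = true := by decide +kernel
theorem fus17 : P.fusOk (dT T W) B fu 17 = true := by decide +kernel
theorem fin0 : P.finRow lam (bs :: CV) MU 0 = true := by decide +kernel
theorem fin1 : P.finRow lam (bs :: CV) MU 1 = true := by decide +kernel
theorem fin2 : P.finRow lam (bs :: CV) MU 2 = true := by decide +kernel
theorem fin3 : P.finRow lam (bs :: CV) MU 3 = true := by decide +kernel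
theorem fin4 : P.finRow lam (bs :: CV) MU 4 = true := by decide +kernel
theorem fin5 : P.finRow lam (bs :: CV) MU 5 = true := by decide +kernel

theorem pm {G : Type*} [Group G] [Finite G] {A : RAct G 69615} {g : ℕ → G} (hb : A.IsBase B)
    (h : A.Tab g 24 T) (ho : Nat.card G = 3311126603366400) : PMult G 3 0 0 :=
  pmult_of_tab hb h ho P (show Nat.Prime 3 by norm_num) W fu 0 lam bs mo [cc0] CV MU lv 18
    (by decide +kernel) (forall_lt_succ' (forall_lt_succ' (forall_lt_succ' (forall_lt_succ' (forall_lt_succ' (forall_lt_succ' forall_lt_zero' rel0) rel1) rel2) rel3) rel4) rel5) (by decide +kernel)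
    (forall_lt_succ' (forall_lt_succ' (forall_lt_succ' (forall_lt_succ' (forall_lt_succ' (forall_lt_succ' (forall_lt_succ' (forall_lt_succ' (forall_lt_succ' (forall_lt_succ' (forall_lt_succ' (forall_lt_succ' (forall_lt_succ' (forall_lt_succ' (forall_lt_succ' (forall_lt_succ' (forall_lt_succ' (forall_lt_succ' forall_lt_zero' fus0) fus1) fus2) fus3) fus4) fus5) fus6) fus7) fus8) fus9) fus10) fus11) fus12) fus13) fus14) fus15) fus16) fus17)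
    (by decide +kernel) (by decide +kernel) (by decide +kernel) (by decide +kernel)
    (List.forall_mem_cons.mpr ⟨con0, (by simp)⟩)
    (forall_lt_succ' (forall_lt_succ' (forall_lt_succ' (forall_lt_succ' (forall_lt_succ' (forall_lt_succ' forall_lt_zero' fin0) fin1) fin2) fin3) fin4) fin5) (by decide +kernel)

end Cfsg.Agent.H3.F42.P3
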