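import Cfsg.Agent.L0.PcCert
import Cfsg.Agent.L0.Dw
import Cfsg.Agent.H3.Mu.F42.Tab

/-! Generated certificate: the `7`-part of a Schur multiplier. -/

set_option autoImplicit false
set_option maxRecDepth 100000

open Cfsg.Agent.L0

namespace Cfsg.Agent.H3.F42.P7

noncomputable def W : List (List ℕ) := [
  dw (nat_lit 5) (nat_lit 31) (nat_lit 25) (nat_lit 0x3398a63b44d29146095839bdaabd651),
  dw (nat_lit 5) (nat_lit 31) (nat_lit 27) (nat_lit 0x1647898ac3b0c270445314042a5c6ad251),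
  dw (nat_lit 5) (nat_lit 31) (nat_lit 25) (nat_lit 0x1679e4599dc531e62a94862ad861aa92),
  dw (nat_lit 5) (nat_lit 31) (nat_lit 34) (nat_lit 0x12799647989871444e088c52158609569731ea0d691)]

noncomputable def P : PcP := ⟨nat_lit 7, nat_lit 3, nat_lit 1, nat_lit 0x40, nat_lit 6, nat_lit 63, nat_lit 14, nat_lit 16383, nat_lit 7, nat_lit 6, nat_lit 7, nat_lit 8⟩

noncomputable def fu : Fus := ⟨[nat_lit 8, nat_lit 1, nat_lit 1],
  [nat_lit 38, nat_lit 1, nat_lit 4],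
  [nat_lit 2, nat_lit 2, nat_lit 3]⟩

noncomputable def lam : List ℕ := [nat_lit 0x0,
  nat_lit 0x0]

noncomputable def bs : List ℕ := []

noncomputable def mo : List ℕ := []

noncomputable def cv0 : List ℕ := [nat_lit 0xc000,
  nat_lit 0x60000003,
  nat_lit 0x30000000]

noncomputable def cc0 : List Con := [
  ⟨nat_lit 2, nat_lit 2, nat_lit 0, [nat_lit 1, nat_lit 0], [nat_lit 0, nat_lit 1], nthN cv0 (nat_lit 0)⟩,
  ⟨nat_lit 2, nat_lit 2, nat_lit 0, [nat_lit 0, nat_lit 0, nat_lit 0, nat_lit 0, nat_lit 0, nat_lit 0, nat_lit 0], [], nthN cv0 (nat_lit 1)⟩,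
  ⟨nat_lit 2, nat_lit 3, nat_lit 0, [nat_lit 2, nat_lit 2, nat_lit 2, nat_lit 2, nat_lit 2, nat_lit 2, nat_lit 2], [], nthN cv0 (nat_lit 2)⟩]

theorem con0 : allL cc0 (P.conOk fu) = true := by decide +kernel

noncomputable def CV : List (List ℕ) := [cv0]

noncomputable def MU : List (List ℕ) := [[nat_lit 0xa1],
  [nat_lit 0x2,
  nat_lit 0x62]]

noncomputable def lv : List (List (List ℕ) × ℕ × List (ℕ × List ℕ)) := [
  ([[nat_lit 0], [nat_lit 1]], nat_lit 0, [(nat_lit 0, []), (nat_lit 1316, [nat_lit 0, nat_lit 0, nat_lit 0, nat_lit 0, nat_lit 0, nat_lit 0]), (nat_lit 1513, [nat_lit 1, nat_lit 1, nat_lit 1, nat_lit 1, nat_lit 0, nat_lit 0, nat_lit 0]), (nat_lit 1844, [nat_lit 0]), (nat_lit 2250, [nat_lit 1, nat_lit 1, nat_lit 1, nat_lit 0, nat_lit 0, nat_lit 0, nat_lit 0]), (nat_lit 2412, [nat_lit 1, nat_lit 1, nat_lit 1, nat_lit 1, nat_lit 0, nat_lit 0, nat_lit 0, nat_lit 0]), (nat_lit 2818,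 [nat_lit 1, nat_lit 1, nat_lit 1, nat_lit 1, nat_lit 0, nat_lit 0]), (nat_lit 3435, [nat_lit 1, nat_lit 1, nat_lit 1, nat_lit 0, nat_lit 0, nat_lit 0, nat_lit 0, nat_lit 0]), (nat_lit 4324, [nat_lit 1, nat_lit 1, nat_lit 1, nat_lit 1, nat_lit 1, nat_lit 1, nat_lit 0]), (nat_lit 6947, [nat_lit 1, nat_lit 1, nat_lit 0]), (nat_lit 7278, [nat_lit 1, nat_lit 1, nat_lit 1, nat_lit 1, nat_lit 1, nat_lit 1, nat_lit 0, nat_lit 0, nat_lit 0, nat_lit 0, nat_lit 0]), (nat_lit 8787, [nat_lit 1, nat_lit 1, nat_lit 0, nat_lit 0, nat_lit 0]), (nat_lit 9958, [nat_lit 1, nat_lit 0, nat_lit 0]), (nat_lit 10062, [nat_lit 1, nat_lit 1, nat_lit 1, nat_lit 0, nat_lit 0, nat_lit 0]), (nat_lit 11481, [nat_lit 1, nat_lit 1, nat_lit 1, nat_lit 1, nat_lit 1, nat_lit 0, nat_lit 0, nat_lit 0, nat_lit 0]), (nat_lit 19298, [nat_lit 1, nat_lit 1, nat_lit 0, nat_lit 0, nat_lit 0, nat_lit 0]), (nat_lit 19839, [nat_lit 1,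 nat_lit 1, nat_lit 1, nat_lit 1, nat_lit 1, nat_lit 0, nat_lit 0, nat_lit 0]), (nat_lit 20338, [nat_lit 0, nat_lit 0, nat_lit 0, nat_lit 0, nat_lit 0]), (nat_lit 27725, [nat_lit 1, nat_lit 1, nat_lit 1, nat_lit 1, nat_lit 0, nat_lit 0, nat_lit 0, nat_lit 0, nat_lit 0]), (nat_lit 28781, [nat_lit 1, nat_lit 1, nat_lit 1, nat_lit 1]), (nat_lit 29902, [nat_lit 1, nat_lit 1, nat_lit 1, nat_lit 1, nat_lit 1, nat_lit 1, nat_lit 0, nat_lit 0]), (nat_lit 32300, [nat_lit 1, nat_lit 1, nat_lit 1, nat_lit 0, nat_lit 0, nat_lit 0, nat_lit 0, nat_lit 0, nat_lit 0]), (nat_lit 32318, [nat_lit 1, nat_lit 1, nat_lit 1, nat_lit 1, nat_lit 1, nat_lit 0, nat_lit 0]), (nat_lit 33260, [nat_lit 0, nat_lit 0, nat_lit 0, nat_lit 0]), (nat_lit 33390, [nat_lit 1, nat_lit 1, nat_lit 1, nat_lit 1, nat_lit 0, nat_lit 0, nat_lit 0, nat_lit 0, nat_lit 0, nat_lit 0]), (nat_lit 33926, [nat_lit 1, nat_lit 1, nat_lit 1, nat_lit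 1, nat_lit 1, nat_lit 1, nat_lit 0, nat_lit 0, nat_lit 0]), (nat_lit 37056, [nat_lit 1, nat_lit 1, nat_lit 1, nat_lit 1, nat_lit 1, nat_lit 0, nat_lit 0, nat_lit 0, nat_lit 0, nat_lit 0]), (nat_lit 37674, [nat_lit 0, nat_lit 0, nat_lit 0]), (nat_lit 37824, [nat_lit 1, nat_lit 0, nat_lit 0, nat_lit 0, nat_lit 0, nat_lit 0]), (nat_lit 37883, [nat_lit 1, nat_lit 1, nat_lit 0, nat_lit 0, nat_lit 0, nat_lit 0, nat_lit 0]), (nat_lit 38032, [nat_lit 1, nat_lit 1, nat_lit 1, nat_lit 1, nat_lit 1, nat_lit 1]), (nat_lit 42418, [nat_lit 1, nat_lit 1, nat_lit 1, nat_lit 0]), (nat_lit 43002, [nat_lit 1, nat_lit 1]), (nat_lit 43156, [nat_lit 1, nat_lit 1, nat_lit 0, nat_lit 0, nat_lit 0, nat_lit 0, nat_lit 0, nat_lit 0]), (nat_lit 46825, [nat_lit 1, nat_lit 1, nat_lit 1, nat_lit 0, nat_lit 0]), (nat_lit 52902, [nat_lit 1, nat_lit 1, nat_lit 1, nat_lit 1, nat_lit 1, nat_lit 1, nat_lit 0, nat_lit 0, nat_lit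 0, nat_lit 0]), (nat_lit 52908, [nat_lit 1, nat_lit 0, nat_lit 0, nat_lit 0, nat_lit 0, nat_lit 0, nat_lit 0]), (nat_lit 53192, [nat_lit 1, nat_lit 1, nat_lit 1, nat_lit 1, nat_lit 1, nat_lit 0, nat_lit 0, nat_lit 0, nat_lit 0, nat_lit 0, nat_lit 0]), (nat_lit 53221, [nat_lit 1, nat_lit 1, nat_lit 1]), (nat_lit 53614, [nat_lit 0, nat_lit 0]), (nat_lit 53713, [nat_lit 1, nat_lit 0]), (nat_lit 57940, [nat_lit 1, nat_lit 0, nat_lit 0, nat_lit 0, nat_lit 0]), (nat_lit 61961, [nat_lit 1, nat_lit 1, nat_lit 0, nat_lit 0]), (nat_lit 63021, [nat_lit 1, nat_lit 1, nat_lit 1, nat_lit 1, nat_lit 0]), (nat_lit 63328, [nat_lit 1, nat_lit 1, nat_lit 1, nat_lit 1, nat_lit 1, nat_lit 1, nat_lit 0, nat_lit 0, nat_lit 0, nat_lit 0, nat_lit 0, nat_lit 0]), (nat_lit 64915, [nat_lit 1, nat_lit 1, nat_lit 1, nat_lit 1, nat_lit 1]), (nat_lit 66091, [nat_lit 1, nat_lit 1, nat_lit 1, nat_lit 1, nat_lit 1, nat_lit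 0]), (nat_lit 66266, [nat_lit 1, nat_lit 0, nat_lit 0, nat_lit 0]), (nat_lit 67367, [nat_lit 1])])]

theorem rel0 : P.relRow (dT T W) B 0 = true := by decide +kernel
theorem rel1 : P.relRow (dT T W) B 1 = true := by decide +kernel
theorem fus0 : P.fusOk (dT T W) B fu 0 = true := by decide +kernel
theorem fus1 : P.fusOk (dT T W) B fu 1 = true := by decide +kernel
theorem fus2 : P.fusOk (dT T W) B fu 2 = true := by decide +kernel
theorem fin0 : P.finRow lam (bs :: CV) MU 0 = true := by decide +kernel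
theorem fin1 : P.finRow lam (bs :: CV) MU 1 = true := by decide +kernel

theorem pm {G : Type*} [Group G] [Finite G] {A : RAct G 69615} {g : ℕ → G} (hb : A.IsBase B)
    (h : A.Tab g 24 T) (ho : Nat.card G = 3311126603366400) : PMult G 7 0 0 :=
  pmult_of_tab hb h ho P (show Nat.Prime 7 by norm_num) W fu 0 lam bs mo [cc0] CV MU lv 3
    (by decide +kernel) (forall_lt_succ' (forall_lt_succ' forall_lt_zero' rel0) rel1) (by decide +kernel)
    (forall_lt_succ' (forall_lt_succ' (forall_lt_succ' forall_lt_zero' fus0) fus1) fus2)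
    (by decide +kernel) (by decide +kernel) (by decide +kernel) (by decide +kernel)
    (List.forall_mem_cons.mpr ⟨con0, (by simp)⟩)
    (forall_lt_succ' (forall_lt_succ' forall_lt_zero' fin0) fin1) (by decide +kernel)

end Cfsg.Agent.H3.F42.P7
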