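import Cfsg.Agent.H3.Mu.F42.Tc0T

/-! Generated checks. -/

set_option autoImplicit false
set_option maxRecDepth 100000

open Cfsg.Agent.L0

namespace Cfsg.Agent.H3.F42.Tc0

theorem b40 : allR chk 9 40 = true := by decide +kernel
theorem b41 : allR chk 9 41 = true := by decide +kernel
theorem b42 : allR chk 9 42 = true := by decide +kernel
theorem b43 : allR chk 9 43 = true := by decide +kernel
theorem b44 : allR chk 9 44 = true := by decide +kernel
theorem b45 : allR chk 9 45 = true := by decide +kernel
theorem b46 : allR chk 9 46 = true := by decide +kernel
theorem b47 : allR chk 9 47 = true := by decide +kernel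
theorem b48 : allR chk 9 48 = true := by decide +kernel
theorem b49 : allR chk 9 49 = true := by decide +kernel
theorem b50 : allR chk 9 50 = true := by decide +kernel
theorem b51 : allR chk 9 51 = true := by decide +kernel
theorem b52 : allR chk 9 52 = true := by decide +kernel
theorem b53 : allR chk 9 53 = true := by decide +kernel
theorem b54 : allR chk 9 54 = true := by decide +kernel
theorem b55 : allR chk 9 55 = true := by decide +kernel
theorem b56 : allR chk 9 56 = true := by decide +kernel
theorem b57 : allR chk 9 57 = true := by decide +kernel
theorem b58 : allR chk 9 58 = true := by decide +kernel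
theorem b59 : allR chk 9 59 = true := by decide +kernel
theorem b60 : allR chk 9 60 = true := by decide +kernel
theorem b61 : allR chk 9 61 = true := by decide +kernel
theorem b62 : allR chk 9 62 = true := by decide +kernel
theorem b63 : allR chk 9 63 = true := by decide +kernel
theorem b64 : allR chk 9 64 = true := by decide +kernel
theorem b65 : allR chk 9 65 = true := by decide +kernel
theorem b66 : allR chk 9 66 = true := by decide +kernel
theorem b67 : allR chk 9 67 = true := by decide +kernel
theorem b68 : allR chk 9 68 = true := by decide +kernel
theorem b69 : allR chk 9 69 = true := by decide +kernel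
theorem b70 : allR chk 9 70 = true := by decide +kernel
theorem b71 : allR chk 9 71 = true := by decide +kernel
theorem b72 : allR chk 9 72 = true := by decide +kernel
theorem b73 : allR chk 9 73 = true := by decide +kernel
theorem b74 : allR chk 9 74 = true := by decide +kernel
theorem b75 : allR chk 9 75 = true := by decide +kernel
theorem b76 : allR chk 9 76 = true := by decide +kernel
theorem b77 : allR chk 9 77 = true := by decide +kernel
theorem b78 : allR chk 9 78 = true := by decide +kernel
theorem b79 : allR chk 9 79 = true := by decide +kernel

end Cfsg.Agent.H3.F42.Tc0
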