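import Cfsg.Agent.H3.Mu.F42.Tc0T

/-! Generated checks. -/

set_option autoImplicit false
set_option maxRecDepth 100000

open Cfsg.Agent.L0

namespace Cfsg.Agent.H3.F42.Tc0

theorem b120 : allR chk 9 120 = true := by decide +kernel
theorem b121 : allR chk 9 121 = true := by decide +kernel
theorem b122 : allR chk 9 122 = true := by decide +kernel
theorem b123 : allR chk 9 123 = true := by decide +kernel
theorem b124 : allR chk 9 124 = true := by decide +kernel
theorem b125 : allR chk 9 125 = true := by decide +kernel
theorem b126 : allR chk 9 126 = true := by decide +kernel
theorem b127 : allR chk 9 127 = true := by decide +kernel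
theorem b128 : allR chk 9 128 = true := by decide +kernel
theorem b129 : allR chk 9 129 = true := by decide +kernel
theorem b130 : allR chk 9 130 = true := by decide +kernel
theorem b131 : allR chk 9 131 = true := by decide +kernel
theorem b132 : allR chk 9 132 = true := by decide +kernel
theorem b133 : allR chk 9 133 = true := by decide +kernel
theorem b134 : allR chk 9 134 = true := by decide +kernel
theorem b135 : allR chk 9 135 = true := by decide +kernel

end Cfsg.Agent.H3.F42.Tc0
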