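import Cfsg.Agent.H3.Mu.F42.Tc0C0
import Cfsg.Agent.H3.Mu.F42.Tc0C1
import Cfsg.Agent.H3.Mu.F42.Tc0C2
import Cfsg.Agent.H3.Mu.F42.Tc0C3

/-! Generated coset table certificate. -/

set_option autoImplicit false
set_option maxRecDepth 100000

open Cfsg.Agent.L0

namespace Cfsg.Agent.H3.F42.Tc0

noncomputable def T : CT := ⟨row, nat_lit 69615, nat_lit 69615, nat_lit 0x1ffff, nat_lit 0x3fe0000, nat_lit 26, nat_lit 0x3f, nat_lit 0, nat_lit 0x1ffff, nat_lit 17, nat_lit 0x3ff, nat_lit 0x78000000, nat_lit 799, nat_lit 799, nat_lit 0, nat_lit 12, [], cols, erots, gens⟩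

theorem a50 : ∀ j < 50, allR chk 9 j = true := (forall_lt_succ' (forall_lt_succ' (forall_lt_succ' (forall_lt_succ' (forall_lt_succ' (forall_lt_succ' (forall_lt_succ' (forall_lt_succ' (forall_lt_succ' (forall_lt_succ' (forall_lt_succ' (forall_lt_succ' (forall_lt_succ' (forall_lt_succ' (forall_lt_succ' (forall_lt_succ' (forall_lt_succ' (forall_lt_succ' (forall_lt_succ' (forall_lt_succ' (forall_lt_succ' (forall_lt_succ' (forall_lt_succ' (forall_lt_succ' (forall_lt_succ' (forall_lt_succ' (forall_lt_succ' (forall_lt_succ' (forall_lt_succ' (forall_lt_succ' (forall_lt_succ' (forall_lt_succ' (forall_lt_succ' (forall_lt_succ' (forall_lt_succ' (forall_lt_succ' (forall_lt_succ' (forall_lt_succ' (forall_lt_succ' (forall_lt_succ' (forall_lt_succ' (forall_lt_succ' (forall_lt_succ' (forall_lt_succ' (forall_lt_succ' (forall_lt_succ' (forall_lt_succ' (forall_lt_succ' (forall_lt_succ' (forall_lt_succ' forall_lt_zero'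 b0) b1) b2) b3) b4) b5) b6) b7) b8) b9) b10) b11) b12) b13) b14) b15) b16) b17) b18) b19) b20) b21) b22) b23) b24) b25) b26) b27) b28) b29) b30) b31) b32) b33) b34) b35) b36) b37) b38) b39) b40) b41) b42) b43) b44) b45) b46) b47) b48) b49)
theorem a100 : ∀ j < 100, allR chk 9 j = true := (forall_lt_succ' (forall_lt_succ' (forall_lt_succ' (forall_lt_succ' (forall_lt_succ' (forall_lt_succ' (forall_lt_succ' (forall_lt_succ' (forall_lt_succ' (forall_lt_succ' (forall_lt_succ' (forall_lt_succ' (forall_lt_succ' (forall_lt_succ' (forall_lt_succ' (forall_lt_succ' (forall_lt_succ' (forall_lt_succ' (forall_lt_succ' (forall_lt_succ' (forall_lt_succ' (forall_lt_succ' (forall_lt_succ' (forall_lt_succ' (forall_lt_succ' (forall_lt_succ' (forall_lt_succ' (forall_lt_succ' (forall_lt_succ' (forall_lt_succ' (forall_lt_succ' (forall_lt_succ' (forall_lt_succ' (forall_lt_succ' (forall_lt_succ' (forall_lt_succ' (forall_lt_succ'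 (forall_lt_succ' (forall_lt_succ' (forall_lt_succ' (forall_lt_succ' (forall_lt_succ' (forall_lt_succ' (forall_lt_succ' (forall_lt_succ' (forall_lt_succ' (forall_lt_succ' (forall_lt_succ' (forall_lt_succ' (forall_lt_succ' a50 b50) b51) b52) b53) b54) b55) b56) b57) b58) b59) b60) b61) b62) b63) b64) b65) b66) b67) b68) b69) b70) b71) b72) b73) b74) b75) b76) b77) b78) b79) b80) b81) b82) b83) b84) b85) b86) b87) b88) b89) b90) b91) b92) b93) b94) b95) b96) b97) b98) b99)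
theorem all : ∀ c < 69615, chk c = true := fun c hc =>
  allR_glue (d := 9) (n := 136) (forall_lt_succ' (forall_lt_succ' (forall_lt_succ' (forall_lt_succ' (forall_lt_succ' (forall_lt_succ' (forall_lt_succ' (forall_lt_succ' (forall_lt_succ' (forall_lt_succ' (forall_lt_succ' (forall_lt_succ' (forall_lt_succ' (forall_lt_succ' (forall_lt_succ' (forall_lt_succ' (forall_lt_succ' (forall_lt_succ' (forall_lt_succ' (forall_lt_succ' (forall_lt_succ' (forall_lt_succ' (forall_lt_succ' (forall_lt_succ' (forall_lt_succ' (forall_lt_succ' (forall_lt_succ' (forall_lt_succ' (forall_lt_succ' (forall_lt_succ' (forall_lt_succ' (forall_lt_succ' (forall_lt_succ' (forall_lt_succ' (forall_lt_succ' (forall_lt_succ' a100 b100) b101) b102) b103) b104) b105) b106) b107) b108) b109) b110) b111) b112) b113) b114) b115) b116) b117) b118) b119) b120) b121) b122) b123) b124) b125) b126) b127) b128) b129) b130) b131) b132) b133)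 b134) b135) c (lt_of_lt_of_le hc (by norm_num))

/-- the relators used -/
def R : List (List ℕ) := [[nat_lit 0, nat_lit 0],
  [nat_lit 1, nat_lit 1],
  [nat_lit 2, nat_lit 2],
  [nat_lit 3, nat_lit 3],
  [nat_lit 4, nat_lit 4],
  [nat_lit 5, nat_lit 5],
  [nat_lit 6, nat_lit 6],
  [nat_lit 7, nat_lit 7],
  [nat_lit 8, nat_lit 8],
  [nat_lit 9, nat_lit 9],
  [nat_lit 10, nat_lit 10],
  [nat_lit 11, nat_lit 11],
  [nat_lit 12, nat_lit 12],
  [nat_lit 13, nat_lit 13],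
  [nat_lit 14, nat_lit 14],
  [nat_lit 15, nat_lit 15],
  [nat_lit 16, nat_lit 16],
  [nat_lit 17, nat_lit 17],
  [nat_lit 18, nat_lit 18],
  [nat_lit 19, nat_lit 19],
  [nat_lit 20, nat_lit 20],
  [nat_lit 21, nat_lit 21],
  [nat_lit 22, nat_lit 22],
  [nat_lit 23, nat_lit 23],
  [nat_lit 2, nat_lit 1, nat_lit 2, nat_lit 3, nat_lit 2, nat_lit 1, nat_lit 2, nat_lit 8],
  [nat_lit 8, nat_lit 0, nat_lit 8, nat_lit 9],
  [nat_lit 8, nat_lit 6, nat_lit 8, nat_lit 10],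
  [nat_lit 4, nat_lit 0, nat_lit 8, nat_lit 0, nat_lit 4, nat_lit 11],
  [nat_lit 4, nat_lit 5, nat_lit 1, nat_lit 6, nat_lit 5, nat_lit 6, nat_lit 1, nat_lit 5, nat_lit 4, nat_lit 12],
  [nat_lit 0, nat_lit 1, nat_lit 0, nat_lit 13],
  [nat_lit 0, nat_lit 12, nat_lit 0, nat_lit 14],
  [nat_lit 0, nat_lit 10, nat_lit 0, nat_lit 15],
  [nat_lit 11, nat_lit 1, nat_lit 11, nat_lit 16],
  [nat_lit 9, nat_lit 1, nat_lit 9, nat_lit 17],
  [nat_lit 9, nat_lit 6, nat_lit 9, nat_lit 18],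
  [nat_lit 9, nat_lit 12, nat_lit 9, nat_lit 19],
  [nat_lit 9, nat_lit 13, nat_lit 9, nat_lit 20],
  [nat_lit 9, nat_lit 14, nat_lit 9, nat_lit 21],
  [nat_lit 13, nat_lit 16, nat_lit 22],
  [nat_lit 13, nat_lit 21, nat_lit 13, nat_lit 23],
  [nat_lit 18, nat_lit 17, nat_lit 18, nat_lit 17],
  [nat_lit 20, nat_lit 17, nat_lit 20, nat_lit 17],
  [nat_lit 20, nat_lit 18, nat_lit 20, nat_lit 18],
  [nat_lit 21, nat_lit 17, nat_lit 21, nat_lit 17],
  [nat_lit 21, nat_lit 18, nat_lit 21, nat_lit 18],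
  [nat_lit 21, nat_lit 20, nat_lit 21, nat_lit 20],
  [nat_lit 22, nat_lit 17, nat_lit 22, nat_lit 17],
  [nat_lit 22, nat_lit 18, nat_lit 22, nat_lit 18],
  [nat_lit 22, nat_lit 20, nat_lit 22, nat_lit 20],
  [nat_lit 22, nat_lit 21, nat_lit 22, nat_lit 21],
  [nat_lit 23, nat_lit 17, nat_lit 23, nat_lit 17],
  [nat_lit 23, nat_lit 18, nat_lit 23, nat_lit 18],
  [nat_lit 23, nat_lit 20, nat_lit 23, nat_lit 20],
  [nat_lit 23, nat_lit 21, nat_lit 23, nat_lit 21],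
  [nat_lit 23, nat_lit 22, nat_lit 23, nat_lit 22],
  [nat_lit 1, nat_lit 17, nat_lit 1, nat_lit 17],
  [nat_lit 1, nat_lit 18, nat_lit 1, nat_lit 18],
  [nat_lit 1, nat_lit 20, nat_lit 1, nat_lit 20],
  [nat_lit 1, nat_lit 21, nat_lit 1, nat_lit 21],
  [nat_lit 1, nat_lit 22, nat_lit 1, nat_lit 22],
  [nat_lit 1, nat_lit 23, nat_lit 1, nat_lit 23],
  [nat_lit 10, nat_lit 1, nat_lit 10, nat_lit 1],
  [nat_lit 10, nat_lit 17, nat_lit 10, nat_lit 17],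
  [nat_lit 10, nat_lit 18, nat_lit 10, nat_lit 18],
  [nat_lit 10, nat_lit 20, nat_lit 10, nat_lit 20],
  [nat_lit 10, nat_lit 21, nat_lit 10, nat_lit 21],
  [nat_lit 10, nat_lit 22, nat_lit 10, nat_lit 22],
  [nat_lit 10, nat_lit 23, nat_lit 10, nat_lit 23],
  [nat_lit 13, nat_lit 1, nat_lit 13, nat_lit 1],
  [nat_lit 13, nat_lit 10, nat_lit 13, nat_lit 10],
  [nat_lit 13, nat_lit 17, nat_lit 13, nat_lit 17],
  [nat_lit 13, nat_lit 18, nat_lit 13, nat_lit 18],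
  [nat_lit 13, nat_lit 20, nat_lit 13, nat_lit 20],
  [nat_lit 15, nat_lit 1, nat_lit 15, nat_lit 1],
  [nat_lit 15, nat_lit 10, nat_lit 15, nat_lit 10],
  [nat_lit 15, nat_lit 13, nat_lit 15, nat_lit 13],
  [nat_lit 15, nat_lit 17, nat_lit 15, nat_lit 17],
  [nat_lit 15, nat_lit 18, nat_lit 15, nat_lit 18],
  [nat_lit 15, nat_lit 20, nat_lit 15, nat_lit 20],
  [nat_lit 15, nat_lit 21, nat_lit 15, nat_lit 21],
  [nat_lit 15, nat_lit 22, nat_lit 15, nat_lit 22],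
  [nat_lit 19, nat_lit 10, nat_lit 19, nat_lit 10],
  [nat_lit 19, nat_lit 13, nat_lit 19, nat_lit 13],
  [nat_lit 19, nat_lit 15, nat_lit 19, nat_lit 15],
  [nat_lit 19, nat_lit 17, nat_lit 19, nat_lit 17],
  [nat_lit 19, nat_lit 18, nat_lit 19, nat_lit 18],
  [nat_lit 19, nat_lit 20, nat_lit 19, nat_lit 20],
  [nat_lit 19, nat_lit 21, nat_lit 19, nat_lit 21],
  [nat_lit 19, nat_lit 22, nat_lit 19, nat_lit 22],
  [nat_lit 19, nat_lit 1, nat_lit 19, nat_lit 1, nat_lit 23, nat_lit 21],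
  [nat_lit 3, nat_lit 1, nat_lit 3, nat_lit 1],
  [nat_lit 3, nat_lit 10, nat_lit 3, nat_lit 10],
  [nat_lit 3, nat_lit 13, nat_lit 3, nat_lit 13],
  [nat_lit 3, nat_lit 15, nat_lit 3, nat_lit 15],
  [nat_lit 3, nat_lit 17, nat_lit 3, nat_lit 17],
  [nat_lit 3, nat_lit 18, nat_lit 3, nat_lit 18],
  [nat_lit 3, nat_lit 19, nat_lit 3, nat_lit 19],
  [nat_lit 3, nat_lit 20, nat_lit 3, nat_lit 20],
  [nat_lit 3, nat_lit 21, nat_lit 3, nat_lit 21],
  [nat_lit 3, nat_lit 22, nat_lit 3, nat_lit 22],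
  [nat_lit 6, nat_lit 1, nat_lit 6, nat_lit 1],
  [nat_lit 6, nat_lit 3, nat_lit 6, nat_lit 3],
  [nat_lit 6, nat_lit 10, nat_lit 6, nat_lit 10],
  [nat_lit 6, nat_lit 13, nat_lit 6, nat_lit 13],
  [nat_lit 6, nat_lit 15, nat_lit 6, nat_lit 15],
  [nat_lit 6, nat_lit 17, nat_lit 6, nat_lit 17],
  [nat_lit 6, nat_lit 18, nat_lit 6, nat_lit 18],
  [nat_lit 6, nat_lit 19, nat_lit 6, nat_lit 19],
  [nat_lit 6, nat_lit 20, nat_lit 6, nat_lit 20],
  [nat_lit 6, nat_lit 21, nat_lit 6, nat_lit 21],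
  [nat_lit 6, nat_lit 22, nat_lit 6, nat_lit 22],
  [nat_lit 12, nat_lit 1, nat_lit 12, nat_lit 1],
  [nat_lit 12, nat_lit 3, nat_lit 12, nat_lit 3],
  [nat_lit 12, nat_lit 6, nat_lit 12, nat_lit 6],
  [nat_lit 12, nat_lit 10, nat_lit 12, nat_lit 10],
  [nat_lit 12, nat_lit 13, nat_lit 12, nat_lit 13],
  [nat_lit 12, nat_lit 15, nat_lit 12, nat_lit 15],
  [nat_lit 12, nat_lit 18, nat_lit 12, nat_lit 18],
  [nat_lit 12, nat_lit 19, nat_lit 12, nat_lit 19],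
  [nat_lit 12, nat_lit 20, nat_lit 12, nat_lit 20],
  [nat_lit 12, nat_lit 21, nat_lit 12, nat_lit 21],
  [nat_lit 14, nat_lit 1, nat_lit 14, nat_lit 1],
  [nat_lit 14, nat_lit 3, nat_lit 14, nat_lit 3],
  [nat_lit 14, nat_lit 6, nat_lit 14, nat_lit 6],
  [nat_lit 14, nat_lit 10, nat_lit 14, nat_lit 10],
  [nat_lit 14, nat_lit 12, nat_lit 14, nat_lit 12],
  [nat_lit 14, nat_lit 13, nat_lit 14, nat_lit 13],
  [nat_lit 14, nat_lit 15, nat_lit 14, nat_lit 15],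
  [nat_lit 14, nat_lit 17, nat_lit 14, nat_lit 17],
  [nat_lit 14, nat_lit 18, nat_lit 14, nat_lit 18],
  [nat_lit 14, nat_lit 19, nat_lit 14, nat_lit 19],
  [nat_lit 14, nat_lit 21, nat_lit 14, nat_lit 21],
  [nat_lit 12, nat_lit 17, nat_lit 12, nat_lit 23, nat_lit 21, nat_lit 17],
  [nat_lit 12, nat_lit 22, nat_lit 12, nat_lit 23, nat_lit 22, nat_lit 21],
  [nat_lit 14, nat_lit 20, nat_lit 14, nat_lit 23, nat_lit 21, nat_lit 20],
  [nat_lit 14, nat_lit 22, nat_lit 14, nat_lit 23, nat_lit 22, nat_lit 21],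
  [nat_lit 9, nat_lit 3, nat_lit 9, nat_lit 3],
  [nat_lit 9, nat_lit 10, nat_lit 9, nat_lit 10],
  [nat_lit 9, nat_lit 15, nat_lit 9, nat_lit 15],
  [nat_lit 1, nat_lit 9, nat_lit 1, nat_lit 16, nat_lit 9, nat_lit 16],
  [nat_lit 0, nat_lit 3, nat_lit 0, nat_lit 3],
  [nat_lit 0, nat_lit 6, nat_lit 0, nat_lit 6],
  [nat_lit 0, nat_lit 9, nat_lit 0, nat_lit 9],
  [nat_lit 0, nat_lit 22, nat_lit 0, nat_lit 22],
  [nat_lit 11, nat_lit 0, nat_lit 11, nat_lit 0],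
  [nat_lit 11, nat_lit 9, nat_lit 11, nat_lit 9],
  [nat_lit 11, nat_lit 6, nat_lit 11, nat_lit 6, nat_lit 15, nat_lit 10, nat_lit 23, nat_lit 21],
  [nat_lit 6, nat_lit 10, nat_lit 11, nat_lit 15, nat_lit 18, nat_lit 11],
  [nat_lit 11, nat_lit 12, nat_lit 11, nat_lit 14, nat_lit 3, nat_lit 19, nat_lit 15, nat_lit 10, nat_lit 22, nat_lit 21, nat_lit 20, nat_lit 17],
  [nat_lit 5, nat_lit 1, nat_lit 5, nat_lit 1, nat_lit 5, nat_lit 1],
  [nat_lit 5, nat_lit 12, nat_lit 5, nat_lit 12, nat_lit 5, nat_lit 12],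
  [nat_lit 5, nat_lit 13, nat_lit 1, nat_lit 5, nat_lit 0, nat_lit 13, nat_lit 1],
  [nat_lit 5, nat_lit 6, nat_lit 9, nat_lit 6, nat_lit 5, nat_lit 9, nat_lit 6, nat_lit 18],
  [nat_lit 5, nat_lit 17, nat_lit 1, nat_lit 5, nat_lit 9, nat_lit 6, nat_lit 1, nat_lit 18, nat_lit 17],
  [nat_lit 5, nat_lit 6, nat_lit 5, nat_lit 10, nat_lit 5, nat_lit 6, nat_lit 5, nat_lit 3, nat_lit 10],
  [nat_lit 1, nat_lit 5, nat_lit 12, nat_lit 11, nat_lit 14, nat_lit 19, nat_lit 23, nat_lit 5, nat_lit 16],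
  [nat_lit 5, nat_lit 1, nat_lit 12, nat_lit 5, nat_lit 6, nat_lit 5, nat_lit 12, nat_lit 1, nat_lit 5, nat_lit 6],
  [nat_lit 5, nat_lit 1, nat_lit 6, nat_lit 5, nat_lit 6, nat_lit 1, nat_lit 5, nat_lit 14, nat_lit 12, nat_lit 6, nat_lit 13],
  [nat_lit 5, nat_lit 1, nat_lit 12, nat_lit 5, nat_lit 10, nat_lit 5, nat_lit 12, nat_lit 1, nat_lit 5, nat_lit 3, nat_lit 10],
  [nat_lit 5, nat_lit 10, nat_lit 5, nat_lit 16, nat_lit 5, nat_lit 10, nat_lit 5, nat_lit 14, nat_lit 10, nat_lit 22, nat_lit 21, nat_lit 20],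
  [nat_lit 4, nat_lit 6, nat_lit 4, nat_lit 6],
  [nat_lit 8, nat_lit 4, nat_lit 8, nat_lit 4],
  [nat_lit 4, nat_lit 13, nat_lit 4, nat_lit 13, nat_lit 1],
  [nat_lit 4, nat_lit 14, nat_lit 4, nat_lit 14, nat_lit 1],
  [nat_lit 8, nat_lit 5, nat_lit 8, nat_lit 10, nat_lit 6, nat_lit 5, nat_lit 6, nat_lit 10],
  [nat_lit 4, nat_lit 5, nat_lit 8, nat_lit 5, nat_lit 4, nat_lit 5, nat_lit 8, nat_lit 5],
  [nat_lit 1, nat_lit 8, nat_lit 6, nat_lit 15, nat_lit 12, nat_lit 8, nat_lit 21, nat_lit 20],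
  [nat_lit 4, nat_lit 5, nat_lit 4, nat_lit 1, nat_lit 5, nat_lit 4, nat_lit 1, nat_lit 5, nat_lit 1],
  [nat_lit 0, nat_lit 5, nat_lit 14, nat_lit 8, nat_lit 5, nat_lit 12, nat_lit 5, nat_lit 8, nat_lit 14],
  [nat_lit 2, nat_lit 0, nat_lit 2, nat_lit 0],
  [nat_lit 2, nat_lit 4, nat_lit 2, nat_lit 4],
  [nat_lit 2, nat_lit 5, nat_lit 2, nat_lit 5],
  [nat_lit 2, nat_lit 6, nat_lit 2, nat_lit 6, nat_lit 2, nat_lit 6],
  [nat_lit 2, nat_lit 8, nat_lit 2, nat_lit 5, nat_lit 10, nat_lit 6, nat_lit 5, nat_lit 3],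
  [nat_lit 1, nat_lit 2, nat_lit 1, nat_lit 2, nat_lit 1, nat_lit 2, nat_lit 1, nat_lit 2],
  [nat_lit 2, nat_lit 6, nat_lit 5, nat_lit 6, nat_lit 2, nat_lit 14, nat_lit 12, nat_lit 13, nat_lit 1],
  [nat_lit 7, nat_lit 0, nat_lit 7, nat_lit 0],
  [nat_lit 7, nat_lit 1, nat_lit 7, nat_lit 1],
  [nat_lit 7, nat_lit 4, nat_lit 7, nat_lit 4],
  [nat_lit 7, nat_lit 5, nat_lit 7, nat_lit 5],
  [nat_lit 7, nat_lit 3, nat_lit 7, nat_lit 3, nat_lit 7, nat_lit 3],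
  [nat_lit 6, nat_lit 7, nat_lit 12, nat_lit 7, nat_lit 6, nat_lit 7, nat_lit 12, nat_lit 7],
  [nat_lit 2, nat_lit 3, nat_lit 2, nat_lit 3, nat_lit 7, nat_lit 3, nat_lit 2, nat_lit 3, nat_lit 7]]

theorem cert : Cert T (R.map fun r => (r, 0)) ([0, 1, 2, 3, 4, 5, 6, 8, 9, 10, 11, 12, 13, 14, 15, 16, 17, 18, 19, 20, 21, 22, 23].map fun y => (y, 0)) 31 32 [0, 1, 2, 3, 4, 5, 6, 7, 8, 9, 10, 11, 12, 13, 14, 15, 16, 17, 18, 19, 20, 21, 22, 23] :=
  ⟨by decide +kernel, ⟨[[(0, 0), (25, 1), (29, 0), (176, 1), (29, 2), (30, 0), (169, 1), (140, 0), (30, 2), (141, 0), (142, 0), (31, 0), (144, 1), (31, 2), (143, 0), (151, 4), (168, 0), (27, 1), (27, 3)], [(1, 0), (177, 1), (29, 1), (33, 1), (32, 1), (55, 0), (61, 1), (56, 0), (100, 1), (90, 1), (58, 0), (111, 1), (68, 1), (121, 1), (57, 0), (59, 0), (73, 1), (174, 0), (60, 0), (149, 1), (162, 4), (24, 1), (155, 0), (151, 2), (153, 2), (163, 4), (89, 1), (167,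 3), (24, 5), (139, 0), (166, 0), (139, 2), (28, 6), (28, 2), (89, 3), (167, 8), (175, 8), (151, 6), (153, 6), (156, 1), (157, 5), (157, 1), (156, 7), (167, 6), (158, 1), (158, 7)], [(2, 0), (169, 0), (170, 0), (171, 0), (172, 0), (182, 0), (24, 0), (175, 4), (24, 2), (173, 0), (182, 6), (174, 1), (175, 0), (173, 2), (24, 6), (24, 4), (182, 2)], [(3, 0), (90, 0), (91, 0), (92, 0), (24, 3), (101, 1), (93, 0), (94, 0), (140, 1), (95, 0), (96, 0), (112, 1), (122, 1), (98, 0), (180, 1), (136, 1), (97, 0), (99, 0), (173, 7), (154, 7), (182, 1), (158, 9), (182, 3), (148, 4), (182, 7), (182, 5)], [(4, 0), (160, 0), (178, 1), (161, 1), (170, 1), (162, 0), (163, 0), (163, 2), (27, 0), (162, 2), (27, 4), (165, 0), (167, 2), (167, 0), (28, 8), (28, 0), (167, 5)], [(5, 0), (179, 1), (171, 1), (149, 0), (150, 0), (151, 0), (152, 0), (164, 1), (151, 3), (152, 4), (155, 7), (153, 0), (168, 1), (154, 0), (164, 5),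 (165, 1), (154, 2), (173, 6), (173, 3), (165, 3), (175, 2), (167, 1), (154, 4), (154, 6), (28, 4), (153, 3), (155, 1), (159, 4), (156, 3), (168, 4), (168, 6), (159, 2), (157, 6), (157, 0), (28, 1), (156, 0), (158, 3), (159, 0), (28, 7), (156, 5), (158, 5), (158, 0), (158, 8), (159, 6), (167, 7), (157, 3), (167, 4), (156, 8)], [(6, 0), (100, 0), (26, 1), (34, 1), (101, 0), (102, 0), (103, 0), (141, 1), (181, 0), (160, 1), (172, 1), (113, 1), (104, 0), (123, 1), (107, 0), (105, 0), (109, 0), (106, 0), (175, 3), (110, 0), (175, 1), (146, 1), (108, 0), (152, 3), (152, 1), (173, 5), (154, 1), (152, 6), (164, 4), (147, 0), (156, 4), (164, 6), (154, 5), (157, 9), (28, 3), (28, 5), (146, 3), (157, 2), (166, 2), (153, 5), (156, 9), (157, 4)], [(7, 0), (176, 0), (177, 0), (178, 0), (179, 0), (180, 0), (181, 1), (181, 3), (182, 4), (182, 8)], [(8, 0), (25, 0), (26, 0), (25, 2), (161, 0), (26, 2), (24, 7),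 (173, 1), (166, 5), (165, 2), (164, 0), (164, 2), (27, 2), (168, 3), (166, 1), (168, 7)], [(9, 0), (25, 3), (33, 0), (34, 0), (33, 2), (34, 2), (35, 0), (136, 0), (142, 1), (35, 2), (137, 0), (37, 2), (145, 1), (37, 0), (36, 0), (152, 2), (138, 0), (36, 2), (139, 4), (152, 5), (139, 1), (153, 4)], [(10, 0), (26, 3), (61, 0), (31, 1), (62, 0), (102, 1), (69, 1), (63, 0), (91, 1), (65, 0), (114, 1), (173, 4), (81, 1), (124, 1), (64, 0), (66, 0), (74, 1), (154, 3), (67, 0), (137, 1), (164, 3), (158, 4), (147, 1), (164, 7), (154, 8), (159, 1), (158, 10), (159, 5), (159, 8), (146, 5), (148, 7)], [(11, 0), (32, 0), (144, 0), (27, 5), (32, 2), (145, 0), (147, 2), (147, 5), (155, 3), (146, 0), (146, 2), (148, 0), (148, 2)], [(12, 0), (30, 1), (111, 0), (35, 1), (112, 0), (113, 0), (114, 0), (181, 2), (115, 0), (150, 1), (28, 9), (125, 1), (118, 0), (116, 0), (117, 0), (120, 0), (119, 0), (148, 1), (168,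 5), (175, 6), (156, 2), (157, 8), (133, 2), (156, 6), (132, 2), (155, 2), (166, 4), (132, 0), (133, 0), (158, 2), (158, 6)], [(13, 0), (29, 3), (38, 0), (68, 0), (36, 1), (39, 0), (162, 1), (69, 0), (103, 1), (151, 1), (92, 1), (39, 2), (82, 1), (115, 1), (71, 0), (126, 1), (70, 0), (75, 1), (72, 0), (162, 3), (151, 5), (157, 10), (175, 7)], [(14, 0), (30, 3), (121, 0), (37, 1), (122, 0), (123, 0), (124, 0), (125, 0), (163, 1), (126, 0), (131, 0), (130, 0), (128, 0), (127, 0), (168, 2), (129, 0), (175, 5), (157, 7), (163, 3), (168, 8), (155, 4), (135, 2), (134, 2), (134, 0), (135, 0), (148, 3), (159, 7)], [(15, 0), (31, 3), (73, 0), (74, 0), (75, 0), (76, 0), (77, 0), (79, 0), (93, 1), (83, 1), (104, 1), (116, 1), (78, 0), (80, 0), (138, 1), (127, 1), (147, 3), (166, 3), (148, 6), (146, 4)], [(16, 0), (38, 1), (32, 3), (155, 8), (139, 3), (159, 3), (139, 5)], [(17, 0), (33, 3), (40, 1), (55, 1),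 (43, 1), (62, 1), (153, 1), (41, 1), (70, 1), (46, 1), (94, 1), (105, 1), (76, 1), (50, 1), (128, 1), (84, 1), (153, 8), (132, 1), (148, 11), (132, 5)], [(18, 0), (34, 3), (40, 0), (56, 1), (63, 1), (44, 1), (42, 1), (47, 1), (71, 1), (152, 7), (77, 1), (106, 1), (95, 1), (51, 1), (117, 1), (85, 1), (129, 1), (147, 4), (153, 7)], [(19, 0), (35, 3), (81, 0), (82, 0), (83, 0), (84, 0), (87, 0), (85, 0), (96, 1), (88, 0), (107, 1), (118, 1), (86, 0), (130, 1), (155, 5), (89, 2), (89, 0), (148, 5)], [(20, 0), (36, 3), (41, 0), (42, 0), (45, 1), (57, 1), (48, 1), (64, 1), (72, 1), (52, 1), (78, 1), (97, 1), (108, 1), (119, 1), (86, 1), (134, 1), (166, 7), (159, 11), (134, 5), (148, 10)], [(21, 0), (37, 3), (39, 1), (43, 0), (44, 0), (49, 1), (58, 1), (65, 1), (45, 0), (53, 1), (79, 1), (98, 1), (166, 6), (109, 1), (120, 1), (87, 1), (146, 7), (132, 4), (131, 1), (89, 5), (134, 4), (159, 10), (133, 5),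 (135, 5), (148, 9)], [(22, 0), (38, 2), (46, 0), (47, 0), (49, 0), (66, 1), (48, 0), (59, 1), (54, 1), (80, 1), (99, 1), (88, 1), (110, 1), (143, 1), (133, 1), (135, 1), (159, 9), (133, 4), (135, 4), (148, 8)], [(23, 0), (39, 3), (50, 0), (51, 0), (53, 0), (52, 0), (54, 0), (132, 3), (60, 1), (67, 1), (89, 4), (155, 6), (146, 6), (133, 3), (134, 3), (135, 3)]], [], by decide +kernel⟩, by decide +kernel, Or.inl ⟨rfl, all⟩⟩

theorem bound {Γ : Type*} [Group Γ] {x : ℕ → Γ} (hR : ∀ r ∈ R, ev x r = 1) {n : ℕ}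
    (h : CardLe x [0, 1, 2, 3, 4, 5, 6, 8, 9, 10, 11, 12, 13, 14, 15, 16, 17, 18, 19, 20, 21, 22, 23] n) : CardLe x [0, 1, 2, 3, 4, 5, 6, 7, 8, 9, 10, 11, 12, 13, 14, 15, 16, 17, 18, 19, 20, 21, 22, 23] (69615 * n) :=
  cert.cardLe rfl hR h

end Cfsg.Agent.H3.F42.Tc0
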