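import Cfsg.Agent.L0.CosetChain
import Cfsg.Agent.H3.Mu.F42.Tc0D0
import Cfsg.Agent.H3.Mu.F42.Tc0D1
import Cfsg.Agent.H3.Mu.F42.Tc0D2
import Cfsg.Agent.H3.Mu.F42.Tc0D3
import Cfsg.Agent.H3.Mu.F42.Tc0D4
import Cfsg.Agent.H3.Mu.F42.Tc0D5
import Cfsg.Agent.H3.Mu.F42.Tc0D6
import Cfsg.Agent.H3.Mu.F42.Tc0D7
import Cfsg.Agent.H3.Mu.F42.Tc0D8

/-! Generated coset table certificate. -/

set_option autoImplicit false
set_option maxRecDepth 100000

open Cfsg.Agent.L0

namespace Cfsg.Agent.H3.F42.Tc0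

noncomputable def tree : BT := (.node (.node (.node (.node (.node (.node (.node t0 t64) (.node t32 t96)) (.node (.node t16 t80) (.node t48 t112))) (.node (.node (.node t8 t72) (.node t40 t104)) (.node (.node t24 t88) (.node t56 t120)))) (.node (.node (.node (.node t4 t68) (.node t36 t100)) (.node (.node t20 t84) (.node t52 t116))) (.node (.node (.node t12 t76) (.node t44 t108)) (.node (.node t28 t92) (.node t60 t124))))) (.node (.node (.node (.node (.node t2 t66) (.node t34 t98)) (.node (.node t18 t82) (.node t50 t114))) (.node (.node (.node t10 t74) (.node t42 t106)) (.node (.node t26 t90) (.node t58 t122)))) (.node (.node (.node (.node t6 t70) (.node t38 t102)) (.node (.node t22 t86) (.node t54 t118))) (.node (.node (.node t14 t78) (.node t46 t110)) (.node (.node t30 t94) (.node t62 t126)))))) (.node (.node (.node (.node (.node (.node t1 t65) (.node t33 t97)) (.node (.node t17 t81) (.node t49 t113))) (.node (.node (.node t9 t73) (.node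 t41 t105)) (.node (.node t25 t89) (.node t57 t121)))) (.node (.node (.node (.node t5 t69) (.node t37 t101)) (.node (.node t21 t85) (.node t53 t117))) (.node (.node (.node t13 t77) (.node t45 t109)) (.node (.node t29 t93) (.node t61 t125))))) (.node (.node (.node (.node (.node t3 t67) (.node t35 t99)) (.node (.node t19 t83) (.node t51 t115))) (.node (.node (.node t11 t75) (.node t43 t107)) (.node (.node t27 t91) (.node t59 t123)))) (.node (.node (.node (.node t7 t71) (.node t39 t103)) (.node (.node t23 t87) (.node t55 t119))) (.node (.node (.node t15 t79) (.node t47 t111)) (.node (.node t31 t95) (.node t63 t127)))))))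

noncomputable def row : ℕ → ℕ := rowOf tree (nat_lit 4) (nat_lit 15) (nat_lit 799) (nat_lit 0x7fffffffffffffffffffffffffffffffffffffffffffffffffffffffffffffffffffffffffffffffffffffffffffffffffffffffffffffffffffffffffffffffffffffffffffffffffffffffffffffffffffffffffffffffffffffffffffffffffffffff)

noncomputable def cols : List Col := [⟨nat_lit 31, nat_lit 1, [([nat_lit 31], nat_lit 0), ([nat_lit 287, nat_lit 319, nat_lit 287], nat_lit 0), ([nat_lit 63, nat_lit 31, nat_lit 447], nat_lit 0), ([nat_lit 255, nat_lit 31, nat_lit 255], nat_lit 0), ([nat_lit 447, nat_lit 31, nat_lit 63], nat_lit 0), ([nat_lit 415, nat_lit 31, nat_lit 479], nat_lit 0), ([nat_lit 95, nat_lit 31, nat_lit 95], nat_lit 0), ([nat_lit 127, nat_lit 31, nat_lit 127], nat_lit 0), ([nat_lit 479, nat_lit 31, nat_lit 415], nat_lit 0), ([nat_lit 223, nat_lit 31, nat_lit 223], nat_lit 0), ([nat_lit 319, nat_lit 31, nat_lit 319], nat_lit 0), ([nat_lit 351, nat_lit 31, nat_lit 511],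 nat_lit 0), ([nat_lit 383, nat_lit 31, nat_lit 383], nat_lit 0), ([nat_lit 511, nat_lit 31, nat_lit 351], nat_lit 0), ([nat_lit 735, nat_lit 31, nat_lit 735], nat_lit 0), ([nat_lit 447, nat_lit 63, nat_lit 191, nat_lit 447, nat_lit 63, nat_lit 191], nat_lit 0), ([nat_lit 191, nat_lit 479, nat_lit 287, nat_lit 191, nat_lit 415, nat_lit 191, nat_lit 287, nat_lit 479], nat_lit 0), ([nat_lit 287, nat_lit 31, nat_lit 159, nat_lit 383, nat_lit 159], nat_lit 0), ([nat_lit 159, nat_lit 383, nat_lit 159, nat_lit 31, nat_lit 287], nat_lit 0)]⟩,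
  ⟨nat_lit 63, nat_lit 1, [([nat_lit 63], nat_lit 0), ([nat_lit 255, nat_lit 63, nat_lit 255], nat_lit 0), ([nat_lit 31, nat_lit 447, nat_lit 31], nat_lit 0), ([nat_lit 319, nat_lit 575, nat_lit 319], nat_lit 0), ([nat_lit 383, nat_lit 543, nat_lit 383], nat_lit 0), ([nat_lit 575, nat_lit 63, nat_lit 575], nat_lit 0), ([nat_lit 351, nat_lit 63, nat_lit 351], nat_lit 0), ([nat_lit 607, nat_lit 63, nat_lit 607], nat_lit 0), ([nat_lit 223, nat_lit 63, nat_lit 223], nat_lit 0), ([nat_lit 127, nat_lit 63, nat_lit 127], nat_lit 0), ([nat_lit 703, nat_lit 63, nat_lit 703], nat_lit 0), ([nat_lit 415, nat_lit 63, nat_lit 415], nat_lit 0), ([nat_lit 447, nat_lit 63, nat_lit 447], nat_lit 0), ([nat_lit 479, nat_lit 63, nat_lit 479], nat_lit 0), ([nat_lit 671, nat_lit 63, nat_lit 671], nat_lit 0), ([nat_lit 735, nat_lit 63, nat_lit 735], nat_lit 0), ([nat_lit 511, nat_lit 63, nat_lit 511], nat_lit 0), ([nat_lit 95, nat_lit 63, nat_lit 95, nat_lit 63,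 nat_lit 95, nat_lit 63, nat_lit 95], nat_lit 0), ([nat_lit 767, nat_lit 63, nat_lit 767], nat_lit 0), ([nat_lit 191, nat_lit 63, nat_lit 191, nat_lit 63, nat_lit 191], nat_lit 0), ([nat_lit 159, nat_lit 447, nat_lit 159, nat_lit 447], nat_lit 0), ([nat_lit 95, nat_lit 127, nat_lit 95, nat_lit 63, nat_lit 95, nat_lit 287, nat_lit 95], nat_lit 0), ([nat_lit 191, nat_lit 415, nat_lit 383, nat_lit 479, nat_lit 639, nat_lit 767, nat_lit 191, nat_lit 543], nat_lit 0), ([nat_lit 191, nat_lit 31, nat_lit 447, nat_lit 63, nat_lit 191, nat_lit 447], nat_lit 0), ([nat_lit 191, nat_lit 319, nat_lit 223, nat_lit 63, nat_lit 607, nat_lit 575, nat_lit 191, nat_lit 575], nat_lit 0), ([nat_lit 159, nat_lit 479, nat_lit 159, nat_lit 479], nat_lit 0), ([nat_lit 639, nat_lit 63, nat_lit 767, nat_lit 703, nat_lit 639], nat_lit 0), ([nat_lit 191, nat_lit 159, nat_lit 63, nat_lit 191, nat_lit 63, nat_lit 159, nat_lit 191, nat_lit 159], nat_lit 0), ([nat_lit 95,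 nat_lit 287, nat_lit 95, nat_lit 63, nat_lit 95, nat_lit 127, nat_lit 95], nat_lit 0), ([nat_lit 319, nat_lit 63, nat_lit 543, nat_lit 319, nat_lit 543], nat_lit 0), ([nat_lit 287, nat_lit 223, nat_lit 511, nat_lit 415, nat_lit 287, nat_lit 703, nat_lit 671], nat_lit 0), ([nat_lit 543, nat_lit 319, nat_lit 543, nat_lit 63, nat_lit 319], nat_lit 0), ([nat_lit 191, nat_lit 159, nat_lit 415, nat_lit 159, nat_lit 191, nat_lit 63, nat_lit 223, nat_lit 191, nat_lit 223], nat_lit 0), ([nat_lit 223, nat_lit 191, nat_lit 223, nat_lit 63, nat_lit 191, nat_lit 159, nat_lit 415, nat_lit 159, nat_lit 191], nat_lit 0), ([nat_lit 767, nat_lit 703, nat_lit 639, nat_lit 63, nat_lit 639], nat_lit 0), ([nat_lit 159, nat_lit 191, nat_lit 159, nat_lit 63, nat_lit 191, nat_lit 159, nat_lit 63, nat_lit 191], nat_lit 0), ([nat_lit 95, nat_lit 223, nat_lit 191, nat_lit 223, nat_lit 95, nat_lit 479, nat_lit 415, nat_lit 447], nat_lit 0), ([nat_lit 191, nat_lit 447,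 nat_lit 63, nat_lit 191, nat_lit 31, nat_lit 447], nat_lit 0), ([nat_lit 607, nat_lit 575, nat_lit 191, nat_lit 575, nat_lit 63, nat_lit 191, nat_lit 319, nat_lit 223], nat_lit 0), ([nat_lit 415, nat_lit 191, nat_lit 223, nat_lit 191, nat_lit 415, nat_lit 63, nat_lit 191, nat_lit 223, nat_lit 191], nat_lit 0), ([nat_lit 191, nat_lit 479, nat_lit 415, nat_lit 223, nat_lit 447, nat_lit 191, nat_lit 63, nat_lit 223, nat_lit 191, nat_lit 223], nat_lit 0), ([nat_lit 223, nat_lit 191, nat_lit 223, nat_lit 63, nat_lit 191, nat_lit 479, nat_lit 415, nat_lit 223, nat_lit 447, nat_lit 191], nat_lit 0), ([nat_lit 191, nat_lit 223, nat_lit 191, nat_lit 63, nat_lit 415, nat_lit 191, nat_lit 223, nat_lit 191, nat_lit 415], nat_lit 0), ([nat_lit 191, nat_lit 63, nat_lit 159, nat_lit 191, nat_lit 159, nat_lit 63, nat_lit 191, nat_lit 159], nat_lit 0), ([nat_lit 415, nat_lit 191, nat_lit 351, nat_lit 191, nat_lit 415, nat_lit 63, nat_lit 191, nat_lit 127,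 nat_lit 351, nat_lit 191], nat_lit 0), ([nat_lit 191, nat_lit 127, nat_lit 351, nat_lit 191, nat_lit 63, nat_lit 415, nat_lit 191, nat_lit 351, nat_lit 191, nat_lit 415], nat_lit 0)]⟩,
  ⟨nat_lit 95, nat_lit 1, [([nat_lit 95], nat_lit 0), ([nat_lit 31, nat_lit 95, nat_lit 31], nat_lit 0), ([nat_lit 159, nat_lit 95, nat_lit 159], nat_lit 0), ([nat_lit 191, nat_lit 95, nat_lit 191], nat_lit 0), ([nat_lit 223, nat_lit 95, nat_lit 223, nat_lit 95, nat_lit 223], nat_lit 0), ([nat_lit 127, nat_lit 95, nat_lit 127, nat_lit 255, nat_lit 127, nat_lit 95, nat_lit 127, nat_lit 255], nat_lit 0), ([nat_lit 63, nat_lit 95, nat_lit 127, nat_lit 95, nat_lit 63, nat_lit 95, nat_lit 287], nat_lit 0), ([nat_lit 479, nat_lit 415, nat_lit 447, nat_lit 63, nat_lit 95, nat_lit 223, nat_lit 191, nat_lit 223], nat_lit 0), ([nat_lit 127, nat_lit 95, nat_lit 63, nat_lit 95, nat_lit 287, nat_lit 95, nat_lit 63], nat_lit 0), ([nat_lit 287, nat_lit 95, nat_lit 191, nat_lit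 351, nat_lit 223, nat_lit 191, nat_lit 127], nat_lit 0), ([nat_lit 127, nat_lit 255, nat_lit 95, nat_lit 127, nat_lit 95, nat_lit 127, nat_lit 255, nat_lit 127], nat_lit 0), ([nat_lit 63, nat_lit 95, nat_lit 63, nat_lit 95, nat_lit 63, nat_lit 95, nat_lit 63], nat_lit 0), ([nat_lit 223, nat_lit 191, nat_lit 223, nat_lit 95, nat_lit 479, nat_lit 415, nat_lit 447, nat_lit 63], nat_lit 0), ([nat_lit 191, nat_lit 351, nat_lit 223, nat_lit 191, nat_lit 127, nat_lit 95, nat_lit 287], nat_lit 0), ([nat_lit 287, nat_lit 95, nat_lit 63, nat_lit 95, nat_lit 127, nat_lit 95, nat_lit 63], nat_lit 0), ([nat_lit 63, nat_lit 95, nat_lit 287, nat_lit 95, nat_lit 63, nat_lit 95, nat_lit 127], nat_lit 0), ([nat_lit 127, nat_lit 255, nat_lit 127, nat_lit 95, nat_lit 127, nat_lit 255, nat_lit 95, nat_lit 127], nat_lit 0)]⟩,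
  ⟨nat_lit 127, nat_lit 1, [([nat_lit 127], nat_lit 0), ([nat_lit 63, nat_lit 127, nat_lit 63], nat_lit 0), ([nat_lit 351, nat_lit 127, nat_lit 351], nat_lit 0), ([nat_lit 447, nat_lit 127, nat_lit 447], nat_lit 0), ([nat_lit 95, nat_lit 63, nat_lit 95, nat_lit 287, nat_lit 95, nat_lit 63, nat_lit 95], nat_lit 0), ([nat_lit 223, nat_lit 127, nat_lit 223], nat_lit 0), ([nat_lit 511, nat_lit 127, nat_lit 511], nat_lit 0), ([nat_lit 575, nat_lit 127, nat_lit 575], nat_lit 0), ([nat_lit 31, nat_lit 127, nat_lit 31], nat_lit 0), ([nat_lit 607, nat_lit 127, nat_lit 607], nat_lit 0), ([nat_lit 639, nat_lit 127, nat_lit 639], nat_lit 0), ([nat_lit 415, nat_lit 127, nat_lit 415], nat_lit 0), ([nat_lit 479, nat_lit 127, nat_lit 479], nat_lit 0), ([nat_lit 703, nat_lit 127, nat_lit 703], nat_lit 0), ([nat_lit 255, nat_lit 127, nat_lit 255, nat_lit 127, nat_lit 255], nat_lit 0), ([nat_lit 319, nat_lit 127, nat_lit 319], nat_lit 0), ([nat_lit 671, nat_lit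 127, nat_lit 671], nat_lit 0), ([nat_lit 735, nat_lit 127, nat_lit 735], nat_lit 0), ([nat_lit 95, nat_lit 287, nat_lit 95, nat_lit 191, nat_lit 351, nat_lit 223, nat_lit 191], nat_lit 0), ([nat_lit 351, nat_lit 191, nat_lit 223, nat_lit 191, nat_lit 351, nat_lit 191, nat_lit 223, nat_lit 191], nat_lit 0), ([nat_lit 95, nat_lit 127, nat_lit 255, nat_lit 127, nat_lit 95, nat_lit 127, nat_lit 255, nat_lit 95], nat_lit 0), ([nat_lit 351, nat_lit 191, nat_lit 63, nat_lit 415, nat_lit 191, nat_lit 351, nat_lit 191, nat_lit 415, nat_lit 63, nat_lit 191], nat_lit 0), ([nat_lit 255, nat_lit 127, nat_lit 95, nat_lit 127, nat_lit 255, nat_lit 95, nat_lit 127, nat_lit 95], nat_lit 0), ([nat_lit 639, nat_lit 511, nat_lit 351, nat_lit 735, nat_lit 703, nat_lit 671, nat_lit 575, nat_lit 383, nat_lit 415, nat_lit 383, nat_lit 479], nat_lit 0), ([nat_lit 255, nat_lit 95, nat_lit 127, nat_lit 95, nat_lit 127, nat_lit 255, nat_lit 127, nat_lit 95], nat_lit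 0), ([nat_lit 95, nat_lit 127, nat_lit 255, nat_lit 95, nat_lit 127, nat_lit 95, nat_lit 127, nat_lit 255], nat_lit 0)]⟩,
  ⟨nat_lit 159, nat_lit 1, [([nat_lit 159], nat_lit 0), ([nat_lit 223, nat_lit 159, nat_lit 223], nat_lit 0), ([nat_lit 255, nat_lit 159, nat_lit 255], nat_lit 0), ([nat_lit 287, nat_lit 159, nat_lit 287], nat_lit 0), ([nat_lit 95, nat_lit 159, nat_lit 95], nat_lit 0), ([nat_lit 447, nat_lit 159, nat_lit 447, nat_lit 63], nat_lit 0), ([nat_lit 479, nat_lit 159, nat_lit 479, nat_lit 63], nat_lit 0), ([nat_lit 479, nat_lit 63, nat_lit 159, nat_lit 479], nat_lit 0), ([nat_lit 31, nat_lit 287, nat_lit 31, nat_lit 159, nat_lit 383], nat_lit 0), ([nat_lit 447, nat_lit 63, nat_lit 159, nat_lit 447], nat_lit 0), ([nat_lit 383, nat_lit 159, nat_lit 31, nat_lit 287, nat_lit 31], nat_lit 0), ([nat_lit 191, nat_lit 287, nat_lit 191, nat_lit 159, nat_lit 191, nat_lit 287, nat_lit 191], nat_lit 0), ([nat_lit 63, nat_lit 191, nat_lit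 159, nat_lit 63, nat_lit 191, nat_lit 63, nat_lit 159, nat_lit 191], nat_lit 0), ([nat_lit 191, nat_lit 159, nat_lit 63, nat_lit 191, nat_lit 159, nat_lit 63, nat_lit 191, nat_lit 63], nat_lit 0), ([nat_lit 415, nat_lit 159, nat_lit 191, nat_lit 63, nat_lit 223, nat_lit 191, nat_lit 223, nat_lit 63, nat_lit 191], nat_lit 0), ([nat_lit 191, nat_lit 63, nat_lit 223, nat_lit 191, nat_lit 223, nat_lit 63, nat_lit 191, nat_lit 159, nat_lit 415], nat_lit 0), ([nat_lit 63, nat_lit 191, nat_lit 63, nat_lit 159, nat_lit 191, nat_lit 159, nat_lit 63, nat_lit 191], nat_lit 0)]⟩,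
  ⟨nat_lit 191, nat_lit 1, [([nat_lit 191], nat_lit 0), ([nat_lit 255, nat_lit 191, nat_lit 255], nat_lit 0), ([nat_lit 95, nat_lit 191, nat_lit 95], nat_lit 0), ([nat_lit 63, nat_lit 191, nat_lit 63, nat_lit 191, nat_lit 63], nat_lit 0), ([nat_lit 415, nat_lit 191, nat_lit 415, nat_lit 191, nat_lit 415], nat_lit 0), ([nat_lit 447, nat_lit 63, nat_lit 191, nat_lit 31, nat_lit 447, nat_lit 63], nat_lit 0), ([nat_lit 223, nat_lit 319, nat_lit 223, nat_lit 191, nat_lit 319, nat_lit 223, nat_lit 607], nat_lit 0), ([nat_lit 287, nat_lit 351, nat_lit 223, nat_lit 191, nat_lit 223, nat_lit 351, nat_lit 287], nat_lit 0), ([nat_lit 31, nat_lit 447, nat_lit 63, nat_lit 191, nat_lit 447, nat_lit 63], nat_lit 0), ([nat_lit 319, nat_lit 223, nat_lit 607, nat_lit 191, nat_lit 223, nat_lit 319, nat_lit 223], nat_lit 0), ([nat_lit 543, nat_lit 63, nat_lit 191, nat_lit 415, nat_lit 383, nat_lit 479, nat_lit 639, nat_lit 767], nat_lit 0), ([nat_lit 575, nat_lit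 63, nat_lit 191, nat_lit 319, nat_lit 223, nat_lit 63, nat_lit 607, nat_lit 575], nat_lit 0), ([nat_lit 479, nat_lit 287, nat_lit 191, nat_lit 415, nat_lit 191, nat_lit 287, nat_lit 479, nat_lit 31], nat_lit 0), ([nat_lit 223, nat_lit 191, nat_lit 351, nat_lit 191, nat_lit 223, nat_lit 191, nat_lit 127, nat_lit 351], nat_lit 0), ([nat_lit 223, nat_lit 351, nat_lit 287, nat_lit 191, nat_lit 287, nat_lit 351, nat_lit 223], nat_lit 0), ([nat_lit 287, nat_lit 191, nat_lit 159, nat_lit 191, nat_lit 287, nat_lit 191, nat_lit 159], nat_lit 0), ([nat_lit 351, nat_lit 191, nat_lit 223, nat_lit 191, nat_lit 127, nat_lit 351, nat_lit 191, nat_lit 223], nat_lit 0), ([nat_lit 127, nat_lit 95, nat_lit 287, nat_lit 95, nat_lit 191, nat_lit 351, nat_lit 223], nat_lit 0), ([nat_lit 351, nat_lit 223, nat_lit 191, nat_lit 127, nat_lit 95, nat_lit 287, nat_lit 95], nat_lit 0), ([nat_lit 159, nat_lit 191, nat_lit 287, nat_lit 191, nat_lit 159, nat_lit 191, nat_lit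 287], nat_lit 0), ([nat_lit 223, nat_lit 95, nat_lit 479, nat_lit 415, nat_lit 447, nat_lit 63, nat_lit 95, nat_lit 223], nat_lit 0), ([nat_lit 159, nat_lit 63, nat_lit 191, nat_lit 159, nat_lit 63, nat_lit 191, nat_lit 63, nat_lit 159], nat_lit 0), ([nat_lit 223, nat_lit 191, nat_lit 127, nat_lit 351, nat_lit 191, nat_lit 223, nat_lit 191, nat_lit 351], nat_lit 0), ([nat_lit 127, nat_lit 351, nat_lit 191, nat_lit 223, nat_lit 191, nat_lit 351, nat_lit 191, nat_lit 223], nat_lit 0), ([nat_lit 223, nat_lit 63, nat_lit 191, nat_lit 159, nat_lit 415, nat_lit 159, nat_lit 191, nat_lit 63, nat_lit 223], nat_lit 0), ([nat_lit 319, nat_lit 223, nat_lit 63, nat_lit 607, nat_lit 575, nat_lit 191, nat_lit 575, nat_lit 63], nat_lit 0), ([nat_lit 415, nat_lit 383, nat_lit 479, nat_lit 639, nat_lit 767, nat_lit 191, nat_lit 543, nat_lit 63], nat_lit 0), ([nat_lit 351, nat_lit 191, nat_lit 479, nat_lit 351, nat_lit 735, nat_lit 703, nat_lit 671, nat_lit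 191, nat_lit 351, nat_lit 191, nat_lit 543], nat_lit 0), ([nat_lit 223, nat_lit 191, nat_lit 415, nat_lit 63, nat_lit 191, nat_lit 223, nat_lit 191, nat_lit 63, nat_lit 415], nat_lit 0), ([nat_lit 415, nat_lit 191, nat_lit 287, nat_lit 479, nat_lit 31, nat_lit 191, nat_lit 479, nat_lit 287], nat_lit 0), ([nat_lit 287, nat_lit 479, nat_lit 31, nat_lit 191, nat_lit 479, nat_lit 287, nat_lit 191, nat_lit 415], nat_lit 0), ([nat_lit 543, nat_lit 191, nat_lit 351, nat_lit 191, nat_lit 479, nat_lit 351, nat_lit 735, nat_lit 703, nat_lit 671, nat_lit 191, nat_lit 351], nat_lit 0), ([nat_lit 479, nat_lit 415, nat_lit 223, nat_lit 447, nat_lit 191, nat_lit 63, nat_lit 223, nat_lit 191, nat_lit 223, nat_lit 63], nat_lit 0), ([nat_lit 63, nat_lit 223, nat_lit 191, nat_lit 223, nat_lit 63, nat_lit 191, nat_lit 479, nat_lit 415, nat_lit 223, nat_lit 447], nat_lit 0), ([nat_lit 63, nat_lit 223, nat_lit 191, nat_lit 223, nat_lit 63, nat_lit 191, nat_lit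 159, nat_lit 415, nat_lit 159], nat_lit 0), ([nat_lit 63, nat_lit 415, nat_lit 191, nat_lit 223, nat_lit 191, nat_lit 415, nat_lit 63, nat_lit 191, nat_lit 223], nat_lit 0), ([nat_lit 351, nat_lit 191, nat_lit 415, nat_lit 63, nat_lit 191, nat_lit 127, nat_lit 351, nat_lit 191, nat_lit 63, nat_lit 415], nat_lit 0), ([nat_lit 351, nat_lit 191, nat_lit 543, nat_lit 191, nat_lit 351, nat_lit 191, nat_lit 479, nat_lit 351, nat_lit 735, nat_lit 703, nat_lit 671], nat_lit 0), ([nat_lit 159, nat_lit 415, nat_lit 159, nat_lit 191, nat_lit 63, nat_lit 223, nat_lit 191, nat_lit 223, nat_lit 63], nat_lit 0), ([nat_lit 415, nat_lit 63, nat_lit 191, nat_lit 223, nat_lit 191, nat_lit 63, nat_lit 415, nat_lit 191, nat_lit 223], nat_lit 0), ([nat_lit 415, nat_lit 63, nat_lit 191, nat_lit 127, nat_lit 351, nat_lit 191, nat_lit 63, nat_lit 415, nat_lit 191, nat_lit 351], nat_lit 0), ([nat_lit 63, nat_lit 415, nat_lit 191, nat_lit 351, nat_lit 191, nat_lit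 415, nat_lit 63, nat_lit 191, nat_lit 127, nat_lit 351], nat_lit 0), ([nat_lit 127, nat_lit 351, nat_lit 191, nat_lit 63, nat_lit 415, nat_lit 191, nat_lit 351, nat_lit 191, nat_lit 415, nat_lit 63], nat_lit 0), ([nat_lit 479, nat_lit 351, nat_lit 735, nat_lit 703, nat_lit 671, nat_lit 191, nat_lit 351, nat_lit 191, nat_lit 543, nat_lit 191, nat_lit 351], nat_lit 0), ([nat_lit 63, nat_lit 159, nat_lit 191, nat_lit 159, nat_lit 63, nat_lit 191, nat_lit 159, nat_lit 63], nat_lit 0), ([nat_lit 223, nat_lit 63, nat_lit 191, nat_lit 479, nat_lit 415, nat_lit 223, nat_lit 447, nat_lit 191, nat_lit 63, nat_lit 223], nat_lit 0), ([nat_lit 159, nat_lit 63, nat_lit 191, nat_lit 63, nat_lit 159, nat_lit 191, nat_lit 159, nat_lit 63], nat_lit 0), ([nat_lit 223, nat_lit 191, nat_lit 63, nat_lit 415, nat_lit 191, nat_lit 223, nat_lit 191, nat_lit 415, nat_lit 63], nat_lit 0)]⟩,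
  ⟨nat_lit 223, nat_lit 1, [([nat_lit 223], nat_lit 0), ([nat_lit 63, nat_lit 223, nat_lit 63], nat_lit 0), ([nat_lit 287, nat_lit 351, nat_lit 287], nat_lit 0), ([nat_lit 319, nat_lit 607, nat_lit 319], nat_lit 0), ([nat_lit 127, nat_lit 223, nat_lit 127], nat_lit 0), ([nat_lit 351, nat_lit 223, nat_lit 351], nat_lit 0), ([nat_lit 447, nat_lit 223, nat_lit 447], nat_lit 0), ([nat_lit 31, nat_lit 223, nat_lit 31], nat_lit 0), ([nat_lit 255, nat_lit 415, nat_lit 255, nat_lit 223, nat_lit 255, nat_lit 415, nat_lit 255], nat_lit 0), ([nat_lit 159, nat_lit 223, nat_lit 159], nat_lit 0), ([nat_lit 95, nat_lit 223, nat_lit 95, nat_lit 223, nat_lit 95], nat_lit 0), ([nat_lit 415, nat_lit 223, nat_lit 415], nat_lit 0), ([nat_lit 511, nat_lit 223, nat_lit 511], nat_lit 0), ([nat_lit 479, nat_lit 223, nat_lit 479], nat_lit 0), ([nat_lit 639, nat_lit 223, nat_lit 639], nat_lit 0), ([nat_lit 575, nat_lit 223, nat_lit 575], nat_lit 0), ([nat_lit 703,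 nat_lit 223, nat_lit 703], nat_lit 0), ([nat_lit 607, nat_lit 223, nat_lit 607], nat_lit 0), ([nat_lit 95, nat_lit 479, nat_lit 415, nat_lit 447, nat_lit 63, nat_lit 95, nat_lit 223, nat_lit 191], nat_lit 0), ([nat_lit 735, nat_lit 223, nat_lit 735], nat_lit 0), ([nat_lit 191, nat_lit 223, nat_lit 95, nat_lit 479, nat_lit 415, nat_lit 447, nat_lit 63, nat_lit 95], nat_lit 0), ([nat_lit 383, nat_lit 223, nat_lit 511, nat_lit 351, nat_lit 767, nat_lit 703, nat_lit 383], nat_lit 0), ([nat_lit 671, nat_lit 223, nat_lit 671], nat_lit 0), ([nat_lit 191, nat_lit 319, nat_lit 223, nat_lit 607, nat_lit 191, nat_lit 223, nat_lit 319], nat_lit 0), ([nat_lit 319, nat_lit 223, nat_lit 191, nat_lit 319, nat_lit 223, nat_lit 607, nat_lit 191], nat_lit 0), ([nat_lit 191, nat_lit 127, nat_lit 95, nat_lit 287, nat_lit 95, nat_lit 191, nat_lit 351], nat_lit 0), ([nat_lit 191, nat_lit 351, nat_lit 191, nat_lit 223, nat_lit 191, nat_lit 127, nat_lit 351, nat_lit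 191], nat_lit 0), ([nat_lit 607, nat_lit 191, nat_lit 223, nat_lit 319, nat_lit 223, nat_lit 191, nat_lit 319], nat_lit 0), ([nat_lit 191, nat_lit 223, nat_lit 351, nat_lit 287, nat_lit 191, nat_lit 287, nat_lit 351], nat_lit 0), ([nat_lit 351, nat_lit 383, nat_lit 511, nat_lit 607, nat_lit 383], nat_lit 0), ([nat_lit 191, nat_lit 415, nat_lit 63, nat_lit 191, nat_lit 223, nat_lit 191, nat_lit 63, nat_lit 415, nat_lit 191], nat_lit 0), ([nat_lit 351, nat_lit 287, nat_lit 191, nat_lit 287, nat_lit 351, nat_lit 223, nat_lit 191], nat_lit 0), ([nat_lit 191, nat_lit 127, nat_lit 351, nat_lit 191, nat_lit 223, nat_lit 191, nat_lit 351, nat_lit 191], nat_lit 0), ([nat_lit 447, nat_lit 191, nat_lit 63, nat_lit 223, nat_lit 191, nat_lit 223, nat_lit 63, nat_lit 191, nat_lit 479, nat_lit 415], nat_lit 0), ([nat_lit 191, nat_lit 223, nat_lit 63, nat_lit 191, nat_lit 159, nat_lit 415, nat_lit 159, nat_lit 191, nat_lit 63], nat_lit 0), ([nat_lit 63,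 nat_lit 191, nat_lit 159, nat_lit 415, nat_lit 159, nat_lit 191, nat_lit 63, nat_lit 223, nat_lit 191], nat_lit 0), ([nat_lit 511, nat_lit 351, nat_lit 767, nat_lit 703, nat_lit 383, nat_lit 223, nat_lit 383], nat_lit 0), ([nat_lit 191, nat_lit 223, nat_lit 63, nat_lit 191, nat_lit 479, nat_lit 415, nat_lit 223, nat_lit 447, nat_lit 191, nat_lit 63], nat_lit 0), ([nat_lit 511, nat_lit 415, nat_lit 287, nat_lit 703, nat_lit 671, nat_lit 63, nat_lit 287], nat_lit 0), ([nat_lit 63, nat_lit 607, nat_lit 575, nat_lit 191, nat_lit 575, nat_lit 63, nat_lit 191, nat_lit 319], nat_lit 0), ([nat_lit 191, nat_lit 63, nat_lit 415, nat_lit 191, nat_lit 223, nat_lit 191, nat_lit 415, nat_lit 63, nat_lit 191], nat_lit 0), ([nat_lit 63, nat_lit 191, nat_lit 479, nat_lit 415, nat_lit 223, nat_lit 447, nat_lit 191, nat_lit 63, nat_lit 223, nat_lit 191], nat_lit 0)]⟩,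
  ⟨nat_lit 255, nat_lit 0, [([nat_lit 255], nat_lit 0), ([nat_lit 31, nat_lit 255, nat_lit 31], nat_lit 0), ([nat_lit 63, nat_lit 255, nat_lit 63], nat_lit 0), ([nat_lit 159, nat_lit 255, nat_lit 159], nat_lit 0), ([nat_lit 191, nat_lit 255, nat_lit 191], nat_lit 0), ([nat_lit 127, nat_lit 255, nat_lit 127, nat_lit 255, nat_lit 127], nat_lit 0), ([nat_lit 415, nat_lit 255, nat_lit 223, nat_lit 255, nat_lit 415, nat_lit 255, nat_lit 223], nat_lit 0), ([nat_lit 223, nat_lit 255, nat_lit 415, nat_lit 255, nat_lit 223, nat_lit 255, nat_lit 415], nat_lit 0), ([nat_lit 127, nat_lit 95, nat_lit 127, nat_lit 255, nat_lit 95, nat_lit 127, nat_lit 95, nat_lit 127], nat_lit 0), ([nat_lit 95, nat_lit 127, nat_lit 95, nat_lit 127, nat_lit 255, nat_lit 127, nat_lit 95, nat_lit 127], nat_lit 0)]⟩,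
  ⟨nat_lit 287, nat_lit 1, [([nat_lit 287], nat_lit 0), ([nat_lit 31, nat_lit 287, nat_lit 319], nat_lit 0), ([nat_lit 223, nat_lit 287, nat_lit 351], nat_lit 0), ([nat_lit 319, nat_lit 287, nat_lit 31], nat_lit 0), ([nat_lit 159, nat_lit 287, nat_lit 159], nat_lit 0), ([nat_lit 351, nat_lit 287, nat_lit 223], nat_lit 0), ([nat_lit 95, nat_lit 63, nat_lit 95, nat_lit 127, nat_lit 95, nat_lit 63, nat_lit 95], nat_lit 0), ([nat_lit 95, nat_lit 191, nat_lit 351, nat_lit 223, nat_lit 191, nat_lit 127, nat_lit 95], nat_lit 0), ([nat_lit 703, nat_lit 671, nat_lit 63, nat_lit 287, nat_lit 223, nat_lit 511, nat_lit 415], nat_lit 0), ([nat_lit 191, nat_lit 159, nat_lit 191, nat_lit 287, nat_lit 191, nat_lit 159, nat_lit 191], nat_lit 0), ([nat_lit 191, nat_lit 287, nat_lit 351, nat_lit 223, nat_lit 191, nat_lit 223, nat_lit 351], nat_lit 0), ([nat_lit 351, nat_lit 223, nat_lit 191, nat_lit 223, nat_lit 351, nat_lit 287, nat_lit 191], nat_lit 0),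 ([nat_lit 31, nat_lit 159, nat_lit 383, nat_lit 159, nat_lit 31], nat_lit 0), ([nat_lit 191, nat_lit 415, nat_lit 191, nat_lit 287, nat_lit 479, nat_lit 31, nat_lit 191, nat_lit 479], nat_lit 0), ([nat_lit 223, nat_lit 511, nat_lit 415, nat_lit 287, nat_lit 703, nat_lit 671, nat_lit 63], nat_lit 0), ([nat_lit 479, nat_lit 31, nat_lit 191, nat_lit 479, nat_lit 287, nat_lit 191, nat_lit 415, nat_lit 191], nat_lit 0)]⟩,
  ⟨nat_lit 319, nat_lit 1, [([nat_lit 319], nat_lit 0), ([nat_lit 287, nat_lit 31, nat_lit 287], nat_lit 0), ([nat_lit 63, nat_lit 319, nat_lit 575], nat_lit 0), ([nat_lit 223, nat_lit 319, nat_lit 607], nat_lit 0), ([nat_lit 575, nat_lit 319, nat_lit 63], nat_lit 0), ([nat_lit 607, nat_lit 319, nat_lit 223], nat_lit 0), ([nat_lit 415, nat_lit 319, nat_lit 639], nat_lit 0), ([nat_lit 127, nat_lit 319, nat_lit 127], nat_lit 0), ([nat_lit 31, nat_lit 319, nat_lit 31], nat_lit 0), ([nat_lit 639, nat_lit 319, nat_lit 415], nat_lit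 0), ([nat_lit 351, nat_lit 319, nat_lit 351], nat_lit 0), ([nat_lit 703, nat_lit 319, nat_lit 479], nat_lit 0), ([nat_lit 383, nat_lit 319, nat_lit 383], nat_lit 0), ([nat_lit 479, nat_lit 319, nat_lit 703], nat_lit 0), ([nat_lit 447, nat_lit 319, nat_lit 671], nat_lit 0), ([nat_lit 223, nat_lit 191, nat_lit 319, nat_lit 223, nat_lit 607, nat_lit 191, nat_lit 223], nat_lit 0), ([nat_lit 511, nat_lit 319, nat_lit 511], nat_lit 0), ([nat_lit 671, nat_lit 319, nat_lit 447], nat_lit 0), ([nat_lit 543, nat_lit 63, nat_lit 319, nat_lit 63, nat_lit 543], nat_lit 0), ([nat_lit 223, nat_lit 607, nat_lit 191, nat_lit 223, nat_lit 319, nat_lit 223, nat_lit 191], nat_lit 0), ([nat_lit 63, nat_lit 543, nat_lit 319, nat_lit 543, nat_lit 63], nat_lit 0), ([nat_lit 223, nat_lit 63, nat_lit 607, nat_lit 575, nat_lit 191, nat_lit 575, nat_lit 63, nat_lit 191], nat_lit 0)]⟩,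
  ⟨nat_lit 351, nat_lit 1, [([nat_lit 351], nat_lit 0), ([nat_lit 287, nat_lit 223, nat_lit 287], nat_lit 0), ([nat_lit 63, nat_lit 351, nat_lit 63], nat_lit 0), ([nat_lit 31, nat_lit 511, nat_lit 31], nat_lit 0), ([nat_lit 575, nat_lit 351, nat_lit 575], nat_lit 0), ([nat_lit 223, nat_lit 351, nat_lit 223], nat_lit 0), ([nat_lit 447, nat_lit 351, nat_lit 447], nat_lit 0), ([nat_lit 607, nat_lit 351, nat_lit 607], nat_lit 0), ([nat_lit 127, nat_lit 351, nat_lit 127], nat_lit 0), ([nat_lit 703, nat_lit 351, nat_lit 703], nat_lit 0), ([nat_lit 415, nat_lit 351, nat_lit 415], nat_lit 0), ([nat_lit 223, nat_lit 191, nat_lit 127, nat_lit 95, nat_lit 287, nat_lit 95, nat_lit 191], nat_lit 0), ([nat_lit 639, nat_lit 351, nat_lit 639], nat_lit 0), ([nat_lit 479, nat_lit 351, nat_lit 479], nat_lit 0), ([nat_lit 671, nat_lit 351, nat_lit 671], nat_lit 0), ([nat_lit 735, nat_lit 351, nat_lit 735], nat_lit 0), ([nat_lit 511, nat_lit 351, nat_lit 511],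 nat_lit 0), ([nat_lit 191, nat_lit 223, nat_lit 191, nat_lit 127, nat_lit 351, nat_lit 191, nat_lit 223, nat_lit 191], nat_lit 0), ([nat_lit 767, nat_lit 351, nat_lit 767], nat_lit 0), ([nat_lit 319, nat_lit 351, nat_lit 319], nat_lit 0), ([nat_lit 223, nat_lit 191, nat_lit 223, nat_lit 351, nat_lit 287, nat_lit 191, nat_lit 287], nat_lit 0), ([nat_lit 191, nat_lit 415, nat_lit 63, nat_lit 191, nat_lit 127, nat_lit 351, nat_lit 191, nat_lit 63, nat_lit 415, nat_lit 191], nat_lit 0), ([nat_lit 383, nat_lit 511, nat_lit 607, nat_lit 383, nat_lit 223], nat_lit 0), ([nat_lit 287, nat_lit 191, nat_lit 287, nat_lit 351, nat_lit 223, nat_lit 191, nat_lit 223], nat_lit 0), ([nat_lit 191, nat_lit 223, nat_lit 191, nat_lit 351, nat_lit 191, nat_lit 223, nat_lit 191, nat_lit 127], nat_lit 0), ([nat_lit 191, nat_lit 543, nat_lit 191, nat_lit 351, nat_lit 191, nat_lit 479, nat_lit 351, nat_lit 735, nat_lit 703, nat_lit 671, nat_lit 191], nat_lit 0),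 ([nat_lit 191, nat_lit 63, nat_lit 415, nat_lit 191, nat_lit 351, nat_lit 191, nat_lit 415, nat_lit 63, nat_lit 191, nat_lit 127], nat_lit 0), ([nat_lit 191, nat_lit 479, nat_lit 351, nat_lit 735, nat_lit 703, nat_lit 671, nat_lit 191, nat_lit 351, nat_lit 191, nat_lit 543, nat_lit 191], nat_lit 0), ([nat_lit 735, nat_lit 703, nat_lit 671, nat_lit 191, nat_lit 351, nat_lit 191, nat_lit 543, nat_lit 191, nat_lit 351, nat_lit 191, nat_lit 479], nat_lit 0), ([nat_lit 767, nat_lit 703, nat_lit 383, nat_lit 223, nat_lit 383, nat_lit 223, nat_lit 511], nat_lit 0), ([nat_lit 735, nat_lit 703, nat_lit 671, nat_lit 575, nat_lit 383, nat_lit 415, nat_lit 383, nat_lit 479, nat_lit 127, nat_lit 639, nat_lit 511], nat_lit 0)]⟩,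
  ⟨nat_lit 383, nat_lit 1, [([nat_lit 383], nat_lit 0), ([nat_lit 63, nat_lit 383, nat_lit 543], nat_lit 0), ([nat_lit 31, nat_lit 383, nat_lit 31], nat_lit 0), ([nat_lit 159, nat_lit 31, nat_lit 287, nat_lit 31, nat_lit 159], nat_lit 0), ([nat_lit 543, nat_lit 383, nat_lit 63], nat_lit 0), ([nat_lit 319, nat_lit 383, nat_lit 319], nat_lit 0), ([nat_lit 511, nat_lit 607, nat_lit 383, nat_lit 223, nat_lit 351], nat_lit 0), ([nat_lit 223, nat_lit 351, nat_lit 383, nat_lit 511, nat_lit 607], nat_lit 0), ([nat_lit 479, nat_lit 639, nat_lit 767, nat_lit 191, nat_lit 543, nat_lit 63, nat_lit 191, nat_lit 415], nat_lit 0), ([nat_lit 223, nat_lit 383, nat_lit 223, nat_lit 511, nat_lit 351, nat_lit 767, nat_lit 703], nat_lit 0), ([nat_lit 223, nat_lit 511, nat_lit 351, nat_lit 767, nat_lit 703, nat_lit 383, nat_lit 223], nat_lit 0), ([nat_lit 415, nat_lit 383, nat_lit 479, nat_lit 127, nat_lit 639, nat_lit 511, nat_lit 351, nat_lit 735, nat_lit 703,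 nat_lit 671, nat_lit 575], nat_lit 0), ([nat_lit 479, nat_lit 127, nat_lit 639, nat_lit 511, nat_lit 351, nat_lit 735, nat_lit 703, nat_lit 671, nat_lit 575, nat_lit 383, nat_lit 415], nat_lit 0)]⟩,
  ⟨nat_lit 415, nat_lit 1, [([nat_lit 415], nat_lit 0), ([nat_lit 31, nat_lit 479, nat_lit 31], nat_lit 0), ([nat_lit 63, nat_lit 415, nat_lit 63], nat_lit 0), ([nat_lit 319, nat_lit 639, nat_lit 319], nat_lit 0), ([nat_lit 127, nat_lit 415, nat_lit 127], nat_lit 0), ([nat_lit 223, nat_lit 415, nat_lit 223], nat_lit 0), ([nat_lit 351, nat_lit 415, nat_lit 351], nat_lit 0), ([nat_lit 255, nat_lit 223, nat_lit 255, nat_lit 415, nat_lit 255, nat_lit 223, nat_lit 255], nat_lit 0), ([nat_lit 447, nat_lit 415, nat_lit 447], nat_lit 0), ([nat_lit 191, nat_lit 415, nat_lit 191, nat_lit 415, nat_lit 191], nat_lit 0), ([nat_lit 159, nat_lit 191, nat_lit 63, nat_lit 223, nat_lit 191, nat_lit 223, nat_lit 63, nat_lit 191, nat_lit 159], nat_lit 0), ([nat_lit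 479, nat_lit 415, nat_lit 479], nat_lit 0), ([nat_lit 639, nat_lit 415, nat_lit 639], nat_lit 0), ([nat_lit 511, nat_lit 415, nat_lit 511], nat_lit 0), ([nat_lit 607, nat_lit 415, nat_lit 607], nat_lit 0), ([nat_lit 703, nat_lit 415, nat_lit 703], nat_lit 0), ([nat_lit 671, nat_lit 415, nat_lit 671], nat_lit 0), ([nat_lit 383, nat_lit 479, nat_lit 127, nat_lit 639, nat_lit 511, nat_lit 351, nat_lit 735, nat_lit 703, nat_lit 671, nat_lit 575, nat_lit 383], nat_lit 0), ([nat_lit 191, nat_lit 287, nat_lit 479, nat_lit 31, nat_lit 191, nat_lit 479, nat_lit 287, nat_lit 191], nat_lit 0), ([nat_lit 447, nat_lit 63, nat_lit 95, nat_lit 223, nat_lit 191, nat_lit 223, nat_lit 95, nat_lit 479], nat_lit 0), ([nat_lit 191, nat_lit 223, nat_lit 191, nat_lit 415, nat_lit 63, nat_lit 191, nat_lit 223, nat_lit 191, nat_lit 63], nat_lit 0), ([nat_lit 223, nat_lit 447, nat_lit 191, nat_lit 63, nat_lit 223, nat_lit 191, nat_lit 223, nat_lit 63, nat_lit 191,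 nat_lit 479], nat_lit 0), ([nat_lit 767, nat_lit 735, nat_lit 703, nat_lit 415, nat_lit 735], nat_lit 0), ([nat_lit 63, nat_lit 191, nat_lit 223, nat_lit 191, nat_lit 63, nat_lit 415, nat_lit 191, nat_lit 223, nat_lit 191], nat_lit 0), ([nat_lit 767, nat_lit 703, nat_lit 575, nat_lit 415, nat_lit 575], nat_lit 0), ([nat_lit 383, nat_lit 479, nat_lit 639, nat_lit 767, nat_lit 191, nat_lit 543, nat_lit 63, nat_lit 191], nat_lit 0), ([nat_lit 287, nat_lit 703, nat_lit 671, nat_lit 63, nat_lit 287, nat_lit 223, nat_lit 511], nat_lit 0), ([nat_lit 575, nat_lit 415, nat_lit 767, nat_lit 703, nat_lit 575], nat_lit 0), ([nat_lit 735, nat_lit 415, nat_lit 767, nat_lit 735, nat_lit 703], nat_lit 0), ([nat_lit 191, nat_lit 351, nat_lit 191, nat_lit 415, nat_lit 63, nat_lit 191, nat_lit 127, nat_lit 351, nat_lit 191, nat_lit 63], nat_lit 0), ([nat_lit 63, nat_lit 191, nat_lit 127, nat_lit 351, nat_lit 191, nat_lit 63, nat_lit 415, nat_lit 191, nat_lit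 351, nat_lit 191], nat_lit 0)]⟩,
  ⟨nat_lit 447, nat_lit 1, [([nat_lit 447], nat_lit 0), ([nat_lit 31, nat_lit 63, nat_lit 31], nat_lit 0), ([nat_lit 543, nat_lit 735], nat_lit 0), ([nat_lit 63, nat_lit 447, nat_lit 63], nat_lit 0), ([nat_lit 319, nat_lit 671, nat_lit 319], nat_lit 0), ([nat_lit 703, nat_lit 447, nat_lit 767], nat_lit 0), ([nat_lit 159, nat_lit 447, nat_lit 63, nat_lit 159], nat_lit 0), ([nat_lit 351, nat_lit 447, nat_lit 351], nat_lit 0), ([nat_lit 223, nat_lit 447, nat_lit 223], nat_lit 0), ([nat_lit 63, nat_lit 191, nat_lit 31, nat_lit 447, nat_lit 63, nat_lit 191], nat_lit 0), ([nat_lit 127, nat_lit 447, nat_lit 127], nat_lit 0), ([nat_lit 767, nat_lit 447, nat_lit 703], nat_lit 0), ([nat_lit 639, nat_lit 447, nat_lit 639], nat_lit 0), ([nat_lit 415, nat_lit 447, nat_lit 415], nat_lit 0), ([nat_lit 607, nat_lit 447, nat_lit 607], nat_lit 0), ([nat_lit 479, nat_lit 447, nat_lit 479], nat_lit 0), ([nat_lit 575, nat_lit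 447, nat_lit 575], nat_lit 0), ([nat_lit 511, nat_lit 447, nat_lit 511], nat_lit 0), ([nat_lit 671, nat_lit 447, nat_lit 671], nat_lit 0), ([nat_lit 63, nat_lit 159, nat_lit 447, nat_lit 159], nat_lit 0), ([nat_lit 63, nat_lit 191, nat_lit 447, nat_lit 63, nat_lit 191, nat_lit 31], nat_lit 0), ([nat_lit 191, nat_lit 63, nat_lit 223, nat_lit 191, nat_lit 223, nat_lit 63, nat_lit 191, nat_lit 479, nat_lit 415, nat_lit 223], nat_lit 0), ([nat_lit 63, nat_lit 95, nat_lit 223, nat_lit 191, nat_lit 223, nat_lit 95, nat_lit 479, nat_lit 415], nat_lit 0)]⟩,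
  ⟨nat_lit 479, nat_lit 1, [([nat_lit 479], nat_lit 0), ([nat_lit 31, nat_lit 415, nat_lit 31], nat_lit 0), ([nat_lit 63, nat_lit 479, nat_lit 63], nat_lit 0), ([nat_lit 319, nat_lit 703, nat_lit 319], nat_lit 0), ([nat_lit 127, nat_lit 479, nat_lit 127], nat_lit 0), ([nat_lit 223, nat_lit 479, nat_lit 223], nat_lit 0), ([nat_lit 351, nat_lit 479, nat_lit 351], nat_lit 0), ([nat_lit 415, nat_lit 479, nat_lit 415], nat_lit 0), ([nat_lit 159, nat_lit 479, nat_lit 63, nat_lit 159], nat_lit 0), ([nat_lit 447, nat_lit 479, nat_lit 447], nat_lit 0), ([nat_lit 703, nat_lit 479, nat_lit 703], nat_lit 0), ([nat_lit 639, nat_lit 479, nat_lit 639], nat_lit 0), ([nat_lit 575, nat_lit 479, nat_lit 575], nat_lit 0), ([nat_lit 511, nat_lit 479, nat_lit 511], nat_lit 0), ([nat_lit 287, nat_lit 191, nat_lit 415, nat_lit 191, nat_lit 287, nat_lit 479, nat_lit 31, nat_lit 191], nat_lit 0), ([nat_lit 607, nat_lit 479, nat_lit 607], nat_lit 0), ([nat_lit 415,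 nat_lit 447, nat_lit 63, nat_lit 95, nat_lit 223, nat_lit 191, nat_lit 223, nat_lit 95], nat_lit 0), ([nat_lit 415, nat_lit 223, nat_lit 447, nat_lit 191, nat_lit 63, nat_lit 223, nat_lit 191, nat_lit 223, nat_lit 63, nat_lit 191], nat_lit 0), ([nat_lit 63, nat_lit 159, nat_lit 479, nat_lit 159], nat_lit 0), ([nat_lit 31, nat_lit 191, nat_lit 479, nat_lit 287, nat_lit 191, nat_lit 415, nat_lit 191, nat_lit 287], nat_lit 0), ([nat_lit 639, nat_lit 767, nat_lit 191, nat_lit 543, nat_lit 63, nat_lit 191, nat_lit 415, nat_lit 383], nat_lit 0), ([nat_lit 767, nat_lit 735, nat_lit 703, nat_lit 479, nat_lit 735], nat_lit 0), ([nat_lit 767, nat_lit 703, nat_lit 671, nat_lit 479, nat_lit 671], nat_lit 0), ([nat_lit 671, nat_lit 479, nat_lit 767, nat_lit 703, nat_lit 671], nat_lit 0), ([nat_lit 735, nat_lit 479, nat_lit 767, nat_lit 735, nat_lit 703], nat_lit 0), ([nat_lit 127, nat_lit 639, nat_lit 511, nat_lit 351, nat_lit 735, nat_lit 703, nat_lit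 671, nat_lit 575, nat_lit 383, nat_lit 415, nat_lit 383], nat_lit 0), ([nat_lit 351, nat_lit 735, nat_lit 703, nat_lit 671, nat_lit 191, nat_lit 351, nat_lit 191, nat_lit 543, nat_lit 191, nat_lit 351, nat_lit 191], nat_lit 0)]⟩,
  ⟨nat_lit 511, nat_lit 1, [([nat_lit 511], nat_lit 0), ([nat_lit 31, nat_lit 351, nat_lit 31], nat_lit 0), ([nat_lit 63, nat_lit 511, nat_lit 63], nat_lit 0), ([nat_lit 351, nat_lit 511, nat_lit 351], nat_lit 0), ([nat_lit 447, nat_lit 511, nat_lit 447], nat_lit 0), ([nat_lit 575, nat_lit 511, nat_lit 575], nat_lit 0), ([nat_lit 607, nat_lit 511, nat_lit 607], nat_lit 0), ([nat_lit 703, nat_lit 511, nat_lit 703], nat_lit 0), ([nat_lit 127, nat_lit 511, nat_lit 127], nat_lit 0), ([nat_lit 639, nat_lit 511, nat_lit 639], nat_lit 0), ([nat_lit 223, nat_lit 511, nat_lit 223], nat_lit 0), ([nat_lit 415, nat_lit 511, nat_lit 415], nat_lit 0), ([nat_lit 671, nat_lit 511, nat_lit 671], nat_lit 0), ([nat_lit 735, nat_lit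 511, nat_lit 735], nat_lit 0), ([nat_lit 319, nat_lit 511, nat_lit 319], nat_lit 0), ([nat_lit 479, nat_lit 511, nat_lit 479], nat_lit 0), ([nat_lit 607, nat_lit 383, nat_lit 223, nat_lit 351, nat_lit 383], nat_lit 0), ([nat_lit 415, nat_lit 287, nat_lit 703, nat_lit 671, nat_lit 63, nat_lit 287, nat_lit 223], nat_lit 0), ([nat_lit 351, nat_lit 735, nat_lit 703, nat_lit 671, nat_lit 575, nat_lit 383, nat_lit 415, nat_lit 383, nat_lit 479, nat_lit 127, nat_lit 639], nat_lit 0), ([nat_lit 351, nat_lit 767, nat_lit 703, nat_lit 383, nat_lit 223, nat_lit 383, nat_lit 223], nat_lit 0)]⟩,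
  ⟨nat_lit 543, nat_lit 1, [([nat_lit 543], nat_lit 0), ([nat_lit 735, nat_lit 447], nat_lit 0), ([nat_lit 383, nat_lit 63, nat_lit 383], nat_lit 0), ([nat_lit 63, nat_lit 191, nat_lit 415, nat_lit 383, nat_lit 479, nat_lit 639, nat_lit 767, nat_lit 191], nat_lit 0), ([nat_lit 319, nat_lit 543, nat_lit 63, nat_lit 319, nat_lit 63], nat_lit 0), ([nat_lit 191, nat_lit 351, nat_lit 191, nat_lit 479, nat_lit 351, nat_lit 735, nat_lit 703, nat_lit 671, nat_lit 191, nat_lit 351, nat_lit 191], nat_lit 0), ([nat_lit 63, nat_lit 319, nat_lit 63, nat_lit 543, nat_lit 319], nat_lit 0)]⟩,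
  ⟨nat_lit 575, nat_lit 1, [([nat_lit 575], nat_lit 0), ([nat_lit 319, nat_lit 63, nat_lit 319], nat_lit 0), ([nat_lit 607, nat_lit 575, nat_lit 607], nat_lit 0), ([nat_lit 63, nat_lit 575, nat_lit 63], nat_lit 0), ([nat_lit 703, nat_lit 575, nat_lit 703], nat_lit 0), ([nat_lit 351, nat_lit 575, nat_lit 351], nat_lit 0), ([nat_lit 63, nat_lit 191, nat_lit 319, nat_lit 223, nat_lit 63, nat_lit 607, nat_lit 575, nat_lit 191], nat_lit 0), ([nat_lit 671, nat_lit 575, nat_lit 671], nat_lit 0), ([nat_lit 447, nat_lit 575, nat_lit 447], nat_lit 0), ([nat_lit 735, nat_lit 575, nat_lit 735], nat_lit 0), ([nat_lit 127, nat_lit 575, nat_lit 127], nat_lit 0), ([nat_lit 223, nat_lit 575, nat_lit 223], nat_lit 0), ([nat_lit 511, nat_lit 575, nat_lit 511], nat_lit 0), ([nat_lit 767, nat_lit 575, nat_lit 767], nat_lit 0), ([nat_lit 479, nat_lit 575, nat_lit 479], nat_lit 0), ([nat_lit 639, nat_lit 575, nat_lit 639], nat_lit 0), ([nat_lit 191, nat_lit 575,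 nat_lit 63, nat_lit 191, nat_lit 319, nat_lit 223, nat_lit 63, nat_lit 607], nat_lit 0), ([nat_lit 415, nat_lit 767, nat_lit 703, nat_lit 575, nat_lit 415], nat_lit 0), ([nat_lit 383, nat_lit 415, nat_lit 383, nat_lit 479, nat_lit 127, nat_lit 639, nat_lit 511, nat_lit 351, nat_lit 735, nat_lit 703, nat_lit 671], nat_lit 0), ([nat_lit 415, nat_lit 575, nat_lit 415, nat_lit 767, nat_lit 703], nat_lit 0)]⟩,
  ⟨nat_lit 607, nat_lit 1, [([nat_lit 607], nat_lit 0), ([nat_lit 319, nat_lit 223, nat_lit 319], nat_lit 0), ([nat_lit 575, nat_lit 607, nat_lit 575], nat_lit 0), ([nat_lit 63, nat_lit 607, nat_lit 63], nat_lit 0), ([nat_lit 351, nat_lit 607, nat_lit 351], nat_lit 0), ([nat_lit 703, nat_lit 607, nat_lit 703], nat_lit 0), ([nat_lit 671, nat_lit 607, nat_lit 671], nat_lit 0), ([nat_lit 735, nat_lit 607, nat_lit 735], nat_lit 0), ([nat_lit 447, nat_lit 607, nat_lit 447], nat_lit 0), ([nat_lit 191, nat_lit 223, nat_lit 319, nat_lit 223, nat_lit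 191, nat_lit 319, nat_lit 223], nat_lit 0), ([nat_lit 511, nat_lit 607, nat_lit 511], nat_lit 0), ([nat_lit 223, nat_lit 607, nat_lit 223], nat_lit 0), ([nat_lit 127, nat_lit 607, nat_lit 127], nat_lit 0), ([nat_lit 767, nat_lit 607, nat_lit 767], nat_lit 0), ([nat_lit 415, nat_lit 607, nat_lit 415], nat_lit 0), ([nat_lit 639, nat_lit 607, nat_lit 639], nat_lit 0), ([nat_lit 479, nat_lit 607, nat_lit 479], nat_lit 0), ([nat_lit 383, nat_lit 223, nat_lit 351, nat_lit 383, nat_lit 511], nat_lit 0), ([nat_lit 575, nat_lit 191, nat_lit 575, nat_lit 63, nat_lit 191, nat_lit 319, nat_lit 223, nat_lit 63], nat_lit 0)]⟩,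
  ⟨nat_lit 639, nat_lit 1, [([nat_lit 639], nat_lit 0), ([nat_lit 319, nat_lit 415, nat_lit 319], nat_lit 0), ([nat_lit 351, nat_lit 639, nat_lit 351], nat_lit 0), ([nat_lit 447, nat_lit 639, nat_lit 447], nat_lit 0), ([nat_lit 511, nat_lit 639, nat_lit 511], nat_lit 0), ([nat_lit 575, nat_lit 639, nat_lit 575], nat_lit 0), ([nat_lit 703, nat_lit 639, nat_lit 703], nat_lit 0), ([nat_lit 607, nat_lit 639, nat_lit 607], nat_lit 0), ([nat_lit 127, nat_lit 639, nat_lit 127], nat_lit 0), ([nat_lit 735, nat_lit 639, nat_lit 735], nat_lit 0), ([nat_lit 223, nat_lit 639, nat_lit 223], nat_lit 0), ([nat_lit 415, nat_lit 639, nat_lit 415], nat_lit 0), ([nat_lit 671, nat_lit 639, nat_lit 671], nat_lit 0), ([nat_lit 479, nat_lit 639, nat_lit 479], nat_lit 0), ([nat_lit 767, nat_lit 191, nat_lit 543, nat_lit 63, nat_lit 191, nat_lit 415, nat_lit 383, nat_lit 479], nat_lit 0), ([nat_lit 63, nat_lit 767, nat_lit 703, nat_lit 639, nat_lit 63], nat_lit 0),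 ([nat_lit 63, nat_lit 639, nat_lit 63, nat_lit 767, nat_lit 703], nat_lit 0), ([nat_lit 511, nat_lit 351, nat_lit 735, nat_lit 703, nat_lit 671, nat_lit 575, nat_lit 383, nat_lit 415, nat_lit 383, nat_lit 479, nat_lit 127], nat_lit 0)]⟩,
  ⟨nat_lit 671, nat_lit 1, [([nat_lit 671], nat_lit 0), ([nat_lit 319, nat_lit 447, nat_lit 319], nat_lit 0), ([nat_lit 575, nat_lit 671, nat_lit 575], nat_lit 0), ([nat_lit 607, nat_lit 671, nat_lit 607], nat_lit 0), ([nat_lit 703, nat_lit 671, nat_lit 703], nat_lit 0), ([nat_lit 63, nat_lit 671, nat_lit 63], nat_lit 0), ([nat_lit 735, nat_lit 671, nat_lit 735], nat_lit 0), ([nat_lit 351, nat_lit 671, nat_lit 351], nat_lit 0), ([nat_lit 447, nat_lit 671, nat_lit 447], nat_lit 0), ([nat_lit 767, nat_lit 671, nat_lit 767], nat_lit 0), ([nat_lit 511, nat_lit 671, nat_lit 511], nat_lit 0), ([nat_lit 127, nat_lit 671, nat_lit 127], nat_lit 0), ([nat_lit 223, nat_lit 671, nat_lit 223], nat_lit 0), ([nat_lit 415,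 nat_lit 671, nat_lit 415], nat_lit 0), ([nat_lit 639, nat_lit 671, nat_lit 639], nat_lit 0), ([nat_lit 479, nat_lit 767, nat_lit 703, nat_lit 671, nat_lit 479], nat_lit 0), ([nat_lit 63, nat_lit 287, nat_lit 223, nat_lit 511, nat_lit 415, nat_lit 287, nat_lit 703], nat_lit 0), ([nat_lit 191, nat_lit 351, nat_lit 191, nat_lit 543, nat_lit 191, nat_lit 351, nat_lit 191, nat_lit 479, nat_lit 351, nat_lit 735, nat_lit 703], nat_lit 0), ([nat_lit 479, nat_lit 671, nat_lit 479, nat_lit 767, nat_lit 703], nat_lit 0), ([nat_lit 575, nat_lit 383, nat_lit 415, nat_lit 383, nat_lit 479, nat_lit 127, nat_lit 639, nat_lit 511, nat_lit 351, nat_lit 735, nat_lit 703], nat_lit 0)]⟩,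
  ⟨nat_lit 703, nat_lit 1, [([nat_lit 703], nat_lit 0), ([nat_lit 319, nat_lit 479, nat_lit 319], nat_lit 0), ([nat_lit 447, nat_lit 767, nat_lit 447], nat_lit 0), ([nat_lit 575, nat_lit 703, nat_lit 575], nat_lit 0), ([nat_lit 607, nat_lit 703, nat_lit 607], nat_lit 0), ([nat_lit 735, nat_lit 703, nat_lit 735], nat_lit 0), ([nat_lit 63, nat_lit 703, nat_lit 63], nat_lit 0), ([nat_lit 351, nat_lit 703, nat_lit 351], nat_lit 0), ([nat_lit 671, nat_lit 703, nat_lit 671], nat_lit 0), ([nat_lit 767, nat_lit 703, nat_lit 767], nat_lit 0), ([nat_lit 511, nat_lit 703, nat_lit 511], nat_lit 0), ([nat_lit 127, nat_lit 703, nat_lit 127], nat_lit 0), ([nat_lit 671, nat_lit 63, nat_lit 287, nat_lit 223, nat_lit 511, nat_lit 415, nat_lit 287], nat_lit 0), ([nat_lit 223, nat_lit 703, nat_lit 223], nat_lit 0), ([nat_lit 415, nat_lit 703, nat_lit 415], nat_lit 0), ([nat_lit 639, nat_lit 703, nat_lit 639], nat_lit 0), ([nat_lit 383, nat_lit 223, nat_lit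 383, nat_lit 223, nat_lit 511, nat_lit 351, nat_lit 767], nat_lit 0), ([nat_lit 575, nat_lit 415, nat_lit 575, nat_lit 415, nat_lit 767], nat_lit 0), ([nat_lit 479, nat_lit 703, nat_lit 479], nat_lit 0), ([nat_lit 639, nat_lit 63, nat_lit 639, nat_lit 63, nat_lit 767], nat_lit 0), ([nat_lit 671, nat_lit 479, nat_lit 671, nat_lit 479, nat_lit 767], nat_lit 0), ([nat_lit 671, nat_lit 191, nat_lit 351, nat_lit 191, nat_lit 543, nat_lit 191, nat_lit 351, nat_lit 191, nat_lit 479, nat_lit 351, nat_lit 735], nat_lit 0), ([nat_lit 415, nat_lit 735, nat_lit 415, nat_lit 767, nat_lit 735], nat_lit 0), ([nat_lit 479, nat_lit 735, nat_lit 479, nat_lit 767, nat_lit 735], nat_lit 0), ([nat_lit 671, nat_lit 575, nat_lit 383, nat_lit 415, nat_lit 383, nat_lit 479, nat_lit 127, nat_lit 639, nat_lit 511, nat_lit 351, nat_lit 735], nat_lit 0)]⟩,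
  ⟨nat_lit 735, nat_lit 1, [([nat_lit 735], nat_lit 0), ([nat_lit 447, nat_lit 543], nat_lit 0), ([nat_lit 575, nat_lit 735, nat_lit 575], nat_lit 0), ([nat_lit 607, nat_lit 735, nat_lit 607], nat_lit 0), ([nat_lit 703, nat_lit 735, nat_lit 703], nat_lit 0), ([nat_lit 351, nat_lit 735, nat_lit 351], nat_lit 0), ([nat_lit 671, nat_lit 735, nat_lit 671], nat_lit 0), ([nat_lit 63, nat_lit 735, nat_lit 63], nat_lit 0), ([nat_lit 767, nat_lit 735, nat_lit 767], nat_lit 0), ([nat_lit 511, nat_lit 735, nat_lit 511], nat_lit 0), ([nat_lit 127, nat_lit 735, nat_lit 127], nat_lit 0), ([nat_lit 639, nat_lit 735, nat_lit 639], nat_lit 0), ([nat_lit 223, nat_lit 735, nat_lit 223], nat_lit 0), ([nat_lit 31, nat_lit 735, nat_lit 31], nat_lit 0), ([nat_lit 415, nat_lit 767, nat_lit 735, nat_lit 703, nat_lit 415], nat_lit 0), ([nat_lit 479, nat_lit 767, nat_lit 735, nat_lit 703, nat_lit 479], nat_lit 0), ([nat_lit 703, nat_lit 671, nat_lit 191, nat_lit 351,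 nat_lit 191, nat_lit 543, nat_lit 191, nat_lit 351, nat_lit 191, nat_lit 479, nat_lit 351], nat_lit 0), ([nat_lit 703, nat_lit 415, nat_lit 735, nat_lit 415, nat_lit 767], nat_lit 0), ([nat_lit 703, nat_lit 479, nat_lit 735, nat_lit 479, nat_lit 767], nat_lit 0), ([nat_lit 703, nat_lit 671, nat_lit 575, nat_lit 383, nat_lit 415, nat_lit 383, nat_lit 479, nat_lit 127, nat_lit 639, nat_lit 511, nat_lit 351], nat_lit 0)]⟩,
  ⟨nat_lit 767, nat_lit 1, [([nat_lit 767], nat_lit 0), ([nat_lit 447, nat_lit 703, nat_lit 447], nat_lit 0), ([nat_lit 575, nat_lit 767, nat_lit 575], nat_lit 0), ([nat_lit 607, nat_lit 767, nat_lit 607], nat_lit 0), ([nat_lit 703, nat_lit 767, nat_lit 703], nat_lit 0), ([nat_lit 671, nat_lit 767, nat_lit 671], nat_lit 0), ([nat_lit 735, nat_lit 767, nat_lit 735], nat_lit 0), ([nat_lit 703, nat_lit 575, nat_lit 415, nat_lit 575, nat_lit 415], nat_lit 0), ([nat_lit 63, nat_lit 767, nat_lit 63], nat_lit 0), ([nat_lit 351,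 nat_lit 767, nat_lit 351], nat_lit 0), ([nat_lit 703, nat_lit 639, nat_lit 63, nat_lit 639, nat_lit 63], nat_lit 0), ([nat_lit 191, nat_lit 543, nat_lit 63, nat_lit 191, nat_lit 415, nat_lit 383, nat_lit 479, nat_lit 639], nat_lit 0), ([nat_lit 703, nat_lit 383, nat_lit 223, nat_lit 383, nat_lit 223, nat_lit 511, nat_lit 351], nat_lit 0), ([nat_lit 735, nat_lit 703, nat_lit 415, nat_lit 735, nat_lit 415], nat_lit 0), ([nat_lit 703, nat_lit 671, nat_lit 479, nat_lit 671, nat_lit 479], nat_lit 0), ([nat_lit 735, nat_lit 703, nat_lit 479, nat_lit 735, nat_lit 479], nat_lit 0)]⟩]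

noncomputable def erots : List (List ℕ × ℕ) := []

noncomputable def gens : List ℕ := [nat_lit 31, nat_lit 63, nat_lit 95, nat_lit 127, nat_lit 159, nat_lit 191, nat_lit 223, nat_lit 255, nat_lit 287, nat_lit 319, nat_lit 351, nat_lit 383, nat_lit 415, nat_lit 447, nat_lit 479, nat_lit 511, nat_lit 543, nat_lit 575, nat_lit 607, nat_lit 639, nat_lit 671, nat_lit 703, nat_lit 735, nat_lit 767]

noncomputable def chk : ℕ → Bool := chkRow0 row (nat_lit 69615) (nat_lit 0x1ffff) (nat_lit 0x3fe0000) (nat_lit 26) (nat_lit 0x3f) (nat_lit 0) (nat_lit 0x1ffff) (nat_lit 17) (nat_lit 0x3ff) (nat_lit 0x78000000) [] cols gens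

end Cfsg.Agent.H3.F42.Tc0
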