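import Cfsg.Agent.L0.CosetChain

/-! Generated coset table certificate. -/

set_option autoImplicit false
set_option maxRecDepth 100000

open Cfsg.Agent.L0

namespace Cfsg.Agent.H3.F42.Tc2

noncomputable def t0 : BT := .node (.node (.leaf (nat_lit 0x48e465ad2391ab138a669d18b811b122a84d35854938f54d86a509259a480000005081220e82910000087710e565c1b907224e419c833906720ce421cc8390c7228e639d48390e421ce4088c638000518ecb32ca3b1a70000c41c85324c064733946214c429885310a6214c631888338e642cc8498c4110662108408800018868116e10dcb30000d18cc21d22424d4d526001325600048d85001100204a28007800e001a67acc75000c00160000005102260925414000000951908b813248441088211842288429087220e421884190c422864518e4210c3320440000a190004292463080000c3210224110b9032286428c8a1908320c6448cc9190632106648e83198e32086610c81080006086e10c83318630001640d021944828d1110222c4440889110e22244638885128425084810885310a2000e00180001842000a4085cc10000a0c4001093402004400880110022004400880110022004400880110022004400880100060000400880100042004000080110020000))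 (.leaf (nat_lit 0x3cb05160b1c15d828f051e0a4c3ab829b131e1a1c34582cf286e261d4c380001706081a2c3833b0000120c5c97a5c99e7729ee595cb2b96572cae595dccb94d729ae735d66bb63a436e58e565d000059ae40a800d99d70000735ca5c42e249c4949430530eb4a27142b569e52356559b312a244fc12b53c6b47e850a80003c2b00352ccca4b000080a6565653105038e951c0e379e60a4e361cad2ade72b11f8253339225650e363c6a3b2a0000aa600193aeab5d400013923aed25c858a272d8e289c1248208921e09ad1232d07224a269c0e7aeac9a0a0b32b4000040a000c191428e800039e7912a86b3b325369e60952751428296070d1a3514f085d85554a15b4535960ac4c976800048e0914c9ab4c73000041d9219ba610a441ced3910cfd0c12ad313a5454d1258b3ab49ec5231a492c713b64d5c8000255149647648ac90000c6ea7649cb8851d0ca49434551091a8ea918255310734918b390b296a8ac4e49229145a20000ab91b1183e256c40001a6c72e2e204))) (.node (.leaf (nat_lit 0x885441396151ac53868734ccc410253a26705514643d64460734cd0839c90000524cce811cb29200001cc5b9307012330c66666cb1dda9bab28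5c6dd96aa946e304a50aa5b41bcf285cacbe1d7800047dc8ebe8479c4f00004fd21c7b71911fa987047ea4a30e3b1c4f32168930e47942a204a50d11471c4f44dc8ab8000140f321c8439237000091906439b5088f2d26923cb37ac7130a94949568ec53a4db41c34204a7534a54ac0d85a60001a74a06d2a54b234000142a465ad8a4265e69959879aae285ad154914926e692a6c4c9583c72251111548129a6c000114d4973a2cc4b180000948b24b698213ed22906fb4934938f38ad03b98849cd637a444c4e099205392cc8a0812800028ac42998d8446b000046c093634490a28251538a0744ce48a2e54a24524cd529c4e381e5124acb30c5292ab0580001025002e7434a550000f81b24519ac8add8898801635160054ea69a4c22567434a3a10c838548824e669a0923e00000a86988920ca93a4000102531d2c404)) (.leaf (nat_lit 0x3d785af0b4e15fc2b7856f0ade1e9c2cf859f16ee24bc3cf85470ece3cdb000070f164e103a3a78000165e565cc4dc9ebb2b365a6cb4d969b2d365a6cebd959b59f6b3ed29d9cdb2a3679eca7e000039f6b4ec81b9d5b0000b56d6bdd26d8eed15da293451e8a3d147a28f49268b0d161a6b74d068b2bcc1a28b0535c000541a206c0070e3d000048f457e6972a79e4b3c96592cb25964b2c96594cb25864b0c9e1969b2b9612bcc6173cb200026dc90355c7276640001e195bb54b94)))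

noncomputable def tree : BT := t0

noncomputable def row : ℕ → ℕ := rowOf tree (nat_lit 3) (nat_lit 7) (nat_lit 377) (nat_lit 0x1ffffffffffffffffffffffffffffffffffffffffffffffffffffffffffffffffffffffffffffffffffffffffffffff)

noncomputable def cols : List Col := [⟨nat_lit 17, nat_lit 1, [([nat_lit 17], nat_lit 0), ([nat_lit 32, nat_lit 17, nat_lit 212], nat_lit 0), ([nat_lit 137, nat_lit 152, nat_lit 137], nat_lit 0), ([nat_lit 212, nat_lit 32, nat_lit 92, nat_lit 212, nat_lit 32, nat_lit 92], nat_lit 0), ([nat_lit 152, nat_lit 17, nat_lit 152], nat_lit 0), ([nat_lit 347, nat_lit 17, nat_lit 347], nat_lit 0), ([nat_lit 197, nat_lit 17, nat_lit 227], nat_lit 0), ([nat_lit 107, nat_lit 17, nat_lit 107], nat_lit 0), ([nat_lit 137, nat_lit 17, nat_lit 77, nat_lit 182, nat_lit 77], nat_lit 0), ([nat_lit 92, nat_lit 227, nat_lit 137, nat_lit 92, nat_lit 197, nat_lit 92, nat_lit 137, nat_lit 227], nat_lit 0)]⟩,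
  ⟨nat_lit 32, nat_lit 1, [([nat_lit 32], nat_lit 0), ([nat_lit 17, nat_lit 212, nat_lit 17], nat_lit 0), ([nat_lit 92, nat_lit 32, nat_lit 92, nat_lit 32, nat_lit 92], nat_lit 0), ([nat_lit 92, nat_lit 77, nat_lit 32, nat_lit 92, nat_lit 32, nat_lit 77, nat_lit 92, nat_lit 77], nat_lit 0), ([nat_lit 182, nat_lit 257, nat_lit 182], nat_lit 0), ([nat_lit 272, nat_lit 32, nat_lit 272], nat_lit 0), ([nat_lit 332, nat_lit 32, nat_lit 332], nat_lit 0), ([nat_lit 212, nat_lit 32, nat_lit 212], nat_lit 0), ([nat_lit 77, nat_lit 212, nat_lit 77, nat_lit 212], nat_lit 0), ([nat_lit 77, nat_lit 227, nat_lit 77, nat_lit 227], nat_lit 0), ([nat_lit 302, nat_lit 32, nat_lit 362, nat_lit 332, nat_lit 302], nat_lit 0), ([nat_lit 137, nat_lit 107, nat_lit 242, nat_lit 197, nat_lit 137, nat_lit 332, nat_lit 317], nat_lit 0), ([nat_lit 92, nat_lit 77, nat_lit 197, nat_lit 77, nat_lit 92, nat_lit 32, nat_lit 107, nat_lit 92,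 nat_lit 107], nat_lit 0), ([nat_lit 92, nat_lit 227, nat_lit 197, nat_lit 107, nat_lit 212, nat_lit 92, nat_lit 32, nat_lit 107, nat_lit 92, nat_lit 107], nat_lit 0)]⟩,
  ⟨nat_lit 62, nat_lit 1, [([nat_lit 32, nat_lit 62, nat_lit 32], nat_lit 0), ([nat_lit 167, nat_lit 92, nat_lit 107, nat_lit 92, nat_lit 167, nat_lit 92, nat_lit 107, nat_lit 92], nat_lit 0), ([nat_lit 167, nat_lit 62, nat_lit 167], nat_lit 0), ([nat_lit 212, nat_lit 62, nat_lit 212], nat_lit 0), ([nat_lit 152, nat_lit 62, nat_lit 152], nat_lit 0), ([nat_lit 302, nat_lit 242, nat_lit 167, nat_lit 347, nat_lit 332, nat_lit 317, nat_lit 272, nat_lit 182, nat_lit 197, nat_lit 182, nat_lit 227], nat_lit 0), ([nat_lit 302, nat_lit 62, nat_lit 302], nat_lit 0), ([nat_lit 347, nat_lit 62, nat_lit 347], nat_lit 0)]⟩,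
  ⟨nat_lit 77, nat_lit 0, [([nat_lit 77], nat_lit 0), ([nat_lit 107, nat_lit 77, nat_lit 107], nat_lit 0), ([nat_lit 212, nat_lit 77, nat_lit 212, nat_lit 32], nat_lit 0), ([nat_lit 92, nat_lit 77, nat_lit 32, nat_lit 92, nat_lit 77, nat_lit 32, nat_lit 92, nat_lit 32], nat_lit 0), ([nat_lit 32, nat_lit 92, nat_lit 77, nat_lit 32, nat_lit 92, nat_lit 32, nat_lit 77, nat_lit 92], nat_lit 0), ([nat_lit 137, nat_lit 77, nat_lit 137], nat_lit 0), ([nat_lit 212, nat_lit 32, nat_lit 77, nat_lit 212], nat_lit 0), ([nat_lit 227, nat_lit 77, nat_lit 227, nat_lit 32], nat_lit 0), ([nat_lit 227, nat_lit 32, nat_lit 77, nat_lit 227], nat_lit 0), ([nat_lit 17, nat_lit 137, nat_lit 17, nat_lit 77, nat_lit 182], nat_lit 0)]⟩,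
  ⟨nat_lit 92, nat_lit 1, [([nat_lit 92], nat_lit 0), ([nat_lit 32, nat_lit 92, nat_lit 32, nat_lit 92, nat_lit 32], nat_lit 0), ([nat_lit 197, nat_lit 92, nat_lit 197, nat_lit 92, nat_lit 197], nat_lit 0), ([nat_lit 77, nat_lit 32, nat_lit 92, nat_lit 77, nat_lit 32, nat_lit 92, nat_lit 32, nat_lit 77], nat_lit 0), ([nat_lit 212, nat_lit 32, nat_lit 92, nat_lit 17, nat_lit 212, nat_lit 32], nat_lit 0), ([nat_lit 137, nat_lit 167, nat_lit 107, nat_lit 92, nat_lit 107, nat_lit 167, nat_lit 137], nat_lit 0), ([nat_lit 137, nat_lit 92, nat_lit 77, nat_lit 92, nat_lit 137, nat_lit 92, nat_lit 77], nat_lit 0)]⟩,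
  ⟨nat_lit 107, nat_lit 1, [([nat_lit 107], nat_lit 0), ([nat_lit 77, nat_lit 107, nat_lit 77], nat_lit 0), ([nat_lit 32, nat_lit 107, nat_lit 32], nat_lit 0), ([nat_lit 17, nat_lit 107, nat_lit 17], nat_lit 0), ([nat_lit 137, nat_lit 167, nat_lit 137], nat_lit 0), ([nat_lit 152, nat_lit 287, nat_lit 152], nat_lit 0), ([nat_lit 302, nat_lit 107, nat_lit 302], nat_lit 0), ([nat_lit 92, nat_lit 167, nat_lit 92, nat_lit 107, nat_lit 92, nat_lit 62, nat_lit 167, nat_lit 92], nat_lit 0), ([nat_lit 92, nat_lit 197, nat_lit 32, nat_lit 92, nat_lit 107, nat_lit 92, nat_lit 32, nat_lit 197, nat_lit 92], nat_lit 0), ([nat_lit 92, nat_lit 32, nat_lit 197, nat_lit 92, nat_lit 107, nat_lit 92, nat_lit 197, nat_lit 32, nat_lit 92], nat_lit 0)]⟩,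
  ⟨nat_lit 137, nat_lit 0, [([nat_lit 137], nat_lit 0), ([nat_lit 17, nat_lit 137, nat_lit 152], nat_lit 0), ([nat_lit 17, nat_lit 77, nat_lit 182, nat_lit 77, nat_lit 17], nat_lit 0), ([nat_lit 152, nat_lit 137, nat_lit 17], nat_lit 0), ([nat_lit 107, nat_lit 137, nat_lit 167], nat_lit 0), ([nat_lit 77, nat_lit 137, nat_lit 77], nat_lit 0), ([nat_lit 332, nat_lit 317, nat_lit 32, nat_lit 137, nat_lit 107, nat_lit 242, nat_lit 197], nat_lit 0), ([nat_lit 92, nat_lit 137, nat_lit 167, nat_lit 107, nat_lit 92, nat_lit 107, nat_lit 167], nat_lit 0)]⟩,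
  ⟨nat_lit 152, nat_lit 1, [([nat_lit 152], nat_lit 0), ([nat_lit 137, nat_lit 17, nat_lit 137], nat_lit 0), ([nat_lit 32, nat_lit 152, nat_lit 272], nat_lit 0), ([nat_lit 227, nat_lit 152, nat_lit 332], nat_lit 0), ([nat_lit 272, nat_lit 152, nat_lit 32], nat_lit 0), ([nat_lit 107, nat_lit 152, nat_lit 287], nat_lit 0), ([nat_lit 17, nat_lit 152, nat_lit 17], nat_lit 0), ([nat_lit 107, nat_lit 92, nat_lit 152, nat_lit 107, nat_lit 287, nat_lit 92, nat_lit 107], nat_lit 0)]⟩,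
  ⟨nat_lit 167, nat_lit 1, [([nat_lit 137, nat_lit 107, nat_lit 137], nat_lit 0), ([nat_lit 167], nat_lit 0), ([nat_lit 92, nat_lit 107, nat_lit 92, nat_lit 62, nat_lit 167, nat_lit 92, nat_lit 107, nat_lit 92], nat_lit 0), ([nat_lit 32, nat_lit 167, nat_lit 32], nat_lit 0), ([nat_lit 137, nat_lit 92, nat_lit 137, nat_lit 167, nat_lit 107, nat_lit 92, nat_lit 107], nat_lit 0), ([nat_lit 272, nat_lit 167, nat_lit 272], nat_lit 0), ([nat_lit 317, nat_lit 167, nat_lit 317], nat_lit 0), ([nat_lit 92, nat_lit 197, nat_lit 32, nat_lit 92, nat_lit 62, nat_lit 167, nat_lit 92, nat_lit 32, nat_lit 197, nat_lit 92], nat_lit 0)]⟩,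
  ⟨nat_lit 182, nat_lit 1, [([nat_lit 182], nat_lit 0), ([nat_lit 77, nat_lit 17, nat_lit 137, nat_lit 17, nat_lit 77], nat_lit 0), ([nat_lit 32, nat_lit 182, nat_lit 257], nat_lit 0), ([nat_lit 17, nat_lit 182, nat_lit 17], nat_lit 0), ([nat_lit 227, nat_lit 302, nat_lit 362, nat_lit 92, nat_lit 257, nat_lit 32, nat_lit 92, nat_lit 197], nat_lit 0), ([nat_lit 107, nat_lit 182, nat_lit 107, nat_lit 242, nat_lit 167, nat_lit 362, nat_lit 332], nat_lit 0)]⟩,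
  ⟨nat_lit 197, nat_lit 1, [([nat_lit 197], nat_lit 0), ([nat_lit 32, nat_lit 197, nat_lit 32], nat_lit 0), ([nat_lit 77, nat_lit 92, nat_lit 32, nat_lit 107, nat_lit 92, nat_lit 107, nat_lit 32, nat_lit 92, nat_lit 77], nat_lit 0), ([nat_lit 17, nat_lit 227, nat_lit 17], nat_lit 0), ([nat_lit 92, nat_lit 197, nat_lit 92, nat_lit 197, nat_lit 92], nat_lit 0), ([nat_lit 302, nat_lit 197, nat_lit 302], nat_lit 0), ([nat_lit 317, nat_lit 197, nat_lit 317], nat_lit 0), ([nat_lit 227, nat_lit 197, nat_lit 227], nat_lit 0), ([nat_lit 92, nat_lit 137, nat_lit 227, nat_lit 17, nat_lit 92, nat_lit 227, nat_lit 137, nat_lit 92], nat_lit 0)]⟩,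
  ⟨nat_lit 212, nat_lit 1, [([nat_lit 212], nat_lit 0), ([nat_lit 17, nat_lit 32, nat_lit 17], nat_lit 0), ([nat_lit 257, nat_lit 347], nat_lit 0), ([nat_lit 77, nat_lit 212, nat_lit 32, nat_lit 77], nat_lit 0), ([nat_lit 32, nat_lit 92, nat_lit 17, nat_lit 212, nat_lit 32, nat_lit 92], nat_lit 0), ([nat_lit 272, nat_lit 212, nat_lit 272], nat_lit 0)]⟩,
  ⟨nat_lit 227, nat_lit 1, [([nat_lit 17, nat_lit 197, nat_lit 17], nat_lit 0), ([nat_lit 227], nat_lit 0), ([nat_lit 32, nat_lit 227, nat_lit 32], nat_lit 0), ([nat_lit 77, nat_lit 227, nat_lit 32, nat_lit 77], nat_lit 0), ([nat_lit 302, nat_lit 227, nat_lit 302], nat_lit 0), ([nat_lit 32, nat_lit 77, nat_lit 227, nat_lit 77], nat_lit 0), ([nat_lit 17, nat_lit 92, nat_lit 227, nat_lit 137, nat_lit 92, nat_lit 197, nat_lit 92, nat_lit 137], nat_lit 0), ([nat_lit 197, nat_lit 107, nat_lit 212, nat_lit 92, nat_lit 32, nat_lit 107, nat_lit 92, nat_lit 107, nat_lit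 32, nat_lit 92], nat_lit 0)]⟩,
  ⟨nat_lit 242, nat_lit 1, [([nat_lit 17, nat_lit 167, nat_lit 17], nat_lit 0), ([nat_lit 242], nat_lit 0), ([nat_lit 32, nat_lit 242, nat_lit 32], nat_lit 0), ([nat_lit 272, nat_lit 242, nat_lit 272], nat_lit 0), ([nat_lit 317, nat_lit 242, nat_lit 317], nat_lit 0)]⟩,
  ⟨nat_lit 257, nat_lit 1, [([nat_lit 257], nat_lit 0), ([nat_lit 182, nat_lit 32, nat_lit 182], nat_lit 0), ([nat_lit 152, nat_lit 257, nat_lit 32, nat_lit 152, nat_lit 32], nat_lit 0), ([nat_lit 347, nat_lit 212], nat_lit 0), ([nat_lit 32, nat_lit 92, nat_lit 197, nat_lit 182, nat_lit 227, nat_lit 302, nat_lit 362, nat_lit 92], nat_lit 0), ([nat_lit 92, nat_lit 167, nat_lit 92, nat_lit 227, nat_lit 167, nat_lit 347, nat_lit 332, nat_lit 317, nat_lit 92, nat_lit 167, nat_lit 92], nat_lit 0)]⟩,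
  ⟨nat_lit 272, nat_lit 1, [([nat_lit 152, nat_lit 32, nat_lit 152], nat_lit 0), ([nat_lit 272], nat_lit 0), ([nat_lit 317, nat_lit 272, nat_lit 317], nat_lit 0), ([nat_lit 332, nat_lit 272, nat_lit 332], nat_lit 0), ([nat_lit 347, nat_lit 272, nat_lit 347], nat_lit 0), ([nat_lit 32, nat_lit 272, nat_lit 32], nat_lit 0), ([nat_lit 32, nat_lit 92, nat_lit 152, nat_lit 107, nat_lit 32, nat_lit 287, nat_lit 272, nat_lit 92], nat_lit 0)]⟩,
  ⟨nat_lit 287, nat_lit 1, [([nat_lit 152, nat_lit 107, nat_lit 152], nat_lit 0), ([nat_lit 287], nat_lit 0), ([nat_lit 92, nat_lit 107, nat_lit 152, nat_lit 107, nat_lit 92, nat_lit 152, nat_lit 107], nat_lit 0), ([nat_lit 272, nat_lit 287, nat_lit 272], nat_lit 0), ([nat_lit 317, nat_lit 287, nat_lit 317], nat_lit 0)]⟩,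
  ⟨nat_lit 302, nat_lit 1, [([nat_lit 152, nat_lit 197, nat_lit 152], nat_lit 0), ([nat_lit 302], nat_lit 0), ([nat_lit 32, nat_lit 362, nat_lit 332, nat_lit 302, nat_lit 32], nat_lit 0)]⟩,
  ⟨nat_lit 317, nat_lit 1, [([nat_lit 152, nat_lit 212, nat_lit 152], nat_lit 0), ([nat_lit 317], nat_lit 0), ([nat_lit 287, nat_lit 317, nat_lit 287], nat_lit 0), ([nat_lit 347, nat_lit 317, nat_lit 347], nat_lit 0), ([nat_lit 32, nat_lit 317, nat_lit 32], nat_lit 0), ([nat_lit 302, nat_lit 317, nat_lit 302], nat_lit 0), ([nat_lit 227, nat_lit 317, nat_lit 227, nat_lit 362, nat_lit 332], nat_lit 0)]⟩,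
  ⟨nat_lit 332, nat_lit 1, [([nat_lit 152, nat_lit 227, nat_lit 152], nat_lit 0), ([nat_lit 332], nat_lit 0), ([nat_lit 317, nat_lit 332, nat_lit 317], nat_lit 0), ([nat_lit 32, nat_lit 332, nat_lit 32], nat_lit 0), ([nat_lit 227, nat_lit 332, nat_lit 227], nat_lit 0)]⟩,
  ⟨nat_lit 347, nat_lit 1, [([nat_lit 212, nat_lit 257], nat_lit 0), ([nat_lit 347], nat_lit 0), ([nat_lit 317, nat_lit 347, nat_lit 317], nat_lit 0), ([nat_lit 272, nat_lit 347, nat_lit 272], nat_lit 0), ([nat_lit 332, nat_lit 347, nat_lit 332], nat_lit 0), ([nat_lit 17, nat_lit 347, nat_lit 17], nat_lit 0)]⟩,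
  ⟨nat_lit 362, nat_lit 1, [([nat_lit 362], nat_lit 0), ([nat_lit 212, nat_lit 332, nat_lit 212], nat_lit 0), ([nat_lit 317, nat_lit 362, nat_lit 317], nat_lit 0), ([nat_lit 272, nat_lit 362, nat_lit 272], nat_lit 0), ([nat_lit 347, nat_lit 332, nat_lit 227, nat_lit 347, nat_lit 227], nat_lit 0), ([nat_lit 332, nat_lit 182, nat_lit 107, nat_lit 182, nat_lit 107, nat_lit 242, nat_lit 167], nat_lit 0), ([nat_lit 32, nat_lit 362, nat_lit 32], nat_lit 0), ([nat_lit 332, nat_lit 302, nat_lit 32, nat_lit 302, nat_lit 32], nat_lit 0), ([nat_lit 92, nat_lit 257, nat_lit 32, nat_lit 92, nat_lit 197, nat_lit 182, nat_lit 227, nat_lit 302], nat_lit 0)]⟩]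

noncomputable def erots : List (List ℕ × ℕ) := []

noncomputable def gens : List ℕ := [nat_lit 17, nat_lit 32, nat_lit 62, nat_lit 77, nat_lit 92, nat_lit 107, nat_lit 137, nat_lit 152, nat_lit 167, nat_lit 182, nat_lit 197, nat_lit 212, nat_lit 227, nat_lit 242, nat_lit 257, nat_lit 272, nat_lit 287, nat_lit 302, nat_lit 317, nat_lit 332, nat_lit 347, nat_lit 362]

noncomputable def chk : ℕ → Bool := chkRow0 row (nat_lit 28) (nat_lit 0x1f) (nat_lit 0x7e0) (nat_lit 11) (nat_lit 0xf) (nat_lit 0) (nat_lit 0x1f) (nat_lit 5) (nat_lit 0x1ff) (nat_lit 0x1c000) [] cols gens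

theorem b0 : allR chk 5 0 = true := by decide +kernel

noncomputable def T : CT := ⟨row, nat_lit 28, nat_lit 28, nat_lit 0x1f, nat_lit 0x7e0, nat_lit 11, nat_lit 0xf, nat_lit 0, nat_lit 0x1f, nat_lit 5, nat_lit 0x1ff, nat_lit 0x1c000, nat_lit 377, nat_lit 377, nat_lit 0, nat_lit 12, [], cols, erots, gens⟩

theorem all : ∀ c < 28, chk c = true := fun c hc =>
  allR_glue (d := 5) (n := 1) (forall_lt_succ' forall_lt_zero' b0) c (lt_of_lt_of_le hc (by norm_num))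

/-- the relators used -/
def R : List (List ℕ) := [[nat_lit 0, nat_lit 0],
  [nat_lit 1, nat_lit 1],
  [nat_lit 4, nat_lit 4],
  [nat_lit 5, nat_lit 5],
  [nat_lit 6, nat_lit 6],
  [nat_lit 8, nat_lit 8],
  [nat_lit 9, nat_lit 9],
  [nat_lit 10, nat_lit 10],
  [nat_lit 11, nat_lit 11],
  [nat_lit 12, nat_lit 12],
  [nat_lit 13, nat_lit 13],
  [nat_lit 14, nat_lit 14],
  [nat_lit 15, nat_lit 15],
  [nat_lit 16, nat_lit 16],
  [nat_lit 17, nat_lit 17],
  [nat_lit 18, nat_lit 18],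
  [nat_lit 19, nat_lit 19],
  [nat_lit 20, nat_lit 20],
  [nat_lit 21, nat_lit 21],
  [nat_lit 22, nat_lit 22],
  [nat_lit 23, nat_lit 23],
  [nat_lit 8, nat_lit 0, nat_lit 8, nat_lit 9],
  [nat_lit 8, nat_lit 6, nat_lit 8, nat_lit 10],
  [nat_lit 4, nat_lit 0, nat_lit 8, nat_lit 0, nat_lit 4, nat_lit 11],
  [nat_lit 4, nat_lit 5, nat_lit 1, nat_lit 6, nat_lit 5, nat_lit 6, nat_lit 1, nat_lit 5, nat_lit 4, nat_lit 12],
  [nat_lit 0, nat_lit 1, nat_lit 0, nat_lit 13],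
  [nat_lit 0, nat_lit 12, nat_lit 0, nat_lit 14],
  [nat_lit 0, nat_lit 10, nat_lit 0, nat_lit 15],
  [nat_lit 11, nat_lit 1, nat_lit 11, nat_lit 16],
  [nat_lit 9, nat_lit 1, nat_lit 9, nat_lit 17],
  [nat_lit 9, nat_lit 6, nat_lit 9, nat_lit 18],
  [nat_lit 9, nat_lit 12, nat_lit 9, nat_lit 19],
  [nat_lit 9, nat_lit 13, nat_lit 9, nat_lit 20],
  [nat_lit 9, nat_lit 14, nat_lit 9, nat_lit 21],
  [nat_lit 13, nat_lit 16, nat_lit 22],
  [nat_lit 13, nat_lit 21, nat_lit 13, nat_lit 23],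
  [nat_lit 18, nat_lit 17, nat_lit 18, nat_lit 17],
  [nat_lit 20, nat_lit 17, nat_lit 20, nat_lit 17],
  [nat_lit 20, nat_lit 18, nat_lit 20, nat_lit 18],
  [nat_lit 21, nat_lit 17, nat_lit 21, nat_lit 17],
  [nat_lit 21, nat_lit 20, nat_lit 21, nat_lit 20],
  [nat_lit 22, nat_lit 17, nat_lit 22, nat_lit 17],
  [nat_lit 22, nat_lit 20, nat_lit 22, nat_lit 20],
  [nat_lit 22, nat_lit 21, nat_lit 22, nat_lit 21],
  [nat_lit 23, nat_lit 17, nat_lit 23, nat_lit 17],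
  [nat_lit 23, nat_lit 20, nat_lit 23, nat_lit 20],
  [nat_lit 1, nat_lit 17, nat_lit 1, nat_lit 17],
  [nat_lit 1, nat_lit 20, nat_lit 1, nat_lit 20],
  [nat_lit 1, nat_lit 21, nat_lit 1, nat_lit 21],
  [nat_lit 1, nat_lit 23, nat_lit 1, nat_lit 23],
  [nat_lit 10, nat_lit 1, nat_lit 10, nat_lit 1],
  [nat_lit 10, nat_lit 17, nat_lit 10, nat_lit 17],
  [nat_lit 10, nat_lit 20, nat_lit 10, nat_lit 20],
  [nat_lit 13, nat_lit 1, nat_lit 13, nat_lit 1],
  [nat_lit 13, nat_lit 17, nat_lit 13, nat_lit 17],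
  [nat_lit 15, nat_lit 1, nat_lit 15, nat_lit 1],
  [nat_lit 15, nat_lit 17, nat_lit 15, nat_lit 17],
  [nat_lit 15, nat_lit 20, nat_lit 15, nat_lit 20],
  [nat_lit 19, nat_lit 20, nat_lit 19, nat_lit 20],
  [nat_lit 19, nat_lit 1, nat_lit 19, nat_lit 1, nat_lit 23, nat_lit 21],
  [nat_lit 3, nat_lit 1, nat_lit 3, nat_lit 1],
  [nat_lit 3, nat_lit 10, nat_lit 3, nat_lit 10],
  [nat_lit 3, nat_lit 13, nat_lit 3, nat_lit 13],
  [nat_lit 3, nat_lit 19, nat_lit 3, nat_lit 19],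
  [nat_lit 3, nat_lit 22, nat_lit 3, nat_lit 22],
  [nat_lit 6, nat_lit 1, nat_lit 6, nat_lit 1],
  [nat_lit 6, nat_lit 19, nat_lit 6, nat_lit 19],
  [nat_lit 12, nat_lit 1, nat_lit 12, nat_lit 1],
  [nat_lit 12, nat_lit 19, nat_lit 12, nat_lit 19],
  [nat_lit 12, nat_lit 20, nat_lit 12, nat_lit 20],
  [nat_lit 14, nat_lit 1, nat_lit 14, nat_lit 1],
  [nat_lit 14, nat_lit 12, nat_lit 14, nat_lit 12],
  [nat_lit 14, nat_lit 19, nat_lit 14, nat_lit 19],
  [nat_lit 14, nat_lit 21, nat_lit 14, nat_lit 21],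
  [nat_lit 14, nat_lit 20, nat_lit 14, nat_lit 23, nat_lit 21, nat_lit 20],
  [nat_lit 14, nat_lit 22, nat_lit 14, nat_lit 23, nat_lit 22, nat_lit 21],
  [nat_lit 9, nat_lit 3, nat_lit 9, nat_lit 3],
  [nat_lit 1, nat_lit 9, nat_lit 1, nat_lit 16, nat_lit 9, nat_lit 16],
  [nat_lit 0, nat_lit 6, nat_lit 0, nat_lit 6],
  [nat_lit 0, nat_lit 9, nat_lit 0, nat_lit 9],
  [nat_lit 0, nat_lit 22, nat_lit 0, nat_lit 22],
  [nat_lit 11, nat_lit 0, nat_lit 11, nat_lit 0],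
  [nat_lit 11, nat_lit 6, nat_lit 11, nat_lit 6, nat_lit 15, nat_lit 10, nat_lit 23, nat_lit 21],
  [nat_lit 11, nat_lit 12, nat_lit 11, nat_lit 14, nat_lit 3, nat_lit 19, nat_lit 15, nat_lit 10, nat_lit 22, nat_lit 21, nat_lit 20, nat_lit 17],
  [nat_lit 5, nat_lit 1, nat_lit 5, nat_lit 1, nat_lit 5, nat_lit 1],
  [nat_lit 5, nat_lit 12, nat_lit 5, nat_lit 12, nat_lit 5, nat_lit 12],
  [nat_lit 5, nat_lit 13, nat_lit 1, nat_lit 5, nat_lit 0, nat_lit 13, nat_lit 1],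
  [nat_lit 5, nat_lit 6, nat_lit 9, nat_lit 6, nat_lit 5, nat_lit 9, nat_lit 6, nat_lit 18],
  [nat_lit 5, nat_lit 17, nat_lit 1, nat_lit 5, nat_lit 9, nat_lit 6, nat_lit 1, nat_lit 18, nat_lit 17],
  [nat_lit 5, nat_lit 6, nat_lit 5, nat_lit 10, nat_lit 5, nat_lit 6, nat_lit 5, nat_lit 3, nat_lit 10],
  [nat_lit 1, nat_lit 5, nat_lit 12, nat_lit 11, nat_lit 14, nat_lit 19, nat_lit 23, nat_lit 5, nat_lit 16],
  [nat_lit 5, nat_lit 1, nat_lit 12, nat_lit 5, nat_lit 6, nat_lit 5, nat_lit 12, nat_lit 1, nat_lit 5, nat_lit 6],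
  [nat_lit 5, nat_lit 1, nat_lit 6, nat_lit 5, nat_lit 6, nat_lit 1, nat_lit 5, nat_lit 14, nat_lit 12, nat_lit 6, nat_lit 13],
  [nat_lit 5, nat_lit 1, nat_lit 12, nat_lit 5, nat_lit 10, nat_lit 5, nat_lit 12, nat_lit 1, nat_lit 5, nat_lit 3, nat_lit 10],
  [nat_lit 5, nat_lit 10, nat_lit 5, nat_lit 16, nat_lit 5, nat_lit 10, nat_lit 5, nat_lit 14, nat_lit 10, nat_lit 22, nat_lit 21, nat_lit 20],
  [nat_lit 4, nat_lit 6, nat_lit 4, nat_lit 6],
  [nat_lit 8, nat_lit 4, nat_lit 8, nat_lit 4],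
  [nat_lit 4, nat_lit 13, nat_lit 4, nat_lit 13, nat_lit 1],
  [nat_lit 4, nat_lit 14, nat_lit 4, nat_lit 14, nat_lit 1],
  [nat_lit 8, nat_lit 5, nat_lit 8, nat_lit 10, nat_lit 6, nat_lit 5, nat_lit 6, nat_lit 10],
  [nat_lit 4, nat_lit 5, nat_lit 8, nat_lit 5, nat_lit 4, nat_lit 5, nat_lit 8, nat_lit 5],
  [nat_lit 1, nat_lit 8, nat_lit 6, nat_lit 15, nat_lit 12, nat_lit 8, nat_lit 21, nat_lit 20],
  [nat_lit 4, nat_lit 5, nat_lit 4, nat_lit 1, nat_lit 5, nat_lit 4, nat_lit 1, nat_lit 5, nat_lit 1],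
  [nat_lit 0, nat_lit 5, nat_lit 14, nat_lit 8, nat_lit 5, nat_lit 12, nat_lit 5, nat_lit 8, nat_lit 14]]

theorem cert : Cert T (R.map fun r => (r, 0)) ([0, 1, 3, 5, 6, 9, 10, 11, 12, 13, 14, 15, 16, 17, 18, 19, 20, 21, 22, 23].map fun y => (y, 0)) 17 15 [0, 1, 3, 4, 5, 6, 8, 9, 10, 11, 12, 13, 14, 15, 16, 17, 18, 19, 20, 21, 22, 23] :=
  ⟨by decide +kernel, ⟨[[(0, 0), (25, 0), (21, 1), (86, 4), (79, 0), (80, 0), (26, 0), (78, 0), (23, 1), (103, 0)], [(1, 0), (25, 1), (84, 1), (102, 3), (28, 1), (46, 0), (48, 0), (53, 1), (97, 4), (98, 4), (59, 1), (101, 0), (24, 6), (92, 5)], [(60, 0), (89, 7), (61, 0), (62, 0), (76, 1), (83, 4), (63, 0), (64, 0)], [(2, 0), (95, 0), (97, 0), (102, 0), (102, 2), (96, 1), (97, 2), (98, 0), (98, 2), (23, 0)], [(3, 0), (84, 0), (85, 0), (102, 1), (86, 0), (99, 1), (100, 1)], [(4, 0), (95, 1), (65, 0), (78, 1), (22, 1), (30, 1), (66, 0), (89, 1), (91, 4), (91, 9)], [(5, 0),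 (21, 0), (23, 2), (21, 2), (22, 0), (96, 0), (101, 5), (99, 0)], [(6, 0), (21, 3), (29, 0), (33, 0), (29, 2), (30, 0), (79, 1), (87, 2)], [(22, 3), (7, 0), (89, 3), (50, 0), (99, 7), (51, 0), (52, 0), (93, 4)], [(8, 0), (23, 5), (28, 0), (81, 0), (90, 3), (82, 0)], [(9, 0), (67, 0), (24, 9), (26, 1), (85, 1), (68, 0), (69, 0), (71, 1), (103, 5)], [(10, 0), (25, 3), (34, 0), (97, 1), (86, 1), (54, 0)], [(26, 3), (11, 0), (70, 0), (98, 1), (72, 0), (98, 3), (103, 8), (92, 7)], [(27, 3), (12, 0), (55, 0), (56, 0), (57, 0)], [(13, 0), (28, 3), (77, 3), (34, 1), (90, 8), (94, 3)], [(29, 3), (14, 0), (37, 1), (39, 1), (41, 1), (46, 1), (88, 1)], [(30, 3), (15, 0), (87, 7), (36, 0), (38, 1)], [(31, 3), (16, 0), (59, 2)], [(32, 3), (17, 0), (38, 0), (42, 1), (47, 1), (58, 1), (74, 5)], [(33, 3), (18, 0), (40, 0), (48, 1), (73, 1)], [(34, 2), (19, 0), (42, 0), (41, 0), (43, 0), (80, 1)], [(20, 0), (35, 3), (45, 0),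 (44, 0), (75, 3), (82, 6), (49, 1), (59, 4), (90, 6)]], [], by decide +kernel⟩, by decide +kernel, Or.inl ⟨rfl, all⟩⟩

theorem bound {Γ : Type*} [Group Γ] {x : ℕ → Γ} (hR : ∀ r ∈ R, ev x r = 1) {n : ℕ}
    (h : CardLe x [0, 1, 3, 5, 6, 9, 10, 11, 12, 13, 14, 15, 16, 17, 18, 19, 20, 21, 22, 23] n) : CardLe x [0, 1, 3, 4, 5, 6, 8, 9, 10, 11, 12, 13, 14, 15, 16, 17, 18, 19, 20, 21, 22, 23] (28 * n) :=
  cert.cardLe rfl hR h

end Cfsg.Agent.H3.F42.Tc2
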