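import Cfsg.Agent.L0.CosetChain

/-! Generated coset table certificate. -/

set_option autoImplicit false
set_option maxRecDepth 100000

open Cfsg.Agent.L0

namespace Cfsg.Agent.H3.F42.Tc3

noncomputable def t0 : BT := .node (.node (.leaf (nat_lit 0x38c4cc848c4d6538c494f22948c53a8d0f122940113b2082324a0000000086f39200004a200004114a6869d113e06939be04621be049191484921d9ea481148008254e007914e0000000411c08e0002d0e0002888653b328924239189e238a49e2463092929252ce23098892088a6621b91c6000000021b14460001aa6000086943192e42737394a4f712904f7121684419d055121dc844001c5529044882800000010d6006800055280004341d0a93a138b110426b0ce726b08e2521cd475b2c8ec521c00c3b1000b3110000000082200280002a90000219d48446509c924419c526d11c5288390c4631151047490c4004a5c600422860000000003a0860001cc60001044641a0f84e662208e06260ce068310c43510cec55298c430018f020014962000000000108210000a820000003218895c02008802200880220088022008802200880220088022008802200800000008020010000200800020088020000))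 (.leaf (nat_lit 0x2e60b582de0b582d60f583c617382d60f583c60e582ee12f83ce0000000131820d40003c600003be0b38c57a16ae57b966e59b966e79b9dae96b962e78b9dae73b96ee97b9e2e000000097b90620001e2e0001d6e57bd2bc0a1629d89f627d89f637d99f669589963658d5631d8a3652d8dd6000000064d88300000cd60000cd625da95de5079cea5479c28547b3e2f1a146875811de49a105eb6a98a053a8000000116200c000058a800046a256b572e3b2d614272d1f5272d5ae2954e553bb090b445482b3bd0c4c56d000000008ae6b500004bd000042d4ed48b9516a6579966658996267899ce68e996267899da677996e6d599de6000000096990560001da60001ca6579c2ba8a526ac8a3228c8a3238c8e122b489523548d1231c8a924148e120000000614882900018920000c9224ca15d05041ca27241c5c904142a8a7149cb549210477105053898924f88000000192a00b8000578800045725231727))) (.leaf (nat_lit 0x381ce10271c9cc271dd295530a0c6a548a723b082728c087526c0000000144900580002bc00005230d308b931c6a6a79d6a4859d6a89411d64a5954e86a91d600a9e1e41391de00000006241c5e000255e0001116b47c4e98a4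548b8e052844e05275097139c4ee624150d12094e8e31191ce0000000325268e00012ce00010913ab9ae48586959a576959a5669d9a746a09a576ad9a7569d5a596b4da75680000003d1a41280007668000736959acae428115ec3710df037109a625c0e304b51cc4534082439308746630000000144671b00005b3000022c110c6b9195688959be86979be8a72a19e6b79dc887a219e00a15d641228d600000006228026000159600020de755b4e8c96a66a894a252894a3528d2a27288ea33a8caa322898a5128d2a000000074288240000c6a0000c8a232995c6511a452501940c50192a10831ccc768b186453104652490e24f4800000010e000900005648000c2319d2d722))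

noncomputable def tree : BT := t0

noncomputable def row : ℕ → ℕ := rowOf tree (nat_lit 3) (nat_lit 7) (nat_lit 353) (nat_lit 0x1ffffffffffffffffffffffffffffffffffffffffffffffffffffffffffffffffffffffffffffffffffffffff)

noncomputable def cols : List Col := [⟨nat_lit 17, nat_lit 1, [([nat_lit 199, nat_lit 31, nat_lit 87, nat_lit 199, nat_lit 31, nat_lit 87], nat_lit 0), ([nat_lit 31, nat_lit 17, nat_lit 199], nat_lit 0), ([nat_lit 185, nat_lit 17, nat_lit 213], nat_lit 0), ([nat_lit 101, nat_lit 17, nat_lit 101], nat_lit 0)]⟩,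
  ⟨nat_lit 31, nat_lit 1, [([nat_lit 31], nat_lit 0), ([nat_lit 87, nat_lit 31, nat_lit 87, nat_lit 31, nat_lit 87], nat_lit 0), ([nat_lit 157, nat_lit 31, nat_lit 157], nat_lit 0), ([nat_lit 101, nat_lit 31, nat_lit 101], nat_lit 0), ([nat_lit 185, nat_lit 31, nat_lit 185], nat_lit 0)]⟩,
  ⟨nat_lit 59, nat_lit 1, [([nat_lit 31, nat_lit 59, nat_lit 31], nat_lit 0), ([nat_lit 157, nat_lit 87, nat_lit 101, nat_lit 87, nat_lit 157, nat_lit 87, nat_lit 101, nat_lit 87], nat_lit 0), ([nat_lit 157, nat_lit 59, nat_lit 157], nat_lit 0), ([nat_lit 269, nat_lit 59, nat_lit 269], nat_lit 0), ([nat_lit 157, nat_lit 87, nat_lit 31, nat_lit 185, nat_lit 87, nat_lit 157, nat_lit 87, nat_lit 185, nat_lit 31, nat_lit 87], nat_lit 0)]⟩,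
  ⟨nat_lit 87, nat_lit 0, [([nat_lit 87], nat_lit 0), ([nat_lit 157, nat_lit 87, nat_lit 241, nat_lit 87, nat_lit 157, nat_lit 87, nat_lit 213, nat_lit 157, nat_lit 325, nat_lit 311, nat_lit 297], nat_lit 0), ([nat_lit 31, nat_lit 87, nat_lit 31, nat_lit 87, nat_lit 31], nat_lit 0), ([nat_lit 185, nat_lit 87, nat_lit 185, nat_lit 87, nat_lit 185], nat_lit 0), ([nat_lit 157, nat_lit 87, nat_lit 101, nat_lit 87, nat_lit 59, nat_lit 157, nat_lit 87, nat_lit 101], nat_lit 0), ([nat_lit 101, nat_lit 87, nat_lit 185, nat_lit 31, nat_lit 87, nat_lit 101, nat_lit 87, nat_lit 31, nat_lit 185], nat_lit 0), ([nat_lit 101, nat_lit 31, nat_lit 87, nat_lit 213, nat_lit 185, nat_lit 101, nat_lit 199, nat_lit 87, nat_lit 31, nat_lit 101], nat_lit 0), ([nat_lit 157, nat_lit 87, nat_lit 185, nat_lit 31, nat_lit 87, nat_lit 59, nat_lit 157, nat_lit 87, nat_lit 31, nat_lit 185], nat_lit 0)]⟩,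
  ⟨nat_lit 101, nat_lit 1, [([nat_lit 101], nat_lit 0), ([nat_lit 157, nat_lit 101, nat_lit 157], nat_lit 0), ([nat_lit 87, nat_lit 157, nat_lit 87, nat_lit 101, nat_lit 87, nat_lit 59, nat_lit 157, nat_lit 87], nat_lit 0), ([nat_lit 185, nat_lit 101, nat_lit 185], nat_lit 0), ([nat_lit 87, nat_lit 185, nat_lit 31, nat_lit 87, nat_lit 101, nat_lit 87, nat_lit 31, nat_lit 185, nat_lit 87], nat_lit 0), ([nat_lit 87, nat_lit 101, nat_lit 31, nat_lit 87, nat_lit 213, nat_lit 185, nat_lit 101, nat_lit 199, nat_lit 87, nat_lit 31], nat_lit 0)]⟩,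
  ⟨nat_lit 143, nat_lit 1, [([nat_lit 31, nat_lit 143, nat_lit 255], nat_lit 0), ([nat_lit 101, nat_lit 87, nat_lit 143, nat_lit 101, nat_lit 269, nat_lit 87, nat_lit 101], nat_lit 0), ([nat_lit 101, nat_lit 143, nat_lit 269], nat_lit 0), ([nat_lit 157, nat_lit 143, nat_lit 157], nat_lit 0), ([nat_lit 101, nat_lit 31, nat_lit 269, nat_lit 255, nat_lit 87, nat_lit 255, nat_lit 31, nat_lit 87], nat_lit 0)]⟩,
  ⟨nat_lit 157, nat_lit 1, [([nat_lit 157], nat_lit 0), ([nat_lit 185, nat_lit 157, nat_lit 185], nat_lit 0), ([nat_lit 87, nat_lit 185, nat_lit 31, nat_lit 87, nat_lit 59, nat_lit 157, nat_lit 87, nat_lit 31, nat_lit 185, nat_lit 87], nat_lit 0), ([nat_lit 87, nat_lit 101, nat_lit 87, nat_lit 59, nat_lit 157, nat_lit 87, nat_lit 101, nat_lit 87], nat_lit 0), ([nat_lit 87, nat_lit 241, nat_lit 87, nat_lit 157, nat_lit 87, nat_lit 213, nat_lit 157, nat_lit 325, nat_lit 311, nat_lit 297, nat_lit 87], nat_lit 0)]⟩,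
  ⟨nat_lit 171, nat_lit 1, [([nat_lit 213, nat_lit 283, nat_lit 339, nat_lit 87, nat_lit 241, nat_lit 31, nat_lit 87, nat_lit 185], nat_lit 0), ([nat_lit 31, nat_lit 171, nat_lit 241], nat_lit 0), ([nat_lit 185, nat_lit 171, nat_lit 213, nat_lit 59, nat_lit 283, nat_lit 227, nat_lit 157, nat_lit 325, nat_lit 311, nat_lit 297, nat_lit 255], nat_lit 0), ([nat_lit 227, nat_lit 269, nat_lit 171, nat_lit 101, nat_lit 157], nat_lit 0)]⟩,
  ⟨nat_lit 185, nat_lit 1, [([nat_lit 185], nat_lit 0), ([nat_lit 87, nat_lit 185, nat_lit 87, nat_lit 185, nat_lit 87], nat_lit 0)]⟩,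
  ⟨nat_lit 199, nat_lit 1, [([nat_lit 199], nat_lit 0), ([nat_lit 31, nat_lit 87, nat_lit 17, nat_lit 199, nat_lit 31, nat_lit 87], nat_lit 0), ([nat_lit 157, nat_lit 199, nat_lit 157], nat_lit 0), ([nat_lit 101, nat_lit 199, nat_lit 101], nat_lit 0), ([nat_lit 185, nat_lit 199, nat_lit 185], nat_lit 0)]⟩,
  ⟨nat_lit 213, nat_lit 1, [([nat_lit 213], nat_lit 0), ([nat_lit 17, nat_lit 185, nat_lit 17], nat_lit 0), ([nat_lit 157, nat_lit 213, nat_lit 157], nat_lit 0), ([nat_lit 185, nat_lit 101, nat_lit 199, nat_lit 87, nat_lit 31, nat_lit 101, nat_lit 87, nat_lit 101, nat_lit 31, nat_lit 87], nat_lit 0), ([nat_lit 31, nat_lit 213, nat_lit 31], nat_lit 0), ([nat_lit 101, nat_lit 213, nat_lit 101], nat_lit 0)]⟩,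
  ⟨nat_lit 227, nat_lit 1, [([nat_lit 17, nat_lit 157, nat_lit 17], nat_lit 0), ([nat_lit 227], nat_lit 0), ([nat_lit 31, nat_lit 227, nat_lit 31], nat_lit 0), ([nat_lit 269, nat_lit 227, nat_lit 269], nat_lit 0), ([nat_lit 269, nat_lit 171, nat_lit 101, nat_lit 157, nat_lit 171], nat_lit 0)]⟩,
  ⟨nat_lit 241, nat_lit 1, [([nat_lit 325, nat_lit 199], nat_lit 0), ([nat_lit 241], nat_lit 0), ([nat_lit 87, nat_lit 157, nat_lit 87, nat_lit 213, nat_lit 157, nat_lit 325, nat_lit 311, nat_lit 297, nat_lit 87, nat_lit 157, nat_lit 87], nat_lit 0), ([nat_lit 31, nat_lit 87, nat_lit 185, nat_lit 171, nat_lit 213, nat_lit 283, nat_lit 339, nat_lit 87], nat_lit 0), ([nat_lit 171, nat_lit 31, nat_lit 171], nat_lit 0)]⟩,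
  ⟨nat_lit 255, nat_lit 1, [([nat_lit 255], nat_lit 0), ([nat_lit 31, nat_lit 87, nat_lit 143, nat_lit 101, nat_lit 31, nat_lit 269, nat_lit 255, nat_lit 87], nat_lit 0), ([nat_lit 157, nat_lit 255, nat_lit 157], nat_lit 0), ([nat_lit 101, nat_lit 255, nat_lit 101], nat_lit 0), ([nat_lit 143, nat_lit 31, nat_lit 143], nat_lit 0), ([nat_lit 269, nat_lit 255, nat_lit 269], nat_lit 0), ([nat_lit 213, nat_lit 255, nat_lit 213], nat_lit 0)]⟩,
  ⟨nat_lit 269, nat_lit 1, [([nat_lit 269], nat_lit 0), ([nat_lit 143, nat_lit 101, nat_lit 143], nat_lit 0), ([nat_lit 255, nat_lit 269, nat_lit 255], nat_lit 0), ([nat_lit 157, nat_lit 269, nat_lit 157], nat_lit 0), ([nat_lit 31, nat_lit 269, nat_lit 31], nat_lit 0), ([nat_lit 185, nat_lit 269, nat_lit 185], nat_lit 0), ([nat_lit 255, nat_lit 87, nat_lit 255, nat_lit 31, nat_lit 87, nat_lit 143, nat_lit 101, nat_lit 31], nat_lit 0)]⟩,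
  ⟨nat_lit 283, nat_lit 1, [([nat_lit 143, nat_lit 185, nat_lit 143], nat_lit 0), ([nat_lit 283], nat_lit 0), ([nat_lit 199, nat_lit 283, nat_lit 199], nat_lit 0)]⟩,
  ⟨nat_lit 297, nat_lit 1, [([nat_lit 143, nat_lit 199, nat_lit 143], nat_lit 0), ([nat_lit 297], nat_lit 0), ([nat_lit 157, nat_lit 297, nat_lit 157], nat_lit 0)]⟩,
  ⟨nat_lit 311, nat_lit 1, [([nat_lit 143, nat_lit 213, nat_lit 143], nat_lit 0), ([nat_lit 311], nat_lit 0), ([nat_lit 255, nat_lit 311, nat_lit 255], nat_lit 0)]⟩,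
  ⟨nat_lit 325, nat_lit 1, [([nat_lit 199, nat_lit 241], nat_lit 0), ([nat_lit 255, nat_lit 325, nat_lit 255], nat_lit 0), ([nat_lit 269, nat_lit 325, nat_lit 269], nat_lit 0), ([nat_lit 311, nat_lit 325, nat_lit 311], nat_lit 0), ([nat_lit 311, nat_lit 297, nat_lit 255, nat_lit 171, nat_lit 185, nat_lit 171, nat_lit 213, nat_lit 59, nat_lit 283, nat_lit 227, nat_lit 157], nat_lit 0), ([nat_lit 157, nat_lit 325, nat_lit 157], nat_lit 0)]⟩,
  ⟨nat_lit 339, nat_lit 1, [([nat_lit 199, nat_lit 311, nat_lit 199], nat_lit 0), ([nat_lit 339], nat_lit 0), ([nat_lit 269, nat_lit 339, nat_lit 269], nat_lit 0)]⟩]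

noncomputable def erots : List (List ℕ × ℕ) := []

noncomputable def gens : List ℕ := [nat_lit 17, nat_lit 31, nat_lit 59, nat_lit 87, nat_lit 101, nat_lit 143, nat_lit 157, nat_lit 171, nat_lit 185, nat_lit 199, nat_lit 213, nat_lit 227, nat_lit 241, nat_lit 255, nat_lit 269, nat_lit 283, nat_lit 297, nat_lit 311, nat_lit 325, nat_lit 339]

noncomputable def chk : ℕ → Bool := chkRow0 row (nat_lit 24) (nat_lit 0x1f) (nat_lit 0x3e0) (nat_lit 10) (nat_lit 0xf) (nat_lit 0) (nat_lit 0x1f) (nat_lit 5) (nat_lit 0x1ff) (nat_lit 0x1c000) [] cols gens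

theorem b0 : allR chk 5 0 = true := by decide +kernel

noncomputable def T : CT := ⟨row, nat_lit 24, nat_lit 24, nat_lit 0x1f, nat_lit 0x3e0, nat_lit 10, nat_lit 0xf, nat_lit 0, nat_lit 0x1f, nat_lit 5, nat_lit 0x1ff, nat_lit 0x1c000, nat_lit 353, nat_lit 353, nat_lit 0, nat_lit 12, [], cols, erots, gens⟩

theorem all : ∀ c < 24, chk c = true := fun c hc =>
  allR_glue (d := 5) (n := 1) (forall_lt_succ' forall_lt_zero' b0) c (lt_of_lt_of_le hc (by norm_num))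

/-- the relators used -/
def R : List (List ℕ) := [[nat_lit 1, nat_lit 1],
  [nat_lit 5, nat_lit 5],
  [nat_lit 6, nat_lit 6],
  [nat_lit 10, nat_lit 10],
  [nat_lit 12, nat_lit 12],
  [nat_lit 13, nat_lit 13],
  [nat_lit 14, nat_lit 14],
  [nat_lit 15, nat_lit 15],
  [nat_lit 16, nat_lit 16],
  [nat_lit 17, nat_lit 17],
  [nat_lit 18, nat_lit 18],
  [nat_lit 19, nat_lit 19],
  [nat_lit 20, nat_lit 20],
  [nat_lit 21, nat_lit 21],
  [nat_lit 23, nat_lit 23],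
  [nat_lit 0, nat_lit 1, nat_lit 0, nat_lit 13],
  [nat_lit 0, nat_lit 12, nat_lit 0, nat_lit 14],
  [nat_lit 0, nat_lit 10, nat_lit 0, nat_lit 15],
  [nat_lit 11, nat_lit 1, nat_lit 11, nat_lit 16],
  [nat_lit 9, nat_lit 1, nat_lit 9, nat_lit 17],
  [nat_lit 9, nat_lit 6, nat_lit 9, nat_lit 18],
  [nat_lit 9, nat_lit 12, nat_lit 9, nat_lit 19],
  [nat_lit 9, nat_lit 13, nat_lit 9, nat_lit 20],
  [nat_lit 9, nat_lit 14, nat_lit 9, nat_lit 21],
  [nat_lit 13, nat_lit 16, nat_lit 22],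
  [nat_lit 13, nat_lit 21, nat_lit 13, nat_lit 23],
  [nat_lit 18, nat_lit 17, nat_lit 18, nat_lit 17],
  [nat_lit 21, nat_lit 17, nat_lit 21, nat_lit 17],
  [nat_lit 22, nat_lit 17, nat_lit 22, nat_lit 17],
  [nat_lit 22, nat_lit 18, nat_lit 22, nat_lit 18],
  [nat_lit 22, nat_lit 21, nat_lit 22, nat_lit 21],
  [nat_lit 23, nat_lit 18, nat_lit 23, nat_lit 18],
  [nat_lit 1, nat_lit 18, nat_lit 1, nat_lit 18],
  [nat_lit 10, nat_lit 1, nat_lit 10, nat_lit 1],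
  [nat_lit 10, nat_lit 17, nat_lit 10, nat_lit 17],
  [nat_lit 10, nat_lit 18, nat_lit 10, nat_lit 18],
  [nat_lit 10, nat_lit 20, nat_lit 10, nat_lit 20],
  [nat_lit 10, nat_lit 22, nat_lit 10, nat_lit 22],
  [nat_lit 13, nat_lit 10, nat_lit 13, nat_lit 10],
  [nat_lit 15, nat_lit 1, nat_lit 15, nat_lit 1],
  [nat_lit 15, nat_lit 18, nat_lit 15, nat_lit 18],
  [nat_lit 19, nat_lit 13, nat_lit 19, nat_lit 13],
  [nat_lit 3, nat_lit 1, nat_lit 3, nat_lit 1],
  [nat_lit 3, nat_lit 10, nat_lit 3, nat_lit 10],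
  [nat_lit 3, nat_lit 18, nat_lit 3, nat_lit 18],
  [nat_lit 6, nat_lit 1, nat_lit 6, nat_lit 1],
  [nat_lit 6, nat_lit 10, nat_lit 6, nat_lit 10],
  [nat_lit 6, nat_lit 13, nat_lit 6, nat_lit 13],
  [nat_lit 6, nat_lit 17, nat_lit 6, nat_lit 17],
  [nat_lit 12, nat_lit 1, nat_lit 12, nat_lit 1],
  [nat_lit 12, nat_lit 6, nat_lit 12, nat_lit 6],
  [nat_lit 12, nat_lit 10, nat_lit 12, nat_lit 10],
  [nat_lit 12, nat_lit 13, nat_lit 12, nat_lit 13],
  [nat_lit 12, nat_lit 18, nat_lit 12, nat_lit 18],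
  [nat_lit 14, nat_lit 1, nat_lit 14, nat_lit 1],
  [nat_lit 14, nat_lit 6, nat_lit 14, nat_lit 6],
  [nat_lit 14, nat_lit 10, nat_lit 14, nat_lit 10],
  [nat_lit 14, nat_lit 17, nat_lit 14, nat_lit 17],
  [nat_lit 9, nat_lit 10, nat_lit 9, nat_lit 10],
  [nat_lit 0, nat_lit 6, nat_lit 0, nat_lit 6],
  [nat_lit 6, nat_lit 10, nat_lit 11, nat_lit 15, nat_lit 18, nat_lit 11],
  [nat_lit 11, nat_lit 12, nat_lit 11, nat_lit 14, nat_lit 3, nat_lit 19, nat_lit 15, nat_lit 10, nat_lit 22, nat_lit 21, nat_lit 20, nat_lit 17],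
  [nat_lit 5, nat_lit 1, nat_lit 5, nat_lit 1, nat_lit 5, nat_lit 1],
  [nat_lit 5, nat_lit 12, nat_lit 5, nat_lit 12, nat_lit 5, nat_lit 12],
  [nat_lit 5, nat_lit 13, nat_lit 1, nat_lit 5, nat_lit 0, nat_lit 13, nat_lit 1],
  [nat_lit 5, nat_lit 6, nat_lit 9, nat_lit 6, nat_lit 5, nat_lit 9, nat_lit 6, nat_lit 18],
  [nat_lit 5, nat_lit 17, nat_lit 1, nat_lit 5, nat_lit 9, nat_lit 6, nat_lit 1, nat_lit 18, nat_lit 17],
  [nat_lit 5, nat_lit 6, nat_lit 5, nat_lit 10, nat_lit 5, nat_lit 6, nat_lit 5, nat_lit 3, nat_lit 10],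
  [nat_lit 1, nat_lit 5, nat_lit 12, nat_lit 11, nat_lit 14, nat_lit 19, nat_lit 23, nat_lit 5, nat_lit 16],
  [nat_lit 5, nat_lit 1, nat_lit 12, nat_lit 5, nat_lit 6, nat_lit 5, nat_lit 12, nat_lit 1, nat_lit 5, nat_lit 6],
  [nat_lit 5, nat_lit 1, nat_lit 6, nat_lit 5, nat_lit 6, nat_lit 1, nat_lit 5, nat_lit 14, nat_lit 12, nat_lit 6, nat_lit 13],
  [nat_lit 5, nat_lit 1, nat_lit 12, nat_lit 5, nat_lit 10, nat_lit 5, nat_lit 12, nat_lit 1, nat_lit 5, nat_lit 3, nat_lit 10],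
  [nat_lit 5, nat_lit 10, nat_lit 5, nat_lit 16, nat_lit 5, nat_lit 10, nat_lit 5, nat_lit 14, nat_lit 10, nat_lit 22, nat_lit 21, nat_lit 20]]

theorem cert : Cert T (R.map fun r => (r, 0)) ([0, 1, 3, 6, 9, 10, 11, 12, 13, 14, 15, 16, 17, 18, 19, 20, 21, 22, 23].map fun y => (y, 0)) 17 14 [0, 1, 3, 5, 6, 9, 10, 11, 12, 13, 14, 15, 16, 17, 18, 19, 20, 21, 22, 23] :=
  ⟨by decide +kernel, ⟨[[(64, 4), (15, 0), (16, 0), (59, 0)], [(0, 0), (62, 1), (33, 1), (45, 1), (49, 1)], [(42, 0), (67, 7), (43, 0), (44, 0), (71, 9)], [(1, 0), (72, 0), (62, 0), (63, 0), (67, 2), (69, 3), (70, 3), (71, 3)], [(2, 0), (46, 0), (67, 1), (50, 1), (69, 4), (70, 2)], [(19, 0), (65, 2), (20, 0), (58, 0), (66, 4)], [(3, 0), (51, 1), (71, 4), (67, 3), (72, 1)], [(68, 3), (18, 0), (61, 0), (60, 2)], [(4, 0), (63, 1)], [(5, 0), (64, 1), (38, 0), (47, 1), (52, 1)], [(6, 0), (16, 3), (56, 0), (70, 7), (54, 0), (55, 0)], [(17, 3), (7, 0), (39,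 0), (40, 0), (60, 3)], [(24, 1), (8, 0), (72, 3), (68, 8), (18, 3)], [(9, 0), (66, 1), (34, 1), (48, 1), (19, 3), (26, 1), (57, 1)], [(10, 0), (20, 3), (26, 0), (35, 1), (32, 1), (53, 1), (66, 7)], [(21, 3), (11, 0), (41, 0)], [(22, 3), (12, 0), (36, 1)], [(23, 3), (13, 0), (27, 0)], [(24, 2), (28, 0), (29, 0), (30, 0), (61, 8), (37, 1)], [(25, 3), (14, 0), (31, 0)]], [], by decide +kernel⟩, by decide +kernel, Or.inl ⟨rfl, all⟩⟩

theorem bound {Γ : Type*} [Group Γ] {x : ℕ → Γ} (hR : ∀ r ∈ R, ev x r = 1) {n : ℕ}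
    (h : CardLe x [0, 1, 3, 6, 9, 10, 11, 12, 13, 14, 15, 16, 17, 18, 19, 20, 21, 22, 23] n) : CardLe x [0, 1, 3, 5, 6, 9, 10, 11, 12, 13, 14, 15, 16, 17, 18, 19, 20, 21, 22, 23] (24 * n) :=
  cert.cardLe rfl hR h

end Cfsg.Agent.H3.F42.Tc3
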