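import Cfsg.Agent.L0.CosetChain

/-! Generated coset table certificate. -/

set_option autoImplicit false
set_option maxRecDepth 100000

open Cfsg.Agent.L0

namespace Cfsg.Agent.H3.F42.Tc4

noncomputable def t0 : BT := .leaf (nat_lit 0x9a6b2592c964b2591c924924924854b24800004900000da00249939c0eee6733a1c6e371b89e8e57bb89c273793000032600004ec01138e2e0245128d46a351a8d66a2512896480912890000112000022400c94250d08140a05028140a05028140a05020340a0400004080000810020404000)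

noncomputable def tree : BT := t0

noncomputable def row : ℕ → ℕ := rowOf tree (nat_lit 3) (nat_lit 7) (nat_lit 229) (nat_lit 0x1fffffffffffffffffffffffffffffffffffffffffffffffffffffffff)

noncomputable def cols : List Col := [⟨nat_lit 13, nat_lit 0, [([nat_lit 13], nat_lit 0), ([nat_lit 112, nat_lit 13, nat_lit 112], nat_lit 0)]⟩,
  ⟨nat_lit 22, nat_lit 1, [([nat_lit 112, nat_lit 157, nat_lit 112], nat_lit 0), ([nat_lit 13, nat_lit 130, nat_lit 13], nat_lit 0)]⟩,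
  ⟨nat_lit 40, nat_lit 1, [([nat_lit 13, nat_lit 40, nat_lit 13], nat_lit 0), ([nat_lit 184, nat_lit 148, nat_lit 103, nat_lit 211, nat_lit 202, nat_lit 193, nat_lit 166, nat_lit 112, nat_lit 121, nat_lit 112, nat_lit 139], nat_lit 0)]⟩,
  ⟨nat_lit 67, nat_lit 1, [([nat_lit 13, nat_lit 67, nat_lit 13], nat_lit 0), ([nat_lit 112, nat_lit 67, nat_lit 148, nat_lit 103, nat_lit 220, nat_lit 202, nat_lit 112], nat_lit 0)]⟩,
  ⟨nat_lit 94, nat_lit 1, [([nat_lit 13, nat_lit 94, nat_lit 13], nat_lit 0), ([nat_lit 112, nat_lit 94, nat_lit 112], nat_lit 0)]⟩,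
  ⟨nat_lit 103, nat_lit 1, [([nat_lit 13, nat_lit 148, nat_lit 13], nat_lit 0), ([nat_lit 112, nat_lit 148, nat_lit 175, nat_lit 112, nat_lit 67], nat_lit 0)]⟩,
  ⟨nat_lit 112, nat_lit 0, [([nat_lit 112], nat_lit 0)]⟩,
  ⟨nat_lit 121, nat_lit 1, [([nat_lit 112, nat_lit 139, nat_lit 40, nat_lit 184, nat_lit 148, nat_lit 103, nat_lit 211, nat_lit 202, nat_lit 193, nat_lit 166, nat_lit 112], nat_lit 0), ([nat_lit 13, nat_lit 139, nat_lit 13], nat_lit 0)]⟩,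
  ⟨nat_lit 130, nat_lit 1, [([nat_lit 13, nat_lit 22, nat_lit 13], nat_lit 0), ([nat_lit 157, nat_lit 211], nat_lit 0)]⟩,
  ⟨nat_lit 139, nat_lit 1, [([nat_lit 13, nat_lit 121, nat_lit 13], nat_lit 0)]⟩,
  ⟨nat_lit 148, nat_lit 1, [([nat_lit 13, nat_lit 103, nat_lit 13], nat_lit 0), ([nat_lit 175, nat_lit 112, nat_lit 67, nat_lit 103, nat_lit 112], nat_lit 0)]⟩,
  ⟨nat_lit 157, nat_lit 1, [([nat_lit 112, nat_lit 22, nat_lit 112], nat_lit 0), ([nat_lit 211, nat_lit 130], nat_lit 0)]⟩,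
  ⟨nat_lit 166, nat_lit 1, [([nat_lit 94, nat_lit 22, nat_lit 94], nat_lit 0)]⟩,
  ⟨nat_lit 175, nat_lit 1, [([nat_lit 94, nat_lit 67, nat_lit 94], nat_lit 0)]⟩,
  ⟨nat_lit 184, nat_lit 1, [([nat_lit 94, nat_lit 121, nat_lit 94], nat_lit 0)]⟩,
  ⟨nat_lit 193, nat_lit 1, [([nat_lit 94, nat_lit 130, nat_lit 94], nat_lit 0)]⟩,
  ⟨nat_lit 202, nat_lit 1, [([nat_lit 94, nat_lit 139, nat_lit 94], nat_lit 0)]⟩,
  ⟨nat_lit 211, nat_lit 1, [([nat_lit 13, nat_lit 211, nat_lit 13], nat_lit 0), ([nat_lit 130, nat_lit 157], nat_lit 0)]⟩,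
  ⟨nat_lit 220, nat_lit 1, [([nat_lit 130, nat_lit 202, nat_lit 130], nat_lit 0), ([nat_lit 202, nat_lit 184, nat_lit 22, nat_lit 184, nat_lit 22], nat_lit 0)]⟩]

noncomputable def erots : List (List ℕ × ℕ) := []

noncomputable def gens : List ℕ := [nat_lit 13, nat_lit 22, nat_lit 40, nat_lit 67, nat_lit 94, nat_lit 103, nat_lit 112, nat_lit 121, nat_lit 130, nat_lit 139, nat_lit 148, nat_lit 157, nat_lit 166, nat_lit 175, nat_lit 184, nat_lit 193, nat_lit 202, nat_lit 211, nat_lit 220]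

noncomputable def chk : ℕ → Bool := chkRow0 row (nat_lit 4) (nat_lit 0x7) (nat_lit 0x78) (nat_lit 7) (nat_lit 0x3) (nat_lit 0) (nat_lit 0x7) (nat_lit 3) (nat_lit 0xff) (nat_lit 0x1800) [] cols gens

theorem b0 : allR chk 2 0 = true := by decide +kernel

noncomputable def T : CT := ⟨row, nat_lit 4, nat_lit 4, nat_lit 0x7, nat_lit 0x78, nat_lit 7, nat_lit 0x3, nat_lit 0, nat_lit 0x7, nat_lit 3, nat_lit 0xff, nat_lit 0x1800, nat_lit 229, nat_lit 229, nat_lit 0, nat_lit 12, [], cols, erots, gens⟩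

theorem all : ∀ c < 4, chk c = true := fun c hc =>
  allR_glue (d := 2) (n := 1) (forall_lt_succ' forall_lt_zero' b0) c (lt_of_lt_of_le hc (by norm_num))

/-- the relators used -/
def R : List (List ℕ) := [[nat_lit 0, nat_lit 0],
  [nat_lit 11, nat_lit 11],
  [nat_lit 0, nat_lit 1, nat_lit 0, nat_lit 13],
  [nat_lit 0, nat_lit 12, nat_lit 0, nat_lit 14],
  [nat_lit 0, nat_lit 10, nat_lit 0, nat_lit 15],
  [nat_lit 11, nat_lit 1, nat_lit 11, nat_lit 16],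
  [nat_lit 9, nat_lit 1, nat_lit 9, nat_lit 17],
  [nat_lit 9, nat_lit 6, nat_lit 9, nat_lit 18],
  [nat_lit 9, nat_lit 12, nat_lit 9, nat_lit 19],
  [nat_lit 9, nat_lit 13, nat_lit 9, nat_lit 20],
  [nat_lit 9, nat_lit 14, nat_lit 9, nat_lit 21],
  [nat_lit 13, nat_lit 16, nat_lit 22],
  [nat_lit 13, nat_lit 21, nat_lit 13, nat_lit 23],
  [nat_lit 19, nat_lit 1, nat_lit 19, nat_lit 1, nat_lit 23, nat_lit 21],
  [nat_lit 0, nat_lit 3, nat_lit 0, nat_lit 3],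
  [nat_lit 0, nat_lit 6, nat_lit 0, nat_lit 6],
  [nat_lit 0, nat_lit 9, nat_lit 0, nat_lit 9],
  [nat_lit 0, nat_lit 22, nat_lit 0, nat_lit 22],
  [nat_lit 11, nat_lit 0, nat_lit 11, nat_lit 0],
  [nat_lit 11, nat_lit 9, nat_lit 11, nat_lit 9],
  [nat_lit 11, nat_lit 6, nat_lit 11, nat_lit 6, nat_lit 15, nat_lit 10, nat_lit 23, nat_lit 21],
  [nat_lit 6, nat_lit 10, nat_lit 11, nat_lit 15, nat_lit 18, nat_lit 11],
  [nat_lit 11, nat_lit 12, nat_lit 11, nat_lit 14, nat_lit 3, nat_lit 19, nat_lit 15, nat_lit 10, nat_lit 22, nat_lit 21, nat_lit 20, nat_lit 17]]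

theorem cert : Cert T (R.map fun r => (r, 0)) ([1, 3, 6, 9, 10, 12, 13, 14, 15, 16, 17, 18, 19, 20, 21, 22, 23].map fun y => (y, 0)) 13 9 [0, 1, 3, 6, 9, 10, 11, 12, 13, 14, 15, 16, 17, 18, 19, 20, 21, 22, 23] :=
  ⟨by decide +kernel, ⟨[[(0, 0), (18, 1)], [(5, 1), (2, 1)], [(14, 1), (22, 4)], [(15, 1), (20, 1)], [(16, 1), (19, 1)], [(4, 1), (21, 1)], [(1, 0)], [(22, 1), (3, 1)], [(2, 3), (11, 0)], [(3, 3)], [(4, 3), (21, 3)], [(5, 3), (11, 1)], [(6, 3)], [(7, 3)], [(8, 3)], [(9, 3)], [(10, 3)], [(17, 1), (11, 2)], [(12, 3), (13, 4)]], [], by decide +kernel⟩, by decide +kernel, Or.inl ⟨rfl, all⟩⟩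

theorem bound {Γ : Type*} [Group Γ] {x : ℕ → Γ} (hR : ∀ r ∈ R, ev x r = 1) {n : ℕ}
    (h : CardLe x [1, 3, 6, 9, 10, 12, 13, 14, 15, 16, 17, 18, 19, 20, 21, 22, 23] n) : CardLe x [0, 1, 3, 6, 9, 10, 11, 12, 13, 14, 15, 16, 17, 18, 19, 20, 21, 22, 23] (4 * n) :=
  cert.cardLe rfl hR h

end Cfsg.Agent.H3.F42.Tc4
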