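import Cfsg.Agent.L0.CosetChain

/-! Generated coset table certificate. -/

set_option autoImplicit false
set_option maxRecDepth 100000

open Cfsg.Agent.L0

namespace Cfsg.Agent.H3.F42.Tc6

noncomputable def t0 : BT := .node (.leaf (nat_lit 0x4a84884884884884884884a848842248846e00048800000000046d000000a450004880004b90a53a43a43a43a43a43a43a53a43807243a110002438000000002360000004220002438002508529921921921921921921929921803521803000121800000000108800000190c00121800116428cb48b48b48b48b48b08a8cb48a84348a8d600148a0000000008d40000008d000148a0005720464844844844844844a4446484400b8444210008440000000004690000004670008440002a10231b21b21b21b21b21b21a31b2180532180480032180000000021080000023300032180012c8118910910910910910910918910802110801c0011080000000000180000010840011080008d4040240240240240240240240240200a4020080004020000000000060000000040004020000000)) (.leaf (nat_lit 0x53051051051051051051053051042c51064d0005100000000004ae000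0004ef0005100008b95a77b67b67b67b67b67b67a77b67a14b67b2500036780000000025580000036800036780035ca13b93393393393393393393b933909d339920001338000000001a400000012ac001338001ae4c9da99a99a99a99a99a99a9da99a84c99a8e000099a00000000109000000095400099a000d7254ec4cc4cc4cc4cc4cc4cc4ec4cc0104cc4260004cc0000000006470000004a90004cc0006a12a55c45c45c45c45c45c35a55c45a12445b2280044580000000034780000044700044580025c8d2a9a29a29a29a29a29a292a9a2908da291bc001a28000000002114000001a34001a280012e44952d12d12d12d12d12d12952d1201ed12846000d12000000000c88000000d18000d120009422))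

noncomputable def tree : BT := t0

noncomputable def row : ℕ → ℕ := rowOf tree (nat_lit 3) (nat_lit 7) (nat_lit 305) (nat_lit 0x1ffffffffffffffffffffffffffffffffffffffffffffffffffffffffffffffffffffffffffff)

noncomputable def cols : List Col := [⟨nat_lit 29, nat_lit 1, [([nat_lit 53, nat_lit 29, nat_lit 53], nat_lit 0), ([nat_lit 89, nat_lit 29, nat_lit 89], nat_lit 0), ([nat_lit 161, nat_lit 29, nat_lit 161], nat_lit 0), ([nat_lit 185, nat_lit 29, nat_lit 185], nat_lit 0)]⟩,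
  ⟨nat_lit 53, nat_lit 0, [([nat_lit 53], nat_lit 0), ([nat_lit 89, nat_lit 53, nat_lit 89], nat_lit 0), ([nat_lit 161, nat_lit 53, nat_lit 161], nat_lit 0), ([nat_lit 185, nat_lit 53, nat_lit 185], nat_lit 0)]⟩,
  ⟨nat_lit 89, nat_lit 0, [([nat_lit 89], nat_lit 0), ([nat_lit 161, nat_lit 89, nat_lit 161], nat_lit 0), ([nat_lit 185, nat_lit 89, nat_lit 185], nat_lit 0)]⟩,
  ⟨nat_lit 137, nat_lit 1, [([nat_lit 53, nat_lit 137, nat_lit 53], nat_lit 0), ([nat_lit 89, nat_lit 137, nat_lit 89], nat_lit 0), ([nat_lit 161, nat_lit 137, nat_lit 161], nat_lit 0), ([nat_lit 185, nat_lit 137, nat_lit 185], nat_lit 0)]⟩,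
  ⟨nat_lit 161, nat_lit 0, [([nat_lit 161], nat_lit 0), ([nat_lit 185, nat_lit 161, nat_lit 185], nat_lit 0)]⟩,
  ⟨nat_lit 173, nat_lit 1, [([nat_lit 53, nat_lit 173, nat_lit 53], nat_lit 0), ([nat_lit 89, nat_lit 173, nat_lit 89], nat_lit 0), ([nat_lit 161, nat_lit 173, nat_lit 161], nat_lit 0), ([nat_lit 185, nat_lit 173, nat_lit 185], nat_lit 0)]⟩,
  ⟨nat_lit 185, nat_lit 0, [([nat_lit 185], nat_lit 0)]⟩,
  ⟨nat_lit 197, nat_lit 1, [([nat_lit 53, nat_lit 197, nat_lit 53], nat_lit 0), ([nat_lit 89, nat_lit 197, nat_lit 89], nat_lit 0), ([nat_lit 161, nat_lit 197, nat_lit 161], nat_lit 0), ([nat_lit 185, nat_lit 197, nat_lit 185], nat_lit 0)]⟩,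
  ⟨nat_lit 209, nat_lit 1, [([nat_lit 281, nat_lit 173], nat_lit 0)]⟩,
  ⟨nat_lit 221, nat_lit 1, [([nat_lit 53, nat_lit 221, nat_lit 53], nat_lit 0), ([nat_lit 89, nat_lit 221, nat_lit 89], nat_lit 0), ([nat_lit 185, nat_lit 221, nat_lit 185], nat_lit 0), ([nat_lit 161, nat_lit 293, nat_lit 269, nat_lit 221, nat_lit 161], nat_lit 0)]⟩,
  ⟨nat_lit 233, nat_lit 1, [([nat_lit 53, nat_lit 233, nat_lit 53], nat_lit 0), ([nat_lit 89, nat_lit 233, nat_lit 89], nat_lit 0), ([nat_lit 161, nat_lit 233, nat_lit 161], nat_lit 0), ([nat_lit 185, nat_lit 233, nat_lit 185], nat_lit 0)]⟩,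
  ⟨nat_lit 245, nat_lit 1, [([nat_lit 53, nat_lit 245, nat_lit 53], nat_lit 0), ([nat_lit 89, nat_lit 245, nat_lit 89], nat_lit 0), ([nat_lit 161, nat_lit 245, nat_lit 161], nat_lit 0), ([nat_lit 185, nat_lit 245, nat_lit 185], nat_lit 0)]⟩,
  ⟨nat_lit 257, nat_lit 1, [([nat_lit 53, nat_lit 257, nat_lit 53], nat_lit 0), ([nat_lit 89, nat_lit 257, nat_lit 89], nat_lit 0), ([nat_lit 161, nat_lit 257, nat_lit 161], nat_lit 0), ([nat_lit 185, nat_lit 293, nat_lit 269, nat_lit 257, nat_lit 185], nat_lit 0)]⟩,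
  ⟨nat_lit 269, nat_lit 1, [([nat_lit 53, nat_lit 269, nat_lit 53], nat_lit 0), ([nat_lit 89, nat_lit 269, nat_lit 89], nat_lit 0), ([nat_lit 161, nat_lit 269, nat_lit 161], nat_lit 0), ([nat_lit 185, nat_lit 269, nat_lit 185], nat_lit 0)]⟩,
  ⟨nat_lit 281, nat_lit 1, [([nat_lit 53, nat_lit 281, nat_lit 53], nat_lit 0), ([nat_lit 89, nat_lit 281, nat_lit 89], nat_lit 0), ([nat_lit 161, nat_lit 293, nat_lit 281, nat_lit 269, nat_lit 161], nat_lit 0), ([nat_lit 185, nat_lit 293, nat_lit 281, nat_lit 269, nat_lit 185], nat_lit 0)]⟩,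
  ⟨nat_lit 293, nat_lit 1, [([nat_lit 173, nat_lit 269, nat_lit 173], nat_lit 0)]⟩]

noncomputable def erots : List (List ℕ × ℕ) := []

noncomputable def gens : List ℕ := [nat_lit 29, nat_lit 53, nat_lit 89, nat_lit 137, nat_lit 161, nat_lit 173, nat_lit 185, nat_lit 197, nat_lit 209, nat_lit 221, nat_lit 233, nat_lit 245, nat_lit 257, nat_lit 269, nat_lit 281, nat_lit 293]

noncomputable def chk : ℕ → Bool := chkRow0 row (nat_lit 16) (nat_lit 0x1f) (nat_lit 0x1e0) (nat_lit 9) (nat_lit 0x7) (nat_lit 0) (nat_lit 0x1f) (nat_lit 5) (nat_lit 0x1ff) (nat_lit 0x1c000) [] cols gens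

theorem b0 : allR chk 4 0 = true := by decide +kernel

noncomputable def T : CT := ⟨row, nat_lit 16, nat_lit 16, nat_lit 0x1f, nat_lit 0x1e0, nat_lit 9, nat_lit 0x7, nat_lit 0, nat_lit 0x1f, nat_lit 5, nat_lit 0x1ff, nat_lit 0x1c000, nat_lit 305, nat_lit 305, nat_lit 0, nat_lit 6, [], cols, erots, gens⟩

theorem all : ∀ c < 16, chk c = true := fun c hc =>
  allR_glue (d := 4) (n := 1) (forall_lt_succ' forall_lt_zero' b0) c (lt_of_lt_of_le hc (by norm_num))

/-- the relators used -/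
def R : List (List ℕ) := [[nat_lit 3, nat_lit 3],
  [nat_lit 6, nat_lit 6],
  [nat_lit 12, nat_lit 12],
  [nat_lit 14, nat_lit 14],
  [nat_lit 13, nat_lit 16, nat_lit 22],
  [nat_lit 13, nat_lit 21, nat_lit 13, nat_lit 23],
  [nat_lit 3, nat_lit 1, nat_lit 3, nat_lit 1],
  [nat_lit 3, nat_lit 10, nat_lit 3, nat_lit 10],
  [nat_lit 3, nat_lit 13, nat_lit 3, nat_lit 13],
  [nat_lit 3, nat_lit 15, nat_lit 3, nat_lit 15],
  [nat_lit 3, nat_lit 17, nat_lit 3, nat_lit 17],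
  [nat_lit 3, nat_lit 18, nat_lit 3, nat_lit 18],
  [nat_lit 3, nat_lit 19, nat_lit 3, nat_lit 19],
  [nat_lit 3, nat_lit 20, nat_lit 3, nat_lit 20],
  [nat_lit 3, nat_lit 21, nat_lit 3, nat_lit 21],
  [nat_lit 3, nat_lit 22, nat_lit 3, nat_lit 22],
  [nat_lit 6, nat_lit 1, nat_lit 6, nat_lit 1],
  [nat_lit 6, nat_lit 3, nat_lit 6, nat_lit 3],
  [nat_lit 6, nat_lit 10, nat_lit 6, nat_lit 10],
  [nat_lit 6, nat_lit 13, nat_lit 6, nat_lit 13],
  [nat_lit 6, nat_lit 15, nat_lit 6, nat_lit 15],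
  [nat_lit 6, nat_lit 17, nat_lit 6, nat_lit 17],
  [nat_lit 6, nat_lit 18, nat_lit 6, nat_lit 18],
  [nat_lit 6, nat_lit 19, nat_lit 6, nat_lit 19],
  [nat_lit 6, nat_lit 20, nat_lit 6, nat_lit 20],
  [nat_lit 6, nat_lit 21, nat_lit 6, nat_lit 21],
  [nat_lit 6, nat_lit 22, nat_lit 6, nat_lit 22],
  [nat_lit 12, nat_lit 1, nat_lit 12, nat_lit 1],
  [nat_lit 12, nat_lit 3, nat_lit 12, nat_lit 3],
  [nat_lit 12, nat_lit 6, nat_lit 12, nat_lit 6],
  [nat_lit 12, nat_lit 10, nat_lit 12, nat_lit 10],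
  [nat_lit 12, nat_lit 13, nat_lit 12, nat_lit 13],
  [nat_lit 12, nat_lit 15, nat_lit 12, nat_lit 15],
  [nat_lit 12, nat_lit 18, nat_lit 12, nat_lit 18],
  [nat_lit 12, nat_lit 19, nat_lit 12, nat_lit 19],
  [nat_lit 12, nat_lit 20, nat_lit 12, nat_lit 20],
  [nat_lit 12, nat_lit 21, nat_lit 12, nat_lit 21],
  [nat_lit 14, nat_lit 1, nat_lit 14, nat_lit 1],
  [nat_lit 14, nat_lit 3, nat_lit 14, nat_lit 3],
  [nat_lit 14, nat_lit 6, nat_lit 14, nat_lit 6],
  [nat_lit 14, nat_lit 10, nat_lit 14, nat_lit 10],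
  [nat_lit 14, nat_lit 12, nat_lit 14, nat_lit 12],
  [nat_lit 14, nat_lit 13, nat_lit 14, nat_lit 13],
  [nat_lit 14, nat_lit 15, nat_lit 14, nat_lit 15],
  [nat_lit 14, nat_lit 17, nat_lit 14, nat_lit 17],
  [nat_lit 14, nat_lit 18, nat_lit 14, nat_lit 18],
  [nat_lit 14, nat_lit 19, nat_lit 14, nat_lit 19],
  [nat_lit 14, nat_lit 21, nat_lit 14, nat_lit 21],
  [nat_lit 12, nat_lit 17, nat_lit 12, nat_lit 23, nat_lit 21, nat_lit 17],
  [nat_lit 12, nat_lit 22, nat_lit 12, nat_lit 23, nat_lit 22, nat_lit 21],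
  [nat_lit 14, nat_lit 20, nat_lit 14, nat_lit 23, nat_lit 21, nat_lit 20],
  [nat_lit 14, nat_lit 22, nat_lit 14, nat_lit 23, nat_lit 22, nat_lit 21]]

theorem cert : Cert T (R.map fun r => (r, 0)) ([1, 10, 13, 15, 16, 17, 18, 19, 20, 21, 22, 23].map fun y => (y, 0)) 17 12 [1, 3, 6, 10, 12, 13, 14, 15, 16, 17, 18, 19, 20, 21, 22, 23] :=
  ⟨by decide +kernel, ⟨[[(6, 1), (16, 1), (27, 1), (37, 1)], [(0, 0), (17, 1), (28, 1), (38, 1)], [(1, 0), (29, 1), (39, 1)], [(7, 1), (18, 1), (30, 1), (40, 1)], [(2, 0), (41, 1)], [(8, 1), (19, 1), (31, 1), (42, 1)], [(3, 0)], [(9, 1), (20, 1), (32, 1), (43, 1)], [(4, 1)], [(10, 1), (21, 1), (44, 1), (48, 1)], [(11, 1), (22, 1), (33, 1), (45, 1)], [(12, 1), (23, 1), (34, 1), (46, 1)], [(13, 1), (24, 1), (35, 1), (50, 1)], [(14, 1), (25, 1), (36, 1), (47, 1)], [(15, 1), (26, 1), (49, 1), (51, 1)], [(5, 3)]], [], by decide +kernel⟩, by decide +kernel, Or.inl ⟨rfl, all⟩⟩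

theorem bound {Γ : Type*} [Group Γ] {x : ℕ → Γ} (hR : ∀ r ∈ R, ev x r = 1) {n : ℕ}
    (h : CardLe x [1, 10, 13, 15, 16, 17, 18, 19, 20, 21, 22, 23] n) : CardLe x [1, 3, 6, 10, 12, 13, 14, 15, 16, 17, 18, 19, 20, 21, 22, 23] (16 * n) :=
  cert.cardLe rfl hR h

end Cfsg.Agent.H3.F42.Tc6
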