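import Cfsg.Agent.L0.CosetChain

/-! Generated coset table certificate. -/

set_option autoImplicit false
set_option maxRecDepth 100000

open Cfsg.Agent.L0

namespace Cfsg.Agent.H3.F42.Tc7

noncomputable def t0 : BT := .leaf (nat_lit 0xaca4a4a48aa4a4acd300a40000a40000000000000000a400a94cde9e9e9c4e9e9cdce00698000698000000000000000698034a26a4a4a48124a4a6a24024800024800000000000000024801850828282820682828204008200008200000000000000008200000)

noncomputable def tree : BT := t0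

noncomputable def row : ℕ → ℕ := rowOf tree (nat_lit 3) (nat_lit 7) (nat_lit 205) (nat_lit 0x1fffffffffffffffffffffffffffffffffffffffffffffffffff)

noncomputable def cols : List Col := [⟨nat_lit 21, nat_lit 1, [([nat_lit 133, nat_lit 21, nat_lit 133], nat_lit 0), ([nat_lit 165, nat_lit 21, nat_lit 197, nat_lit 181, nat_lit 165], nat_lit 0)]⟩,
  ⟨nat_lit 93, nat_lit 1, [([nat_lit 133, nat_lit 93, nat_lit 133], nat_lit 0), ([nat_lit 165, nat_lit 93, nat_lit 165], nat_lit 0)]⟩,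
  ⟨nat_lit 117, nat_lit 1, [([nat_lit 133, nat_lit 117, nat_lit 133], nat_lit 0), ([nat_lit 165, nat_lit 117, nat_lit 165], nat_lit 0)]⟩,
  ⟨nat_lit 133, nat_lit 0, [([nat_lit 133], nat_lit 0), ([nat_lit 165, nat_lit 133, nat_lit 165], nat_lit 0)]⟩,
  ⟨nat_lit 141, nat_lit 1, [([nat_lit 189, nat_lit 117], nat_lit 0)]⟩,
  ⟨nat_lit 149, nat_lit 1, [([nat_lit 133, nat_lit 149, nat_lit 133], nat_lit 0), ([nat_lit 165, nat_lit 149, nat_lit 165], nat_lit 0)]⟩,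
  ⟨nat_lit 157, nat_lit 1, [([nat_lit 133, nat_lit 157, nat_lit 133], nat_lit 0), ([nat_lit 165, nat_lit 157, nat_lit 165], nat_lit 0)]⟩,
  ⟨nat_lit 165, nat_lit 0, [([nat_lit 165], nat_lit 0)]⟩,
  ⟨nat_lit 173, nat_lit 1, [([nat_lit 133, nat_lit 173, nat_lit 133], nat_lit 0), ([nat_lit 165, nat_lit 173, nat_lit 165], nat_lit 0)]⟩,
  ⟨nat_lit 181, nat_lit 1, [([nat_lit 133, nat_lit 181, nat_lit 133], nat_lit 0), ([nat_lit 165, nat_lit 181, nat_lit 165], nat_lit 0)]⟩,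
  ⟨nat_lit 189, nat_lit 1, [([nat_lit 133, nat_lit 189, nat_lit 133], nat_lit 0), ([nat_lit 165, nat_lit 189, nat_lit 165], nat_lit 0)]⟩,
  ⟨nat_lit 197, nat_lit 1, [([nat_lit 117, nat_lit 181, nat_lit 117], nat_lit 0)]⟩]

noncomputable def erots : List (List ℕ × ℕ) := []

noncomputable def gens : List ℕ := [nat_lit 21, nat_lit 93, nat_lit 117, nat_lit 133, nat_lit 141, nat_lit 149, nat_lit 157, nat_lit 165, nat_lit 173, nat_lit 181, nat_lit 189, nat_lit 197]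

noncomputable def chk : ℕ → Bool := chkRow0 row (nat_lit 4) (nat_lit 0x7) (nat_lit 0x38) (nat_lit 6) (nat_lit 0x3) (nat_lit 0) (nat_lit 0x7) (nat_lit 3) (nat_lit 0xff) (nat_lit 0x1800) [] cols gens

theorem b0 : allR chk 2 0 = true := by decide +kernel

noncomputable def T : CT := ⟨row, nat_lit 4, nat_lit 4, nat_lit 0x7, nat_lit 0x38, nat_lit 6, nat_lit 0x3, nat_lit 0, nat_lit 0x7, nat_lit 3, nat_lit 0xff, nat_lit 0x1800, nat_lit 205, nat_lit 205, nat_lit 0, nat_lit 6, [], cols, erots, gens⟩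

theorem all : ∀ c < 4, chk c = true := fun c hc =>
  allR_glue (d := 2) (n := 1) (forall_lt_succ' forall_lt_zero' b0) c (lt_of_lt_of_le hc (by norm_num))

/-- the relators used -/
def R : List (List ℕ) := [[nat_lit 15, nat_lit 15],
  [nat_lit 19, nat_lit 19],
  [nat_lit 13, nat_lit 16, nat_lit 22],
  [nat_lit 13, nat_lit 21, nat_lit 13, nat_lit 23],
  [nat_lit 15, nat_lit 1, nat_lit 15, nat_lit 1],
  [nat_lit 15, nat_lit 10, nat_lit 15, nat_lit 10],
  [nat_lit 15, nat_lit 13, nat_lit 15, nat_lit 13],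
  [nat_lit 15, nat_lit 17, nat_lit 15, nat_lit 17],
  [nat_lit 15, nat_lit 18, nat_lit 15, nat_lit 18],
  [nat_lit 15, nat_lit 20, nat_lit 15, nat_lit 20],
  [nat_lit 15, nat_lit 21, nat_lit 15, nat_lit 21],
  [nat_lit 15, nat_lit 22, nat_lit 15, nat_lit 22],
  [nat_lit 19, nat_lit 10, nat_lit 19, nat_lit 10],
  [nat_lit 19, nat_lit 13, nat_lit 19, nat_lit 13],
  [nat_lit 19, nat_lit 15, nat_lit 19, nat_lit 15],
  [nat_lit 19, nat_lit 17, nat_lit 19, nat_lit 17],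
  [nat_lit 19, nat_lit 18, nat_lit 19, nat_lit 18],
  [nat_lit 19, nat_lit 20, nat_lit 19, nat_lit 20],
  [nat_lit 19, nat_lit 21, nat_lit 19, nat_lit 21],
  [nat_lit 19, nat_lit 22, nat_lit 19, nat_lit 22],
  [nat_lit 19, nat_lit 1, nat_lit 19, nat_lit 1, nat_lit 23, nat_lit 21]]

theorem cert : Cert T (R.map fun r => (r, 0)) ([1, 10, 13, 16, 17, 18, 20, 21, 22, 23].map fun y => (y, 0)) 13 8 [1, 10, 13, 15, 16, 17, 18, 19, 20, 21, 22, 23] :=
  ⟨by decide +kernel, ⟨[[(4, 1), (20, 1)], [(5, 1), (12, 1)], [(6, 1), (13, 1)], [(0, 0), (14, 1)], [(2, 1)], [(7, 1), (15, 1)], [(8, 1), (16, 1)], [(1, 0)], [(9, 1), (17, 1)], [(10, 1), (18, 1)], [(11, 1), (19, 1)], [(3, 3)]], [], by decide +kernel⟩, by decide +kernel, Or.inl ⟨rfl, all⟩⟩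

theorem bound {Γ : Type*} [Group Γ] {x : ℕ → Γ} (hR : ∀ r ∈ R, ev x r = 1) {n : ℕ}
    (h : CardLe x [1, 10, 13, 16, 17, 18, 20, 21, 22, 23] n) : CardLe x [1, 10, 13, 15, 16, 17, 18, 19, 20, 21, 22, 23] (4 * n) :=
  cert.cardLe rfl hR h

end Cfsg.Agent.H3.F42.Tc7
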