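import Cfsg.Agent.L0.CosetChain

/-! Generated coset table certificate. -/

set_option autoImplicit false
set_option maxRecDepth 100000

open Cfsg.Agent.L0

namespace Cfsg.Agent.H3.F42.Tc8

noncomputable def t0 : BT := .leaf (nat_lit 0x2abaaa80aaad40025000a8000000000002a02b2228a28808a35000040008800000000000220000)

noncomputable def tree : BT := t0

noncomputable def row : ℕ → ℕ := rowOf tree (nat_lit 3) (nat_lit 7) (nat_lit 155) (nat_lit 0x7ffffffffffffffffffffffffffffffffffffff)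

noncomputable def cols : List Col := [⟨nat_lit 17, nat_lit 1, [([nat_lit 89, nat_lit 17, nat_lit 89], nat_lit 0)]⟩,
  ⟨nat_lit 71, nat_lit 1, [([nat_lit 89, nat_lit 71, nat_lit 89], nat_lit 0)]⟩,
  ⟨nat_lit 89, nat_lit 0, [([nat_lit 89], nat_lit 0)]⟩,
  ⟨nat_lit 107, nat_lit 0, [([nat_lit 107], nat_lit 0), ([nat_lit 143, nat_lit 89], nat_lit 0)]⟩,
  ⟨nat_lit 113, nat_lit 1, [([nat_lit 89, nat_lit 113, nat_lit 89], nat_lit 0)]⟩,
  ⟨nat_lit 119, nat_lit 1, [([nat_lit 89, nat_lit 119, nat_lit 89], nat_lit 0)]⟩,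
  ⟨nat_lit 131, nat_lit 1, [([nat_lit 89, nat_lit 131, nat_lit 89], nat_lit 0)]⟩,
  ⟨nat_lit 137, nat_lit 1, [([nat_lit 89, nat_lit 149, nat_lit 89], nat_lit 0)]⟩,
  ⟨nat_lit 143, nat_lit 1, [([nat_lit 89, nat_lit 107], nat_lit 0)]⟩,
  ⟨nat_lit 149, nat_lit 1, [([nat_lit 89, nat_lit 137, nat_lit 89], nat_lit 0)]⟩]

noncomputable def erots : List (List ℕ × ℕ) := []

noncomputable def gens : List ℕ := [nat_lit 17, nat_lit 71, nat_lit 89, nat_lit 107, nat_lit 113, nat_lit 119, nat_lit 131, nat_lit 137, nat_lit 143, nat_lit 149]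

noncomputable def chk : ℕ → Bool := chkRow0 row (nat_lit 2) (nat_lit 0x3) (nat_lit 0xc) (nat_lit 4) (nat_lit 0x3) (nat_lit 0) (nat_lit 0x3) (nat_lit 2) (nat_lit 0xff) (nat_lit 0x400) [] cols gens

theorem b0 : allR chk 1 0 = true := by decide +kernel

noncomputable def T : CT := ⟨row, nat_lit 2, nat_lit 2, nat_lit 0x3, nat_lit 0xc, nat_lit 4, nat_lit 0x3, nat_lit 0, nat_lit 0x3, nat_lit 2, nat_lit 0xff, nat_lit 0x400, nat_lit 155, nat_lit 155, nat_lit 0, nat_lit 4, [], cols, erots, gens⟩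

theorem all : ∀ c < 2, chk c = true := fun c hc =>
  allR_glue (d := 1) (n := 1) (forall_lt_succ' forall_lt_zero' b0) c (lt_of_lt_of_le hc (by norm_num))

/-- the relators used -/
def R : List (List ℕ) := [[nat_lit 13, nat_lit 13],
  [nat_lit 16, nat_lit 16],
  [nat_lit 13, nat_lit 16, nat_lit 22],
  [nat_lit 13, nat_lit 21, nat_lit 13, nat_lit 23],
  [nat_lit 13, nat_lit 1, nat_lit 13, nat_lit 1],
  [nat_lit 13, nat_lit 10, nat_lit 13, nat_lit 10],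
  [nat_lit 13, nat_lit 17, nat_lit 13, nat_lit 17],
  [nat_lit 13, nat_lit 18, nat_lit 13, nat_lit 18],
  [nat_lit 13, nat_lit 20, nat_lit 13, nat_lit 20]]

theorem cert : Cert T (R.map fun r => (r, 0)) ([1, 10, 17, 18, 20, 21, 22, 23].map fun y => (y, 0)) 11 6 [1, 10, 13, 16, 17, 18, 20, 21, 22, 23] :=
  ⟨by decide +kernel, ⟨[[(4, 1)], [(5, 1)], [(0, 0)], [(1, 0), (2, 1)], [(6, 1)], [(7, 1)], [(8, 1)], [(3, 1)], [(2, 2)], [(3, 3)]], [], by decide +kernel⟩, by decide +kernel, Or.inl ⟨rfl, all⟩⟩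

theorem bound {Γ : Type*} [Group Γ] {x : ℕ → Γ} (hR : ∀ r ∈ R, ev x r = 1) {n : ℕ}
    (h : CardLe x [1, 10, 17, 18, 20, 21, 22, 23] n) : CardLe x [1, 10, 13, 16, 17, 18, 20, 21, 22, 23] (2 * n) :=
  cert.cardLe rfl hR h

end Cfsg.Agent.H3.F42.Tc8
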